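import Cfsg.Agent.Lib.PrimeTwoQ.Common
import Mathlib.GroupTheory.Perm.Cycle.Type

/-!
# The colouring of triples when two-point stabilisers have two orbits on the rest

The smaller orbit defines a totally symmetric invariant colouring `R`.
-/

set_option autoImplicit false
set_option linter.unusedSectionVars false
set_option linter.style.haveILetI false

namespace Cfsg.Agent.PrimeTwoQ

open Cfsg Cfsg.Agent MulAction Finset
open scoped Classical

universe u v

variable {G : Type u} [Group G] [Fintype G] {Ω : Type v} [Fintype Ω] [MulAction G Ω]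
  {p q : ℕ} [hp : Fact p.Prime] [hq : Fact q.Prime]

/-- The colouring. -/
structure Col (G : Type u) [Group G] (Ω : Type v) [Fintype Ω] [MulAction G Ω] (p q : ℕ) where
  R : Ω → Ω → Ω → Prop
  k : ℕ
  lam : ℕ
  mu : ℕ
  ne : ∀ {a b z}, R a b z → a ≠ b ∧ z ≠ a ∧ z ≠ b
  inv : ∀ (g : G) a b z, R (g • a) (g • b) (g • z) ↔ R a b z
  symm₁ : ∀ {a b z}, R a b z → R b a z
  symm₂ : ∀ {a b z}, R a b z → R a z b
  trans : ∀ {a b z w}, a ≠ b → z ≠ a → z ≠ b → w ≠ a → w ≠ b → (R a b z ↔ R a b w) →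
    ∃ g : G, g • a = a ∧ g • b = b ∧ g • z = w
  count : ∀ {a b}, a ≠ b → (univ.filter fun z => R a b z).card = k
  common : ∀ {a b z}, a ≠ b → z ≠ a → z ≠ b →
    (univ.filter fun w => R a b w ∧ R a z w).card = if R a b z then lam else mu
  three_le : 3 ≤ k
  k_lt : k < q
  lam_lt : lam < k
  mu_le : mu ≤ k
  ex : ∀ {a b}, a ≠ b → (∃ z, R a b z) ∧ ∃ z, z ≠ a ∧ z ≠ b ∧ ¬ R a b z

variable (G) in
/-- The orbit of `z` under the stabiliser of `a` and `b`. -/
noncomputable def orb (a b z : Ω) : Finset Ω :=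
  univ.filter fun w => ∃ g : G, g • a = a ∧ g • b = b ∧ g • z = w

theorem mem_orb {a b z w : Ω} : w ∈ orb G a b z ↔ ∃ g : G, g • a = a ∧ g • b = b ∧ g • z = w := by
  simp [orb]

theorem self_mem_orb {a b z : Ω} : z ∈ orb G a b z :=
  mem_orb.2 ⟨1, one_smul _ _, one_smul _ _, one_smul _ _⟩

theorem orb_eq_of_mem {a b z w : Ω} (h : w ∈ orb G a b z) : orb G a b w = orb G a b z := by
  obtain ⟨g, ha, hb, hz⟩ := mem_orb.1 h
  have ha' : g⁻¹ • a = a := inv_smul_eq_iff.2 ha.symm
  have hb' : g⁻¹ • b = b := inv_smul_eq_iff.2 hb.symm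
  ext x
  rw [mem_orb, mem_orb]
  constructor
  · rintro ⟨t, ta, tb, tw⟩
    exact ⟨t * g, by rw [mul_smul, ha, ta], by rw [mul_smul, hb, tb], by rw [mul_smul, hz, tw]⟩
  · rintro ⟨t, ta, tb, tz⟩
    exact ⟨t * g⁻¹, by rw [mul_smul, ha', ta], by rw [mul_smul, hb', tb],
      by rw [mul_smul, ← hz, inv_smul_smul, tz]⟩

theorem orb_swap (a b z : Ω) : orb G b a z = orb G a b z := by
  ext x
  rw [mem_orb, mem_orb]
  exact ⟨fun ⟨g, h1, h2, h3⟩ => ⟨g, h2, h1, h3⟩, fun ⟨g, h1, h2, h3⟩ => ⟨g, h2, h1, h3⟩⟩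

theorem card_orb_smul (g : G) (a b z : Ω) :
    (orb G (g • a) (g • b) (g • z)).card = (orb G a b z).card := by
  symm
  refine card_equiv (MulAction.toPerm g) fun w => ?_
  rw [mem_orb, mem_orb, toPerm_apply]
  constructor
  · rintro ⟨t, ta, tb, tz⟩
    exact ⟨g * t * g⁻¹, by simp [mul_smul, ta], by simp [mul_smul, tb], by simp [mul_smul, tz]⟩
  · rintro ⟨t, ta, tb, tz⟩
    exact ⟨g⁻¹ * t * g, by simp [mul_smul, ta], by simp [mul_smul, tb], by simp [mul_smul, tz]⟩

/-- The orbit times the stabiliser of the triple. -/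
theorem card_orb_mul (a b z : Ω) : (orb G a b z).card *
    (univ.filter fun g : G => g • a = a ∧ g • b = b ∧ g • z = z).card =
      (univ.filter fun g : G => g • a = a ∧ g • b = b).card := by
  set s := univ.filter fun g : G => g • a = a ∧ g • b = b
  rw [card_eq_sum_card_fiberwise (s := s) (t := orb G a b z) (f := fun g => g • z)
    (fun g hg => mem_orb.2 ⟨g, (mem_filter.1 hg).2.1, (mem_filter.1 hg).2.2, rfl⟩),
    ← smul_eq_mul, ← sum_const]
  refine Finset.sum_congr rfl fun w hw => ?_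
  obtain ⟨t, ta, tb, tz⟩ := mem_orb.1 hw
  refine card_equiv (Equiv.mulLeft t) fun g => ?_
  simp only [s, mem_filter, mem_univ, true_and, Equiv.coe_mulLeft, mul_smul]
  constructor
  · rintro ⟨ga, gb, gz⟩
    exact ⟨⟨by rw [ga, ta], by rw [gb, tb]⟩, by rw [gz, tz]⟩
  · rintro ⟨⟨ga, gb⟩, gz⟩
    exact ⟨MulAction.injective t (ga.trans ta.symm), MulAction.injective t (gb.trans tb.symm),
      MulAction.injective t (gz.trans tz.symm)⟩

namespace Ctx

variable (c : Ctx G Ω p q)
include c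

theorem exists_pair {a b a' b' : Ω} (h : a ≠ b) (h' : a' ≠ b') : ∃ g : G, g • a = a' ∧ g • b = b' := by
  obtain ⟨g, hg, hg'⟩ := (is_two_pretransitive_iff.1 c.two) h h'
  exact ⟨g, hg, hg'⟩

theorem card_pair_stab {a b a' b' : Ω} (h : a ≠ b) (h' : a' ≠ b') :
    (univ.filter fun g : G => g • a = a ∧ g • b = b).card =
      (univ.filter fun g : G => g • a' = a' ∧ g • b' = b').card := by
  obtain ⟨t, ta, tb⟩ := c.exists_pair h h'
  refine card_equiv (MulAut.conj t).toEquiv fun g => ?_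
  simp [mul_smul, ← ta, ← tb]

theorem card_orb_swap {a b z : Ω} (hab : a ≠ b) (haz : z ≠ a) :
    (orb G a z b).card = (orb G a b z).card := by
  have hn := c.card_pair_stab (Ne.symm haz) hab
  rw [← card_orb_mul a z b, ← card_orb_mul a b z] at hn
  rw [show (univ.filter fun g : G => g • a = a ∧ g • z = z ∧ g • b = b) =
    (univ.filter fun g : G => g • a = a ∧ g • b = b ∧ g • z = z) by ext g; simp; tauto] at hn
  exact Nat.eq_of_mul_eq_mul_right (card_pos.2 ⟨1, by simp⟩) hn

/-- The colouring exists. -/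
theorem exists_col (h4 : ∀ α β : Ω, α ≠ β →
    Nat.card (orbitRel.Quotient ↥(stabilizer G α ⊓ stabilizer G β) Ω) = 4) :
    Nonempty (Col G Ω p q) := by
  have hq11 := c.eleven
  have hpq := c.hpq
  have hcover : ∀ a b z w : Ω, a ≠ b → z ≠ a → z ≠ b → w ∉ orb G a b z → w ≠ a → w ≠ b →
      (orb G a b z).card + (orb G a b w).card = 2 * q - 1 := by
    intro a b z w hab hza hzb hzw hwa hwb
    set S := stabilizer G a ⊓ stabilizer G b
    let π : Ω → orbitRel.Quotient S Ω := fun x => Quotient.mk'' x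
    have hπ : ∀ x y, π y = π x ↔ y ∈ orb G a b x := fun x y => by
      simp only [π, Quotient.eq'', orbitRel_apply, mem_orbit_iff, mem_orb]
      constructor
      · rintro ⟨⟨g, hg⟩, h⟩; exact ⟨g, hg.1, hg.2, h⟩
      · rintro ⟨g, ga, gb, gx⟩; exact ⟨⟨g, ga, gb⟩, gx⟩
    have hfix : ∀ x, x ∈ orb G a b a ↔ x = a := fun x => by
      rw [mem_orb]; exact ⟨fun ⟨g, ga, _, gx⟩ => gx.symm.trans ga,
        fun h => ⟨1, one_smul _ _, one_smul _ _, by rw [one_smul, h]⟩⟩
    have hfix' : ∀ x, x ∈ orb G a b b ↔ x = b := fun x => by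
      rw [mem_orb]; exact ⟨fun ⟨g, _, gb, gx⟩ => gx.symm.trans gb,
        fun h => ⟨1, one_smul _ _, one_smul _ _, by rw [one_smul, h]⟩⟩
    let F : Finset (orbitRel.Quotient S Ω) := {π a, π b, π z, π w}
    have hF : F.card = 4 := by
      have e1 : π a ≠ π b := fun h => hab ((hfix' a).1 ((hπ b a).1 h))
      have e2 : π a ≠ π z := fun h => hza ((hfix z).1 ((hπ a z).1 h.symm))
      have e3 : π a ≠ π w := fun h => hwa ((hfix w).1 ((hπ a w).1 h.symm))
      have e4 : π b ≠ π z := fun h => hzb ((hfix' z).1 ((hπ b z).1 h.symm))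
      have e5 : π b ≠ π w := fun h => hwb ((hfix' w).1 ((hπ b w).1 h.symm))
      have e6 : π z ≠ π w := fun h => hzw ((hπ z w).1 h.symm)
      simp [F, e1, e2, e3, e4, e5, e6]
    have hFall : F = univ := eq_univ_of_card _ (by
      rw [hF, ← Nat.card_eq_fintype_card, h4 a b hab])
    have hdisj : Disjoint (orb G a b z) (orb G a b w) := disjoint_left.2 fun x hx hx' =>
      hzw ((hπ z w).1 (((hπ w x).2 hx').symm.trans ((hπ z x).2 hx)))
    have hunion : orb G a b z ∪ orb G a b w = (univ.erase a).erase b := by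
      ext x
      simp only [mem_union, mem_erase, mem_univ, and_true]
      constructor
      · rintro (h | h)
        · refine ⟨fun e => ?_, fun e => ?_⟩
          · exact hzb ((hfix' z).1 ((hπ b z).1 (by rw [← e]; exact ((hπ z x).2 h).symm)))
          · exact hza ((hfix z).1 ((hπ a z).1 (by rw [← e]; exact ((hπ z x).2 h).symm)))
        · refine ⟨fun e => ?_, fun e => ?_⟩
          · exact hwb ((hfix' w).1 ((hπ b w).1 (by rw [← e]; exact ((hπ w x).2 h).symm)))
          · exact hwa ((hfix w).1 ((hπ a w).1 (by rw [← e]; exact ((hπ w x).2 h).symm)))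
      · rintro ⟨hxb, hxa⟩
        have hx : π x ∈ F := hFall ▸ mem_univ _
        simp only [F, mem_insert, mem_singleton] at hx
        rcases hx with h | h | h | h
        · exact absurd ((hfix x).1 ((hπ a x).1 h)) hxa
        · exact absurd ((hfix' x).1 ((hπ b x).1 h)) hxb
        · exact Or.inl ((hπ z x).1 h)
        · exact Or.inr ((hπ w x).1 h)
    rw [← card_union_of_disjoint hdisj, hunion, card_erase_of_mem (by simp [hab.symm]),
      card_erase_of_mem (mem_univ _), card_univ, c.hΩ]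
    omega
  -- another orbit
  have hother : ∀ a b z : Ω, a ≠ b → z ≠ a → z ≠ b → ∃ w, w ≠ a ∧ w ≠ b ∧ w ∉ orb G a b z := by
    intro a b z hab hza hzb
    by_contra hno
    push Not at hno
    set S := stabilizer G a ⊓ stabilizer G b
    let π : Ω → orbitRel.Quotient S Ω := fun x => Quotient.mk'' x
    have hcard : Nat.card (orbitRel.Quotient S Ω) = 4 := h4 a b hab
    have hall : ∀ x, π x ∈ ({π a, π b, π z} : Finset (orbitRel.Quotient S Ω)) := fun x => by
      by_cases hxa : x = a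
      · simp [hxa]
      by_cases hxb : x = b
      · simp [hxb]
      obtain ⟨g, ga, gb, gz⟩ := mem_orb.1 (hno x hxa hxb)
      simp only [mem_insert, mem_singleton]
      refine Or.inr (Or.inr ?_)
      simp only [π, Quotient.eq'', orbitRel_apply, mem_orbit_iff]
      exact ⟨⟨g, ga, gb⟩, gz⟩
    have : Fintype.card (orbitRel.Quotient S Ω) ≤ 3 := by
      refine le_trans ?_ (card_le_three (a := π a) (b := π b) (c := π z))
      rw [← card_univ]
      exact card_le_card fun ω _ => by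
        obtain ⟨x, rfl⟩ := Quotient.mk''_surjective ω
        exact hall x
    rw [← Nat.card_eq_fintype_card] at this
    omega
  let R : Ω → Ω → Ω → Prop := fun a b z =>
    a ≠ b ∧ z ≠ a ∧ z ≠ b ∧ 2 * (orb G a b z).card < 2 * q - 1
  have hR : ∀ {a b z}, a ≠ b → z ≠ a → z ≠ b →
      (R a b z ↔ 2 * (orb G a b z).card < 2 * q - 1) := fun h1 h2 h3 =>
    ⟨fun h => h.2.2.2, fun h => ⟨h1, h2, h3, h⟩⟩
  have hinv : ∀ (g : G) a b z, R (g • a) (g • b) (g • z) ↔ R a b z := fun g a b z => by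
    simp only [R, card_orb_smul, ne_eq, (MulAction.injective g).eq_iff]
  have htrans : ∀ {a b z w}, a ≠ b → z ≠ a → z ≠ b → w ≠ a → w ≠ b → (R a b z ↔ R a b w) →
      w ∈ orb G a b z := by
    intro a b z w hab hza hzb hwa hwb hiff
    by_contra hw
    rw [hR hab hza hzb, hR hab hwa hwb] at hiff
    have := hcover a b z w hab hza hzb hw hwa hwb
    omega
  have hmem : ∀ {a b z w}, a ≠ b → z ≠ a → z ≠ b → w ∈ orb G a b z →
      w ≠ a ∧ w ≠ b ∧ (R a b w ↔ R a b z) := by
    intro a b z w hab hza hzb hw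
    obtain ⟨g, ga, gb, gz⟩ := mem_orb.1 hw
    refine ⟨fun h => hza (MulAction.injective g (gz.trans (h.trans ga.symm))),
      fun h => hzb (MulAction.injective g (gz.trans (h.trans gb.symm))), ?_⟩
    rw [← hinv g a b z, ga, gb, gz]
  have hexists : ∀ {a b}, a ≠ b → (∃ z, R a b z) ∧ ∃ z, z ≠ a ∧ z ≠ b ∧ ¬ R a b z := by
    intro a b hab
    obtain ⟨z, hz⟩ : ∃ z, z ∈ (univ.erase a).erase b := card_pos.1 (by
      rw [card_erase_of_mem (by simp [hab.symm]), card_erase_of_mem (mem_univ _), card_univ, c.hΩ]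
      omega)
    simp only [mem_erase, mem_univ, and_true] at hz
    obtain ⟨w, hwa, hwb, hw⟩ := hother a b z hab hz.2 hz.1
    have := hcover a b z w hab hz.2 hz.1 hw hwa hwb
    by_cases hs : 2 * (orb G a b z).card < 2 * q - 1
    · exact ⟨⟨z, hab, hz.2, hz.1, hs⟩, w, hwa, hwb, fun h => by have := h.2.2.2; omega⟩
    · exact ⟨⟨w, hab, hwa, hwb, by omega⟩, z, hz.2, hz.1, fun h => hs h.2.2.2⟩
  have hfilter : ∀ {a b z}, R a b z → (univ.filter fun w => R a b w) = orb G a b z := by
    intro a b z h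
    obtain ⟨hab, hza, hzb, -⟩ := id h
    ext w
    simp only [mem_filter, mem_univ, true_and]
    exact ⟨fun hw => htrans hab hza hzb hw.2.1 hw.2.2.1 (iff_of_true h hw),
      fun hw => (hmem hab hza hzb hw).2.2.2 h⟩
  obtain ⟨a₀, b₀, hab₀⟩ : ∃ a b : Ω, a ≠ b :=
    Fintype.one_lt_card_iff.1 (by rw [c.hΩ]; exact hp.out.one_lt)
  set k := (univ.filter fun z => R a₀ b₀ z).card with hk
  have hcount : ∀ {a b}, a ≠ b → (univ.filter fun z => R a b z).card = k := by
    intro a b hab
    obtain ⟨g, ga, gb⟩ := c.exists_pair hab₀ hab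
    rw [hk]
    symm
    refine card_equiv (MulAction.toPerm g) fun z => ?_
    simp only [mem_filter, mem_univ, true_and, toPerm_apply]
    rw [← ga, ← gb, hinv]
  obtain ⟨z₀, hz₀⟩ := (hexists hab₀).1
  have hkorb : k = (orb G a₀ b₀ z₀).card := by rw [hk, hfilter hz₀]
  have hk1 : 1 ≤ k := by rw [hkorb]; exact card_pos.2 ⟨_, self_mem_orb⟩
  have hklt : k < q := by have := hz₀.2.2.2; omega
  have hs1 : ∀ {a b z}, R a b z → R b a z := fun {a b z} h =>
    ⟨h.1.symm, h.2.2.1, h.2.1, by rw [orb_swap]; exact h.2.2.2⟩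
  have hs2 : ∀ {a b z}, R a b z → R a z b := fun {a b z} h =>
    ⟨h.2.1.symm, h.1.symm, h.2.2.1.symm, by rw [c.card_orb_swap h.1 h.2.1]; exact h.2.2.2⟩
  obtain ⟨z₁, hz₁a, hz₁b, hz₁⟩ := (hexists hab₀).2
  let cm : Ω → Ω → Ω → ℕ := fun a b z => (univ.filter fun w => R a b w ∧ R a z w).card
  have hcommon : ∀ {a b z}, a ≠ b → z ≠ a → z ≠ b →
      cm a b z = if R a b z then cm a₀ b₀ z₀ else cm a₀ b₀ z₁ := by
    intro a b z hab hza hzb
    obtain ⟨g, ga, gb⟩ := c.exists_pair hab₀ hab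
    have key : ∀ {y}, y ≠ a₀ → y ≠ b₀ → (R a b z ↔ R a₀ b₀ y) → cm a b z = cm a₀ b₀ y := by
      intro y hya hyb hiff
      have hy : g⁻¹ • z ∈ orb G a₀ b₀ y := by
        have e1 : g⁻¹ • a = a₀ := inv_smul_eq_iff.2 ga.symm
        have e2 : g⁻¹ • b = b₀ := inv_smul_eq_iff.2 gb.symm
        refine htrans hab₀ hya hyb (fun h => hza ?_) (fun h => hzb ?_) ?_
        · rw [← ga, ← h, smul_inv_smul]
        · rw [← gb, ← h, smul_inv_smul]
        · rw [← hiff, ← hinv g⁻¹ a b z, e1, e2]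
      obtain ⟨t, ta, tb, ty⟩ := mem_orb.1 hy
      have e : g • t • a₀ = a ∧ g • t • b₀ = b ∧ g • t • y = z :=
        ⟨by rw [ta, ga], by rw [tb, gb], by rw [ty, smul_inv_smul]⟩
      symm
      refine card_equiv (MulAction.toPerm (g * t)) fun w => ?_
      simp only [mem_filter, mem_univ, true_and, toPerm_apply]
      rw [← hinv (g * t) a₀ b₀ w, ← hinv (g * t) a₀ y w]
      simp only [mul_smul, e.1, e.2.1, e.2.2]
    by_cases h : R a b z
    · rw [if_pos h]
      exact key hz₀.2.1 hz₀.2.2.1 (iff_of_true h hz₀)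
    · rw [if_neg h]
      exact key hz₁a hz₁b (iff_of_false h hz₁)
  -- `3 ∣ k`
  have hthree : 3 ∣ k := by
    let T := {w : Ω × Ω × Ω // R w.1 w.2.1 w.2.2}
    let σ : Equiv.Perm T :=
      { toFun := fun w => ⟨(w.1.2.1, w.1.2.2, w.1.1), hs2 (hs1 w.2)⟩
        invFun := fun w => ⟨(w.1.2.2, w.1.1, w.1.2.1), hs1 (hs2 w.2)⟩
        left_inv := fun _ => rfl
        right_inv := fun _ => rfl }
    have hσ : σ ^ 3 ^ 1 = 1 := by
      refine Equiv.ext fun w => ?_
      rw [pow_one, show (3 : ℕ) = 1 + 1 + 1 from rfl, pow_succ, pow_succ, pow_one]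
      rfl
    haveI : Fact (Nat.Prime 3) := ⟨Nat.prime_three⟩
    have h := Equiv.Perm.card_compl_support_modEq hσ
    rw [show σ.supportᶜ = ∅ by
      refine eq_empty_of_forall_notMem fun w hw => ?_
      rw [mem_compl, Equiv.Perm.mem_support, not_not] at hw
      exact w.2.1 (congrArg (fun u : T => u.1.1) hw).symm, card_empty] at h
    have hcardT : Fintype.card T = p * (p - 1) * k := by
      rw [Fintype.card_subtype, card_eq_sum_card_fiberwise
        (t := (univ : Finset Ω).offDiag) (f := fun w : Ω × Ω × Ω => (w.1, w.2.1))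
        (fun w hw => mem_offDiag.2 ⟨mem_univ _, mem_univ _, (mem_filter.1 hw).2.1⟩),
        Finset.sum_congr rfl fun ab hab => show
          ((univ.filter fun w : Ω × Ω × Ω => R w.1 w.2.1 w.2.2).filter fun w => (w.1, w.2.1) = ab).card = k by
          rw [← hcount (mem_offDiag.1 hab).2.2]
          refine card_bij (fun w _ => w.2.2) (fun w hw => ?_) (fun x hx y hy e => ?_) (fun z hz => ?_)
          · simp only [mem_filter, mem_univ, true_and] at hw ⊢
            rw [← hw.2]; exact hw.1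
          · simp only [mem_filter, mem_univ, true_and] at hx hy
            have h' := hx.2.trans hy.2.symm
            simp only [Prod.mk.injEq] at h'
            exact Prod.ext h'.1 (Prod.ext h'.2 e)
          · exact ⟨(ab.1, ab.2, z), by simpa using hz, rfl⟩,
        sum_const, offDiag_card, card_univ, c.hΩ, smul_eq_mul, Nat.mul_sub, mul_one]
    rw [hcardT] at h
    have h3 : 3 ∣ p * (p - 1) * k := Nat.modEq_zero_iff_dvd.1 h.symm
    have hp3 : ¬ 3 ∣ p := fun hd => by
      have := (Nat.prime_dvd_prime_iff_eq Nat.prime_three hp.out).1 hd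
      omega
    have hp13 : ¬ 3 ∣ p - 1 := fun hd => by
      rw [show p - 1 = 2 * q by omega] at hd
      rcases (Nat.Prime.dvd_mul Nat.prime_three).1 hd with h' | h'
      · omega
      · have := (Nat.prime_dvd_prime_iff_eq Nat.prime_three hq.out).1 h'
        omega
    rcases (Nat.Prime.dvd_mul Nat.prime_three).1 h3 with h' | h'
    · exact absurd ((Nat.Prime.dvd_mul Nat.prime_three).1 h') (by push Not; exact ⟨hp3, hp13⟩)
    · exact h'
  refine ⟨⟨R, k, cm a₀ b₀ z₀, cm a₀ b₀ z₁, fun h => ⟨h.1, h.2.1, h.2.2.1⟩, hinv, hs1, hs2,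
    fun hab hza hzb hwa hwb hiff => mem_orb.1 (htrans hab hza hzb hwa hwb hiff), fun hab => by convert hcount hab,
    fun hab hza hzb => by convert hcommon hab hza hzb, ?_, hklt, ?_, ?_, hexists⟩⟩
  · obtain ⟨i, hi⟩ := hthree
    omega
  · refine card_lt_card ((ssubset_iff_of_subset fun w hw => ?_).2 ⟨z₀, ?_, ?_⟩) |>.trans_eq hk.symm
    · simp only [mem_filter, mem_univ, true_and] at hw ⊢; exact hw.1
    · simp [hz₀]
    · simp only [mem_filter, mem_univ, true_and, not_and]
      exact fun _ h => h.2.2.1 rfl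
  · exact (card_le_card fun w hw => by
      simp only [mem_filter, mem_univ, true_and] at hw ⊢; exact hw.1).trans_eq hk.symm

end Ctx

end Cfsg.Agent.PrimeTwoQ
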