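import Cfsg.Agent.Lib.PrimeTwoQ.Setup
import Cfsg.Agent.Lib.Char.Induction
import Cfsg.Agent.Lib.Char.KernelSum

/-!
# Common consequences of a context

* the character `χ = π - 1`; restriction to a point stabiliser as an inner product;
* the shapes at `p`, at `q`, and at `q` in the point stabiliser;
* degrees of constituents containing a part of degree `2 q - 1`.
-/

set_option autoImplicit false
set_option linter.unusedSectionVars false
set_option linter.style.haveILetI false

namespace Cfsg.Agent.PrimeTwoQ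

open Cfsg Cfsg.Agent MulAction Finset
open scoped Classical ComplexConjugate

universe u v

/-- Removing a constituent from a character. -/
theorem isCharacter_sub_irr {H : Type u} [Group H] [Fintype H] {F : H → ℂ} (hF : IsCharacter H F)
    (ψ : IrrCharacter H) {a n : ℕ} (h : classInner F ψ.1 = n) (ha : a ≤ n) :
    IsCharacter H (F - (a : ℂ) • ψ.1) := by
  refine Char.isCharacter_iff.2 ⟨fun g t => ?_, fun φ => ?_⟩
  · simp [Char.IsCharacter.isClassFunction hF g t,
      Char.IsCharacter.isClassFunction (Char.irr_isCharacter ψ) g t]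
  · obtain ⟨k, hk⟩ := Char.IsCharacter.exists_nat_classInner hF (Char.irr_isCharacter φ)
    by_cases he : φ = ψ
    · subst he
      refine ⟨n - a, ?_⟩
      rw [Char.classInner_sub_left, Char.classInner_smul_left, h, Char.classInner_irr, if_pos rfl,
        Nat.cast_sub ha, mul_one]
    · exact ⟨k, by rw [Char.classInner_sub_left, Char.classInner_smul_left, hk, Char.classInner_irr,
        if_neg (Ne.symm he), mul_zero, sub_zero]⟩

variable {G : Type u} [Group G] [Fintype G] {Ω : Type v} [Fintype Ω] [MulAction G Ω]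
  {p q : ℕ} [hp : Fact p.Prime] [hq : Fact q.Prime]

variable (G Ω) in
/-- The permutation character. -/
noncomputable def perm : G → ℂ := fun g => (nfix Ω g : ℂ)

theorem perm_apply (g : G) : perm G Ω g = (nfix Ω g : ℂ) := rfl

theorem classInner_one_left (F : G → ℂ) :
    classInner (fun _ => (1 : ℂ)) F = (Nat.card G : ℂ)⁻¹ * ∑ g : G, conj (F g) := by
  simp [classInner]

theorem classInner_one_right (F : G → ℂ) :
    classInner F (fun _ => (1 : ℂ)) = (Nat.card G : ℂ)⁻¹ * ∑ g : G, F g := by
  simp [classInner]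

theorem classInner_of_real {F K : G → ℂ} (hK : ∀ g, conj (K g) = K g) :
    classInner F K = (Nat.card G : ℂ)⁻¹ * ∑ g : G, F g * K g := by
  simp only [classInner, hK]

namespace Ctx

variable (c : Ctx G Ω p q)
include c

theorem p_odd : p % 2 = 1 := by have := c.hpq; omega

theorem q_odd : q % 2 = 1 := hq.out.eq_two_or_odd.resolve_left (by have := c.eleven; omega)

theorem pretransitive : IsPretransitive G Ω := by
  haveI := c.two
  exact isPretransitive_of_is_two_pretransitive

theorem f_mul_N : c.f * c.N + 1 = q := by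
  have := c.hf
  have := hq.out.one_lt
  omega

theorem N_pos : 1 ≤ c.N := by
  rcases Nat.eq_zero_or_pos c.N with h | h
  · have := c.f_mul_N; rw [h] at this; have := hq.out.one_lt; omega
  · exact h

/-- The average of a fixed point polynomial. -/
theorem sum_perm : ∑ g : G, (nfix Ω g : ℂ) = (Nat.card G : ℂ) := by
  have h := sum_descFactorial_eq (H := G) (S := Ω) (k := 1) (by rw [c.hΩ]; exact hp.out.one_le)
    ((is_one_pretransitive_iff).2 c.pretransitive)
  simp only [Nat.descFactorial_one] at h
  exact_mod_cast h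

theorem sum_perm_two : ∑ g : G, (nfix Ω g : ℂ) * ((nfix Ω g : ℂ) - 1) = (Nat.card G : ℂ) := by
  have h := sum_descFactorial_eq (H := G) (S := Ω) (k := 2) (by rw [c.hΩ]; exact hp.out.two_le) c.two
  rw [← h, Nat.cast_sum]
  refine Finset.sum_congr rfl fun g _ => ?_
  rcases nfix Ω g with _ | n
  · simp
  · simp [Nat.descFactorial_succ]; ring

/-- Multiplying by the permutation character is restriction to a stabiliser. -/
theorem classInner_mul_perm {A B : G → ℂ} (hA : IsClassFunction G A) (hB : IsClassFunction G B) :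
    classInner (A * perm G Ω) B =
      classInner (fun h : stabilizer G c.α => A h) (fun h : stabilizer G c.α => B h) := by
  haveI := c.pretransitive
  have h := sum_mul_nfix (H := G) c.α (F := fun g => A g * conj (B g))
    (fun g t => by simp only [hA g t, hB g t])
  have hcard : (Nat.card G : ℂ) = (Fintype.card Ω : ℂ) * (Nat.card (stabilizer G c.α) : ℂ) := by
    have := (stabilizer G c.α).card_mul_index
    rw [index_stabilizer_of_transitive, Nat.card_eq_fintype_card (α := Ω)] at this
    rw [← this]; push_cast; ring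
  have hΩ0 : (Fintype.card Ω : ℂ) ≠ 0 := by rw [c.hΩ]; exact Nat.cast_ne_zero.2 hp.out.ne_zero
  rw [classInner, classInner, Finset.sum_congr rfl (fun g _ => show
    (A * perm G Ω) g * conj (B g) = (fun g => A g * conj (B g)) g * (nfix Ω g : ℂ) by
      simp [perm]; ring), h, hcard, mul_inv, mul_comm ((Fintype.card Ω : ℂ)⁻¹), mul_assoc,
    inv_mul_cancel_left₀ hΩ0]

theorem classInner_perm_left {B : G → ℂ} (hB : IsClassFunction G B) :
    classInner (perm G Ω) B = classInner (fun _ : stabilizer G c.α => (1 : ℂ)) (fun h : stabilizer G c.α => B h) := by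
  rw [← c.classInner_mul_perm (A := fun _ => 1) (fun _ _ => rfl) hB]
  congr 1
  ext g
  simp

theorem classInner_perm_one : classInner (perm G Ω) (fun _ => (1 : ℂ)) = 1 := by
  rw [classInner_one_right, show ∑ g, perm G Ω g = ∑ g : G, (nfix Ω g : ℂ) from rfl, c.sum_perm,
    inv_mul_cancel₀ Char.card_ne_zero]

theorem classInner_perm_perm : classInner (perm G Ω) (perm G Ω) = 2 := by
  have h : ∑ g : G, (nfix Ω g : ℂ) * (nfix Ω g : ℂ) = 2 * (Nat.card G : ℂ) := by
    have := c.sum_perm_two
    simp only [mul_sub, mul_one, sum_sub_distrib, c.sum_perm] at this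
    linear_combination this
  simp only [classInner, perm, Complex.conj_natCast]
  rw [h]
  field_simp [Char.card_ne_zero (G := G)]

theorem isCharacter_chi : IsIrrCharacter G (perm G Ω - fun _ => 1) := by
  refine Char.isIrrCharacter_iff.2 ⟨?_, ?_⟩
  · have := isCharacter_sub_irr (isCharacter_nfix (H := G) (S := Ω)) (Char.trivialChar G) (a := 1) (n := 1)
      (by rw [Nat.cast_one]; exact c.classInner_perm_one) le_rfl
    simp only [Nat.cast_one, one_smul] at this
    exact this
  · rw [Char.classInner_sub_left, Char.classInner_sub_right, Char.classInner_sub_right,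
      c.classInner_perm_perm, c.classInner_perm_one, ← Char.conj_classInner (perm G Ω),
      c.classInner_perm_one, map_one, Char.classInner_irr_self Char.isIrrCharacter_one]
    ring

/-- The character `π - 1`. -/
noncomputable def chi : IrrCharacter G := ⟨_, c.isCharacter_chi⟩

theorem chi_apply (g : G) : c.chi.1 g = (nfix Ω g : ℂ) - 1 := rfl

theorem degree_chi : Char.degree c.chi = 2 * q := by
  have := Char.apply_one_eq_degree c.chi
  rw [c.chi_apply, nfix_one, c.hΩ] at this
  have h : ((Char.degree c.chi : ℕ) : ℂ) = ((2 * q : ℕ) : ℂ) := by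
    rw [← this, show (p : ℂ) = ((2 * q + 1 : ℕ) : ℂ) from congrArg Nat.cast c.hpq]
    push_cast; ring
  exact_mod_cast h

theorem chi_ne : c.chi ≠ Char.trivialChar G := fun h => by
  have := c.degree_chi
  have h1 := Char.apply_one_eq_degree (Char.trivialChar G)
  rw [Char.trivialChar_apply] at h1
  rw [h] at this
  have h2 : Char.degree (Char.trivialChar G) = 1 := by exact_mod_cast h1.symm
  have := c.eleven
  omega

theorem perm_eq : perm G Ω = (Char.trivialChar G).1 + c.chi.1 := by
  ext g
  simp [c.chi_apply, perm]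

/-- An irreducible character other than `1`, `χ` has no invariant vector on a stabiliser. -/
theorem restrict_trivial {ψ : IrrCharacter G} (h1 : ψ ≠ Char.trivialChar G) (h2 : ψ ≠ c.chi) :
    classInner (fun h : stabilizer G c.α => ψ.1 h) (fun _ => (1 : ℂ)) = 0 := by
  have := c.classInner_perm_left (Char.IsCharacter.isClassFunction (Char.irr_isCharacter ψ))
  rw [c.perm_eq, Char.classInner_add_left, Char.classInner_irr, Char.classInner_irr,
    if_neg (Ne.symm h1), if_neg (Ne.symm h2), add_zero] at this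
  rw [← Char.conj_classInner, ← this, map_zero]

/-- The fixed points of an element of `Q - 1`. -/
theorem nfix_Q {y : G} (hy : y ∈ (c.Q : Subgroup G)) (hy1 : y ≠ 1) : nfix Ω y = 1 := by
  rw [nfix, card_eq_one]
  exact ⟨c.α, by ext x; simp [c.fixQ y hy hy1 x]⟩

theorem pow_two_ne_one {ℓ : ℕ} {P : Subgroup G} (hP : Nat.card P = ℓ) (hℓ : ℓ.Prime) (h2 : ℓ ≠ 2)
    {y : G} (hy : y ∈ P) (hy1 : y ≠ 1) : y ^ 2 ≠ 1 := fun h => by
  have h3 := Subgroup.orderOf_dvd_natCard P hy
  rw [hP] at h3
  rcases (Nat.dvd_prime hℓ).1 h3 with h4 | h4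
  · exact hy1 (orderOf_eq_one_iff.1 h4)
  · exact h2 ((Nat.prime_dvd_prime_iff_eq hℓ Nat.prime_two).1 (h4 ▸ orderOf_dvd_of_pow_eq_one h))

theorem nfix_sq_Q {y : G} (hy : y ∈ (c.Q : Subgroup G)) (hy1 : y ≠ 1) : nfix Ω (y ^ 2) = 1 :=
  c.nfix_Q (Subgroup.pow_mem _ hy 2)
    (c.pow_two_ne_one c.scQ.card hq.out (by have := c.eleven; omega) hy hy1)

theorem nfix_sq_P {y : G} (hy : y ∈ (c.P : Subgroup G)) (hy1 : y ≠ 1) : nfix Ω (y ^ 2) = 0 :=
  c.fixP _ (Subgroup.pow_mem _ hy 2)
    (c.pow_two_ne_one c.scP.card hp.out (by have := c.hpq; have := c.eleven; omega) hy hy1)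

/-- The shape at `p`. -/
noncomputable def shapeP : Shp p q (c.P : Subgroup G) :=
  Classical.choice (exists_shp c.scP c.NP)

/-- The shape at `q`. -/
noncomputable def shapeQ : Shp q c.f (c.Q : Subgroup G) :=
  Classical.choice (exists_shp c.scQ c.NQ)

theorem two_le_q : 2 ≤ q := hq.out.two_le

/-- The number of `q`-singular elements. -/
theorem card_sing_q : (univ.filter fun g : G => q ∣ orderOf g).card * q = c.N * Nat.card G := by
  have h := card_sing c.scQ
  rw [c.NQ, ← c.hf] at h
  have hf : 0 < c.f := by have := c.two_le_f; omega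
  refine Nat.eq_of_mul_eq_mul_left hf ?_
  linarith [h]

/-- An involution with at least three fixed points. -/
theorem exists_involution : ∃ g : G, 3 ≤ nfix Ω g ∧ nfix Ω g < nfix Ω (g ^ 2) := by
  haveI := c.faithful
  haveI := c.pretransitive
  obtain ⟨a, b, hab⟩ : ∃ a b : Ω, a ≠ b := Fintype.one_lt_card_iff.1 (by rw [c.hΩ]; exact hp.out.one_lt)
  have h2 : 2 ∣ Nat.card G := by
    have h := sum_descFactorial_eq (H := stabilizer G a)
      (S := SubMulAction.ofStabilizer G a) (k := 1) (by
        refine Nat.one_le_iff_ne_zero.2 fun h => ?_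
        exact (Fintype.card_eq_zero_iff.1 h).false ⟨b, hab.symm⟩)
      ((is_one_pretransitive_iff).2 ⟨fun x y => by
        obtain ⟨g, hg, hg'⟩ := is_two_pretransitive_iff.1 c.two (Ne.symm x.2 : a ≠ (x : Ω))
          (Ne.symm y.2 : a ≠ (y : Ω))
        exact ⟨⟨g, hg⟩, Subtype.ext hg'⟩⟩)
    haveI : IsPretransitive (stabilizer G a) (SubMulAction.ofStabilizer G a) := ⟨fun x y => by
        obtain ⟨g, hg, hg'⟩ := is_two_pretransitive_iff.1 c.two (Ne.symm x.2 : a ≠ (x : Ω))
          (Ne.symm y.2 : a ≠ (y : Ω))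
        exact ⟨⟨g, hg⟩, Subtype.ext hg'⟩⟩
    have h1 := index_stabilizer_of_transitive (stabilizer G a) (⟨b, hab.symm⟩ : SubMulAction.ofStabilizer G a)
    have h3 : Nat.card (SubMulAction.ofStabilizer G a) = 2 * q := by
      have : Nat.card (SubMulAction.ofStabilizer G a) = Nat.card {x : Ω // x ≠ a} := rfl
      rw [this, Nat.card_eq_fintype_card, Fintype.card_subtype_compl, Fintype.card_subtype_eq,
        c.hΩ, c.hpq]
      omega
    rw [h3] at h1
    exact (Dvd.intro q h1.symm).trans ((Subgroup.index_dvd_card _).trans (Subgroup.card_subgroup_dvd_card _))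
  obtain ⟨g, hg⟩ := exists_prime_orderOf_dvd_card' (G := G) 2 h2
  obtain ⟨k, hk1, hk, hsign⟩ := involution_type (Ω := Ω) hg
  rw [c.even] at hsign
  rw [c.hΩ] at hk
  refine ⟨g, ?_, ?_⟩
  · by_contra hlt
    have hr : nfix Ω g = 1 := by have := c.p_odd; omega
    have hkq : k = q := by have := c.hpq; omega
    rw [hkq, Odd.neg_one_pow (Nat.odd_iff.2 c.q_odd)] at hsign
    exact absurd hsign (by decide)
  · rw [show g ^ 2 = 1 by rw [← hg]; exact pow_orderOf_eq_one g, nfix_one, c.hΩ]
    omega

/-- The Sylow `q`-subgroup of the point stabiliser. -/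
theorem exists_sylow_stab : ∃ Q₀ : Sylow q (stabilizer G c.α),
    (Q₀ : Subgroup (stabilizer G c.α)) = (c.Q : Subgroup G).subgroupOf (stabilizer G c.α) ∧
      DefectOne.SelfCent Q₀ ∧
      Nat.card (Subgroup.normalizer ((Q₀ : Subgroup (stabilizer G c.α)) : Set (stabilizer G c.α))) =
        q * c.f := by
  set H := stabilizer G c.α
  have hle : (c.Q : Subgroup G) ≤ H := Subgroup.le_normalizer.trans c.NQ_le
  obtain ⟨Q₀, hQ₀⟩ : ∃ Q₀ : Sylow q H, (Q₀ : Subgroup H) = (c.Q : Subgroup G).subgroupOf H :=
    ⟨c.Q.subtype hle, rfl⟩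
  have hmap : (Q₀ : Subgroup H).map H.subtype = (c.Q : Subgroup G) := by
    rw [hQ₀, Subgroup.map_subgroupOf_eq_of_le hle]
  have hc : Nat.card Q₀ = q := by
    refine Eq.trans ?_ c.scQ.card
    show Nat.card (Q₀ : Subgroup H) = Nat.card (c.Q : Subgroup G)
    rw [← hmap, Subgroup.card_map_of_injective H.subtype_injective]
  refine ⟨Q₀, hQ₀, ⟨hc, ?_⟩, ?_⟩
  · ext x
    have hx : x ∈ (Q₀ : Subgroup H) ↔ (x : G) ∈ (c.Q : Subgroup G) := by
      rw [hQ₀, Subgroup.mem_subgroupOf]
    rw [hx, ← c.scQ.cent, Subgroup.mem_centralizer_iff, Subgroup.mem_centralizer_iff]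
    refine ⟨fun h y hy => ?_, fun h y hy => ?_⟩
    · exact congrArg Subtype.val (h ⟨y, hle hy⟩ (by rw [SetLike.mem_coe, hQ₀]; exact hy))
    · exact Subtype.ext (h y (by rw [SetLike.mem_coe, hQ₀] at hy; exact hy))
  · rw [← c.NQ, hQ₀, ← Subgroup.subgroupOf_normalizer_eq hle]
    exact Nat.card_congr (Subgroup.subgroupOfEquivOfLe c.NQ_le).toEquiv

/-- A linear character of the stabiliser inside a constituent of degree `2 q` is impossible:
constituents containing a part of degree `2 q - 1` have degree at least `2 q + 1`. -/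
theorem degree_gt {ψ : IrrCharacter G} (h1 : ψ ≠ Char.trivialChar G) (h2 : ψ ≠ c.chi)
    {Φ : stabilizer G c.α → ℂ} (hΦ1 : Φ 1 = ((2 * q - 1 : ℕ) : ℂ)) (hΦ : IsCharacter (stabilizer G c.α) Φ)
    (hΦ0 : classInner Φ (fun _ => (1 : ℂ)) = 0)
    (hrest : IsCharacter (stabilizer G c.α) (fun h : stabilizer G c.α => ψ.1 (h : G) - Φ h)) :
    2 * q + 1 ≤ Char.degree ψ := by
  obtain ⟨k, hk⟩ := Char.IsCharacter.apply_one hrest
  have hd : Char.degree ψ = 2 * q - 1 + k := by
    have : (Char.degree ψ : ℂ) = ((2 * q - 1 + k : ℕ) : ℂ) := by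
      rw [← Char.apply_one_eq_degree, Nat.cast_add, ← hΦ1, ← hk, Subgroup.coe_one, add_sub_cancel]
    exact_mod_cast this
  have hq11 := c.eleven
  rcases Nat.lt_or_ge k 2 with hk2 | hk2
  swap
  · omega
  exfalso
  rcases Nat.eq_zero_or_pos k with hk0 | hk0
  · -- degree `2 q - 1`
    have hmod : (Char.degree ψ : ℤ) ≡ -2 [ZMOD p] := by
      rw [hd, hk0, c.hpq, Int.modEq_iff_dvd]
      refine ⟨-1, ?_⟩
      rw [Nat.cast_add, Nat.cast_sub (by omega)]
      push_cast
      ring
    have hnot : ∀ a : ℤ, -((q : ℤ)) ≤ a → a ≤ q → a ≠ -2 → ¬ (Char.degree ψ : ℤ) ≡ a [ZMOD p] :=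
      fun a ha ha' hne h => by
        have h3 := Int.modEq_iff_dvd.1 (h.symm.trans hmod)
        have h4 := Int.le_of_dvd (abs_pos.2 (show (-2 : ℤ) - a ≠ 0 by omega)) ((dvd_abs _ _).2 h3)
        have := c.hpq
        rcases abs_choice ((-2 : ℤ) - a) with e | e <;> omega
    by_cases hY : ψ ∈ c.shapeP.Y
    · have := c.shapeP.Y_deg ψ hY
      rcases c.shapeP.hε with e | e <;> rw [e] at this <;>
        exact hnot _ (by omega) (by omega) (by omega) this
    · exact hnot _ (by rcases c.shapeP.hz ψ with e | e | e <;> omega)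
        (by rcases c.shapeP.hz ψ with e | e | e <;> omega)
        (by rcases c.shapeP.hz ψ with e | e | e <;> omega) (c.shapeP.deg ψ hY)
  · -- degree `2 q`
    have hk1 : k = 1 := by omega
    rw [hk1, Nat.cast_one] at hk
    set lam : stabilizer G c.α → ℂ := fun h => ψ.1 (h : G) - Φ h with hlam
    have hlamirr : IsIrrCharacter (stabilizer G c.α) lam := by
      obtain ⟨μ, hμ⟩ := Char.IsCharacter.exists_monoidHom hrest hk
      have h := Char.isIrrCharacter_of_monoidHom μ
      rwa [show (μ : stabilizer G c.α → ℂ) = lam from by first | exact hμ | exact hμ.symm] at h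
    have hlam1 : classInner lam (fun _ => (1 : ℂ)) = 0 := by
      rw [hlam, show (fun h : stabilizer G c.α => ψ.1 (h : G) - Φ h) =
        (fun h : stabilizer G c.α => ψ.1 (h : G)) - Φ from rfl, Char.classInner_sub_left,
        c.restrict_trivial h1 h2, hΦ0, sub_zero]
    have hcf := Char.IsCharacter.isClassFunction (Char.irr_isCharacter ψ)
    have hind := Char.isCharacter_indFun (stabilizer G c.α) hrest
    obtain ⟨M, hM, hMi⟩ := Char.IsCharacter.exists_decomp hind
    have hMψ : 1 ≤ M ψ := by
      obtain ⟨n, hn⟩ := Char.IsCharacter.exists_nat_classInner hΦ (Char.IsIrrCharacter.isCharacter hlamirr)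
      have h3 : ((M ψ : ℕ) : ℂ) = ((n + 1 : ℕ) : ℂ) := by
        rw [← hMi, Char.classInner_indFun _ _ hcf, ← Char.conj_classInner,
          show (fun h : stabilizer G c.α => ψ.1 (h : G)) = Φ + lam by ext h; simp [hlam],
          Char.classInner_add_left, hn, Char.classInner_irr_self hlamirr]
        simp
      have h4 : M ψ = n + 1 := by exact_mod_cast h3
      omega
    have hM1 : M (Char.trivialChar G) = 0 := by
      have h3 : ((M (Char.trivialChar G) : ℕ) : ℂ) = 0 := by
        rw [← hMi, Char.classInner_indFun _ _ (Char.IsCharacter.isClassFunction (Char.irr_isCharacter _))]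
        exact hlam1
      exact_mod_cast h3
    have hdeg : ∑ φ, M φ * Char.degree φ = p := by
      have h3 := congrFun hM 1
      haveI := c.pretransitive
      rw [Char.indFun_apply_one, index_stabilizer_of_transitive, Nat.card_eq_fintype_card, c.hΩ,
        Finset.sum_apply, show lam 1 = 1 from hk, mul_one] at h3
      simp only [Pi.smul_apply, smul_eq_mul, Char.apply_one_eq_degree] at h3
      exact_mod_cast h3.symm
    rw [← Finset.add_sum_erase _ _ (mem_univ ψ)] at hdeg
    have hψd : Char.degree ψ = 2 * q := by omega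
    have hle : M ψ * Char.degree ψ ≤ p := by omega
    have hM2 : M ψ = 1 := by
      by_contra hne
      have : 2 * Char.degree ψ ≤ M ψ * Char.degree ψ := Nat.mul_le_mul_right _ (by omega)
      have := c.hpq
      omega
    rw [hM2, one_mul] at hdeg
    have hsum : ∑ φ ∈ univ.erase ψ, M φ * Char.degree φ = 1 := by have := c.hpq; omega
    obtain ⟨φ, hφ, hφne⟩ := Finset.exists_ne_zero_of_sum_ne_zero (s := univ.erase ψ)
      (f := fun φ => M φ * Char.degree φ) (by omega)
    have h5 : M φ * Char.degree φ ≤ 1 := by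
      rw [← hsum]
      exact Finset.single_le_sum (f := fun φ => M φ * Char.degree φ) (fun _ _ => Nat.zero_le _) hφ
    have h6 : M φ * Char.degree φ = 1 := by
      simp only [ne_eq] at hφne
      omega
    have h7 := c.linear φ (Nat.eq_one_of_mul_eq_one_left h6)
    rw [h7, hM1, zero_mul] at h6
    exact zero_ne_one h6

end Ctx

end Cfsg.Agent.PrimeTwoQ
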