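import Cfsg.Agent.Lib.Char.PermChar
import Mathlib.GroupTheory.GroupAction.MultipleTransitivity

/-!
# Averaging over a finite group acting on a finite set
-/

set_option autoImplicit false
set_option linter.unusedSectionVars false
set_option linter.style.haveILetI false

namespace Cfsg.Agent.PrimeTwoQ

open MulAction Finset
open scoped Classical

universe u v

variable {H : Type u} [Group H] [Fintype H] {S : Type v} [Fintype S] [MulAction H S]

variable (S) in
/-- The number of fixed points. -/
noncomputable def nfix (g : H) : ℕ := (univ.filter fun x : S => g • x = x).card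

theorem nfix_eq_natCard (g : H) : nfix S g = Nat.card (fixedBy S g) := by
  rw [nfix, Nat.card_eq_fintype_card, ← Set.toFinset_card]
  congr 1
  ext x
  simp [mem_fixedBy]

theorem isCharacter_nfix : IsCharacter H (fun g => (nfix S g : ℂ)) := by
  simp only [nfix_eq_natCard]
  exact Char.isCharacter_fixedBy S

theorem isClassFunction_nfix : IsClassFunction H (fun g => (nfix S g : ℂ)) :=
  Char.IsCharacter.isClassFunction isCharacter_nfix

theorem nfix_one : nfix S (1 : H) = Fintype.card S := by
  simp [nfix]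

theorem nfix_le (g : H) : nfix S g ≤ Fintype.card S := card_filter_le _ _

/-- The elements carrying `x` to `y`. -/
theorem card_filter_smul_eq {x y : S} (h : ∃ g : H, g • x = y) :
    (univ.filter fun g : H => g • x = y).card = Nat.card (stabilizer H x) := by
  obtain ⟨g₀, rfl⟩ := h
  rw [Nat.card_eq_fintype_card, Fintype.card_subtype]
  refine card_equiv (Equiv.mulLeft g₀⁻¹) fun g => ?_
  simp [mem_stabilizer_iff, mul_smul, inv_smul_eq_iff]

/-- An orbit times a stabilizer. -/
theorem card_mul_card_stabilizer {P : Finset S} {x : S} (hP : ∀ y, y ∈ P ↔ ∃ g : H, g • x = y) :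
    P.card * Nat.card (stabilizer H x) = Nat.card H := by
  rw [Nat.card_eq_fintype_card (α := H), ← card_univ (α := H),
    Finset.card_eq_sum_card_fiberwise (s := (univ : Finset H)) (t := P) (f := fun g => g • x)
      (fun g _ => (hP _).2 ⟨g, rfl⟩),
    Finset.sum_congr rfl fun y hy => card_filter_smul_eq ((hP y).1 hy), sum_const, smul_eq_mul]

/-- Averaging a kernel with constant row sums on an orbit. -/
theorem sum_orbit_kernel {P : Finset S} (hP : ∀ x ∈ P, ∀ y, y ∈ P ↔ ∃ g : H, g • x = y)
    (K : S → S → ℂ) {c : ℂ} (hc : ∀ x ∈ P, ∑ y ∈ P, K x y = c) (hne : P.Nonempty) :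
    ∑ g : H, ∑ x ∈ P, K x (g • x) = (Nat.card H : ℂ) * c := by
  rw [sum_comm]
  have h1 : ∀ x ∈ P, (P.card : ℂ) * ∑ g : H, K x (g • x) = (Nat.card H : ℂ) * c := by
    intro x hx
    rw [← sum_fiberwise_of_maps_to (g := fun g : H => g • x) (fun g _ => (hP x hx _).2 ⟨g, rfl⟩),
      Finset.sum_congr rfl fun y hy => by
        rw [Finset.sum_congr rfl fun g hg => by rw [(mem_filter.1 hg).2], sum_const, nsmul_eq_mul,
          card_filter_smul_eq ((hP x hx y).1 hy)],
      ← mul_sum, hc x hx, ← mul_assoc, ← Nat.cast_mul, card_mul_card_stabilizer (hP x hx)]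
  have h2 : (P.card : ℂ) ≠ 0 := Nat.cast_ne_zero.2 hne.card_pos.ne'
  refine mul_left_cancel₀ h2 ?_
  rw [mul_sum, Finset.sum_congr rfl h1, sum_const, nsmul_eq_mul]

/-- The average of an invariant integral kernel is an integer. -/
theorem exists_sum_kernel_eq (K : S → S → ℤ) (hK : ∀ (g : H) x y, K (g • x) (g • y) = K x y) :
    ∃ z : ℤ, ∑ g : H, ∑ x : S, (K x (g • x) : ℂ) = (Nat.card H : ℂ) * z := by
  let π : S → orbitRel.Quotient H S := fun x => Quotient.mk'' x
  have hπ : ∀ x y, π y = π x ↔ ∃ g : H, g • x = y := fun x y => by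
    simp only [π, Quotient.eq'', orbitRel_apply, mem_orbit_iff]
  have hP : ∀ q : orbitRel.Quotient H S, ∃ z : ℤ,
      ∑ g : H, ∑ x ∈ univ.filter (fun x => π x = q), (K x (g • x) : ℂ) = (Nat.card H : ℂ) * z := by
    intro q
    obtain ⟨x₀, rfl⟩ : ∃ x₀, π x₀ = q := Quotient.mk''_surjective q
    refine ⟨∑ y ∈ univ.filter (fun x => π x = π x₀), K x₀ y, ?_⟩
    refine sum_orbit_kernel (fun x hx y => ?_) (fun x y => (K x y : ℂ)) (fun x hx => ?_)
      ⟨x₀, by simp⟩
    · rw [mem_filter, ← (mem_filter.1 hx).2, hπ]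
      simp
    · obtain ⟨g₀, rfl⟩ := (hπ x₀ x).1 (mem_filter.1 hx).2
      push_cast
      symm
      refine sum_equiv (MulAction.toPerm g₀) (fun y => ?_) fun y _ => ?_
      · simp only [mem_filter, mem_univ, true_and, toPerm_apply]
        rw [show π (g₀ • y) = π y from (hπ y _).2 ⟨g₀, rfl⟩]
      · simp [hK]
  choose z hz using hP
  refine ⟨∑ q, z q, ?_⟩
  push_cast
  rw [mul_sum, ← Finset.sum_congr rfl fun q _ => hz q]
  conv_rhs => rw [sum_comm]
  exact Finset.sum_congr rfl fun g _ => by rw [sum_fiberwise]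

/-- Summing over the pairs of an element and one of its fixed points. -/
theorem sum_fixed_conj [IsPretransitive H S] (a : S) (φ : S → H → ℂ)
    (hφ : ∀ (h : H) (x : S) (g : H), φ (h • x) (h * g * h⁻¹) = φ x g) :
    ∑ g : H, ∑ x ∈ univ.filter (fun x : S => g • x = x), φ x g =
      (Fintype.card S : ℂ) * ∑ h : stabilizer H a, φ a h := by
  simp only [sum_filter]
  rw [sum_comm, ← card_univ (α := S), ← nsmul_eq_mul, ← sum_const]
  refine Finset.sum_congr rfl fun x _ => ?_
  obtain ⟨t, rfl⟩ := exists_smul_eq H a x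
  rw [← sum_filter, ← Finset.sum_subtype (univ.filter fun g : H => g ∈ stabilizer H a)
    (fun g => by simp) (fun g => φ a g)]
  refine sum_equiv (MulAut.conj t⁻¹).toEquiv (fun g => ?_) fun g _ => ?_
  · simp [mem_stabilizer_iff, mul_smul, inv_smul_eq_iff]
  · simp only [MulEquiv.toEquiv_eq_coe, MulEquiv.coe_toEquiv, MulAut.conj_apply, inv_inv]
    conv_lhs => rw [show g = t * (t⁻¹ * g * t) * t⁻¹ by group, hφ]

/-- A class function times the number of fixed points. -/
theorem sum_mul_nfix [IsPretransitive H S] (a : S) {F : H → ℂ} (hF : IsClassFunction H F) :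
    ∑ g : H, F g * (nfix S g : ℂ) = (Fintype.card S : ℂ) * ∑ h : stabilizer H a, F h := by
  rw [← sum_fixed_conj a (fun _ g => F g) (fun h _ g => hF g h)]
  refine Finset.sum_congr rfl fun g _ => ?_
  rw [sum_const, nsmul_eq_mul, nfix, mul_comm]

/-- Burnside's formula for fixed tuples. -/
theorem sum_descFactorial (k : ℕ) :
    ∑ g : H, (nfix S g).descFactorial k =
      Nat.card (Quotient (orbitRel H (Fin k ↪ S))) * Nat.card H := by
  have h := MulAction.sum_card_fixedBy_eq_card_orbits_mul_card_group H (Fin k ↪ S)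
  simp only [← Nat.card_eq_fintype_card] at h
  rw [← h]
  refine Finset.sum_congr rfl fun g _ => ?_
  have hke := Fintype.card_embedding_eq (α := Fin k) (β := fixedBy S g)
  rw [Fintype.card_fin, ← Nat.card_eq_fintype_card, ← Nat.card_eq_fintype_card,
    ← nfix_eq_natCard] at hke
  rw [← hke]
  exact Nat.card_congr
    { toFun := fun f => ⟨⟨fun i => (f i).1, fun i j hij => f.injective (Subtype.ext hij)⟩,
        Function.Embedding.ext fun i => (f i).2⟩
      invFun := fun f => ⟨fun i => ⟨f.1 i, congrArg (fun e : Fin k ↪ S => e i) f.2⟩,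
        fun i j hij => f.1.injective (congrArg Subtype.val hij)⟩
      left_inv := fun _ => rfl
      right_inv := fun _ => rfl }

theorem sum_descFactorial_eq {k : ℕ} (hk : k ≤ Fintype.card S)
    (h : IsMultiplyPretransitive H S k) : ∑ g : H, (nfix S g).descFactorial k = Nat.card H := by
  rw [sum_descFactorial k]
  haveI : Nonempty (Fin k ↪ S) := Function.Embedding.nonempty_of_card_le (by simpa using hk)
  haveI : Subsingleton (orbitRel.Quotient H (Fin k ↪ S)) :=
    (pretransitive_iff_subsingleton_quotient _ _).1 h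
  haveI : Nonempty (orbitRel.Quotient H (Fin k ↪ S)) := Nonempty.map (Quotient.mk'') inferInstance
  rw [show Nat.card (Quotient (orbitRel H (Fin k ↪ S))) = 1 from
    Nat.card_eq_one_iff_unique.2 ⟨‹_›, ‹_›⟩, one_mul]

theorem isMultiplyPretransitive_of_sum {k : ℕ}
    (h : ∑ g : H, (nfix S g).descFactorial k = Nat.card H) : IsMultiplyPretransitive H S k := by
  rw [sum_descFactorial k] at h
  have h1 : Nat.card (Quotient (orbitRel H (Fin k ↪ S))) = 1 :=
    (mul_eq_right₀ Nat.card_pos.ne').1 h
  exact (pretransitive_iff_subsingleton_quotient _ _).2 (Nat.card_eq_one_iff_unique.1 h1).1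

/-- The number of fixed points of the square, as pairs interchanged. -/
theorem sum_nfix_sq (h2 : IsMultiplyPretransitive H S 2) (hS : 2 ≤ Fintype.card S) :
    ∑ g : H, (nfix S (g ^ 2) : ℂ) = 2 * (Nat.card H : ℂ) := by
  let K : S × S → S × S → ℂ := fun w w' => if w' = w.swap then 1 else 0
  have h1 : ∀ g : H, (nfix S (g ^ 2) : ℂ) = ∑ w : S × S, K w (g • w) := fun g => by
    rw [Fintype.sum_prod_type, nfix]
    simp only [K, Prod.swap, Prod.smul_mk, Prod.mk.injEq, ite_and, pow_two, mul_smul]
    rw [Finset.card_filter]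
    push_cast
    refine Finset.sum_congr rfl fun x _ => ?_
    rw [Finset.sum_eq_single (g • x) (fun y _ hy => if_neg fun h => hy h.symm) (by simp), if_pos rfl]
  obtain ⟨a, b, hab⟩ : ∃ a b : S, a ≠ b := Fintype.one_lt_card_iff.1 hS
  haveI := h2
  haveI : IsPretransitive H S := isPretransitive_of_is_two_pretransitive
  simp only [h1]
  rw [Finset.sum_congr rfl fun g _ => (Finset.sum_filter_add_sum_filter_not univ
    (fun w : S × S => w.1 = w.2) (fun w => K w (g • w))).symm, sum_add_distrib,
    sum_orbit_kernel (c := 1) ?_ K ?_ ⟨(a, a), by simp⟩,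
    sum_orbit_kernel (c := 1) ?_ K ?_ ⟨(a, b), by simp [hab]⟩]
  · ring
  · rintro ⟨x, y⟩ hx ⟨x', y'⟩
    simp only [mem_filter, mem_univ, true_and] at hx ⊢
    constructor
    · intro h
      obtain ⟨g, hg, hg'⟩ := is_two_pretransitive_iff.1 h2 hx h
      exact ⟨g, Prod.ext hg hg'⟩
    · rintro ⟨g, hg⟩ h
      simp only [Prod.smul_mk, Prod.mk.injEq] at hg
      exact hx (MulAction.injective g (hg.1.trans (h.trans hg.2.symm)))
  · rintro ⟨x, y⟩ hx
    simp only [mem_filter, mem_univ, true_and] at hx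
    simp [K, sum_ite_eq', Ne.symm hx]
  · rintro ⟨x, y⟩ hx ⟨x', y'⟩
    simp only [mem_filter, mem_univ, true_and] at hx ⊢
    constructor
    · intro h
      obtain ⟨g, hg⟩ := exists_smul_eq H x x'
      exact ⟨g, Prod.ext hg (by simp [Prod.smul_snd, ← hx, ← h, hg])⟩
    · rintro ⟨g, hg⟩
      simp only [Prod.smul_mk, Prod.mk.injEq] at hg
      rw [← hg.1, ← hg.2, hx]
  · rintro ⟨x, y⟩ hx
    simp only [mem_filter, mem_univ, true_and] at hx
    simp [K, sum_ite_eq', hx]

end Cfsg.Agent.PrimeTwoQ
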