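import Cfsg.Agent.Lib.PrimeTwoQ.Trace
import Mathlib.GroupTheory.GroupAction.SubMulAction.OfStabilizer

/-!
# Kernels in three variables as matrices on ordered pairs and on a punctured set
-/

set_option autoImplicit false
set_option linter.unusedSectionVars false
set_option linter.style.haveILetI false

namespace Cfsg.Agent.PrimeTwoQ

open Cfsg Cfsg.Agent MulAction Finset Matrix
open scoped Classical ComplexConjugate

universe u v

variable (G : Type u) [Group G] [Fintype G] (Ω : Type v) [Fintype Ω] [MulAction G Ω]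

/-- Ordered pairs of distinct points. -/
def pairs : SubMulAction G (Ω × Ω) where
  carrier := {w | w.1 ≠ w.2}
  smul_mem' g _ hw h := hw (MulAction.injective g h)

variable {G Ω}

theorem pairs_ne (w : pairs G Ω) : (w : Ω × Ω).1 ≠ (w : Ω × Ω).2 := w.2

/-- Sums over pairs. -/
theorem sum_pairs {M : Type*} [AddCommMonoid M] (f : Ω → Ω → M) :
    ∑ w : pairs G Ω, f (w : Ω × Ω).1 (w : Ω × Ω).2 = ∑ a, ∑ z, if a ≠ z then f a z else 0 := by
  rw [← Fintype.sum_prod_type' (f := fun a z => if a ≠ z then f a z else 0), ← sum_filter]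
  symm
  exact Finset.sum_subtype _ (fun w => by simp; exact Iff.rfl) (fun w : Ω × Ω => f w.1 w.2)

/-- A kernel at a point, as a matrix on the other points. -/
noncomputable def loc (a : Ω) (K : Ω → Ω → Ω → ℂ) :
    Matrix (SubMulAction.ofStabilizer G a) (SubMulAction.ofStabilizer G a) ℂ :=
  fun b c => K a b c

/-- A kernel as a matrix on pairs with the same first coordinate. -/
noncomputable def blk (K : Ω → Ω → Ω → ℂ) : Matrix (pairs G Ω) (pairs G Ω) ℂ :=
  fun w w' => if (w : Ω × Ω).1 = (w' : Ω × Ω).1 then K (w : Ω × Ω).1 (w : Ω × Ω).2 (w' : Ω × Ω).2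
    else 0

variable (G) in
/-- Invariance of a kernel. -/
def KInv (K : Ω → Ω → Ω → ℂ) : Prop := ∀ (g : G) a b c, K (g • a) (g • b) (g • c) = K a b c

theorem sum_ofStabilizer {M : Type*} [AddCommMonoid M] (a : Ω) (f : Ω → M) :
    ∑ b : SubMulAction.ofStabilizer G a, f b = ∑ b, if a ≠ b then f b else 0 := by
  rw [← sum_filter]
  symm
  exact Finset.sum_subtype _ (fun x => by simp [SubMulAction.mem_ofStabilizer_iff, eq_comm]) f

/-- Products of kernels. -/
theorem blk_mul_blk {K L M : Ω → Ω → Ω → ℂ} (h : ∀ a, loc (G := G) a K * loc a L = loc a M) :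
    (blk K * blk L : Matrix (pairs G Ω) (pairs G Ω) ℂ) = blk M := by
  ext w w'
  rw [Matrix.mul_apply]
  simp only [blk]
  rw [sum_pairs (G := G) (fun x y => (if (w : Ω × Ω).1 = x then K (w : Ω × Ω).1 (w : Ω × Ω).2 y else 0) *
    (if x = (w' : Ω × Ω).1 then L x y (w' : Ω × Ω).2 else 0)),
    Finset.sum_eq_single (w : Ω × Ω).1 (fun x _ hx => Finset.sum_eq_zero fun y _ => by
      simp [Ne.symm hx]) (by simp)]
  by_cases he : (w : Ω × Ω).1 = (w' : Ω × Ω).1
  · simp only [if_pos he, if_true]
    have := congrFun (congrFun (h (w : Ω × Ω).1) ⟨(w : Ω × Ω).2, (pairs_ne w).symm⟩)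
      ⟨(w' : Ω × Ω).2, by
        rw [SubMulAction.mem_ofStabilizer_iff, he]
        exact (pairs_ne w').symm⟩
    rw [Matrix.mul_apply] at this
    simp only [loc] at this
    rw [← this, sum_ofStabilizer (G := G) (w : Ω × Ω).1
      (fun y => K (w : Ω × Ω).1 (w : Ω × Ω).2 y * L (w : Ω × Ω).1 y (w' : Ω × Ω).2)]
  · simp [he]

theorem KInv.blk_inv {K : Ω → Ω → Ω → ℂ} (hK : KInv G K) : MInv G (blk (G := G) K) := by
  intro g x y
  simp only [blk, SubMulAction.val_smul, Prod.smul_fst, Prod.smul_snd, (MulAction.injective g).eq_iff,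
    hK g]

theorem KInv.loc_inv {K : Ω → Ω → Ω → ℂ} (hK : KInv G K) (a : Ω) :
    MInv (stabilizer G a) (loc (G := G) a K) := by
  intro h x y
  have := hK (h : G) a x y
  rw [mem_stabilizer_iff.1 h.2] at this
  exact this

/-- The trace character of a kernel on pairs is induced from that at a point. -/
theorem classInner_blk [IsPretransitive G Ω] {K : Ω → Ω → Ω → ℂ} (hK : KInv G K) (α : Ω) {B : G → ℂ}
    (hB : IsClassFunction G B) :
    classInner (trM (H := G) (blk (G := G) K)) B =
      classInner (trM (H := stabilizer G α) (loc (G := G) α K)) (fun h : stabilizer G α => B h) := by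
  let φ : Ω → G → ℂ := fun a g => (∑ b, if a ≠ b then K a b (g • b) else 0) * conj (B g)
  have h1 : ∀ g : G, trM (blk (G := G) K) g * conj (B g) =
      ∑ a ∈ univ.filter (fun a : Ω => g • a = a), φ a g := by
    intro g
    simp only [trM, blk, SubMulAction.val_smul, Prod.smul_fst, Prod.smul_snd]
    rw [sum_pairs (G := G) (fun x y => if x = g • x then K x y (g • y) else 0), sum_filter, sum_mul]
    refine Finset.sum_congr rfl fun a _ => ?_
    by_cases h : g • a = a
    · simp [φ, h]
    · simp [h, Ne.symm h]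
  have hφ : ∀ (h : G) (a : Ω) (g : G), φ (h • a) (h * g * h⁻¹) = φ a g := fun h a g => by
    simp only [φ, hB g h]
    congr 1
    rw [← Equiv.sum_comp (MulAction.toPerm h)]
    refine Finset.sum_congr rfl fun b _ => ?_
    simp [mul_smul, hK h]
  have hcard : (Nat.card G : ℂ) = (Fintype.card Ω : ℂ) * (Nat.card (stabilizer G α) : ℂ) := by
    have := (stabilizer G α).card_mul_index
    rw [index_stabilizer_of_transitive, Nat.card_eq_fintype_card (α := Ω)] at this
    rw [← this]; push_cast; ring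
  have hΩ0 : (Fintype.card Ω : ℂ) ≠ 0 := Nat.cast_ne_zero.2 (Fintype.card_pos_iff.2 ⟨α⟩).ne'
  rw [classInner, classInner, Finset.sum_congr rfl fun g _ => h1 g, sum_fixed_conj α φ hφ, hcard,
    mul_inv, mul_comm ((Fintype.card Ω : ℂ)⁻¹), mul_assoc, inv_mul_cancel_left₀ hΩ0]
  congr 1
  refine Finset.sum_congr rfl fun h _ => ?_
  simp only [φ, trM, loc]
  rw [← sum_ofStabilizer (G := G) α (fun b => K α b ((h : G) • b))]
  rfl

theorem nfix_pairs (g : G) :
    (nfix (pairs G Ω) g : ℂ) = (nfix Ω g : ℂ) * ((nfix Ω g : ℂ) - 1) := by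
  have h : nfix (pairs G Ω) g = (univ.filter fun x : Ω => g • x = x).offDiag.card := by
    refine card_bij (fun u _ => (u : Ω × Ω)) (fun u hu => ?_) (fun u _ v _ h => Subtype.ext h)
      (fun w hw => ?_)
    · have hfix : g • u = u := by simpa using hu
      have hu' : g • (u : Ω × Ω) = u := by rw [← SubMulAction.val_smul, hfix]
      exact mem_offDiag.2 ⟨mem_filter.2 ⟨mem_univ _, congrArg Prod.fst hu'⟩,
        mem_filter.2 ⟨mem_univ _, congrArg Prod.snd hu'⟩, u.2⟩
    · obtain ⟨h1, h2, h3⟩ := mem_offDiag.1 hw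
      have hfix : g • (⟨w, h3⟩ : pairs G Ω) = ⟨w, h3⟩ :=
        Subtype.ext (Prod.ext (mem_filter.1 h1).2 (mem_filter.1 h2).2)
      exact ⟨⟨w, h3⟩, by simpa using hfix, rfl⟩
  rw [h, offDiag_card, Nat.cast_sub (Nat.le_mul_self _)]
  simp [nfix]
  ring

end Cfsg.Agent.PrimeTwoQ
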