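import Cfsg.Agent.Lib.PrimeTwoQ.Spectral

/-!
# The operator `Z = τ T τ T - T²` on ordered pairs and its multiplicities
-/

set_option autoImplicit false
set_option linter.unusedSectionVars false
set_option linter.style.haveILetI false

namespace Cfsg.Agent.PrimeTwoQ

open Cfsg Cfsg.Agent MulAction Finset Matrix
open scoped Classical ComplexConjugate

universe u v

variable {G : Type u} [Group G] [Fintype G] {Ω : Type v} [Fintype Ω] [MulAction G Ω]
  {p q : ℕ} [hp : Fact p.Prime] [hq : Fact q.Prime]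

variable (G Ω) in
/-- The interchange of the coordinates. -/
noncomputable def tau : Matrix (pairs G Ω) (pairs G Ω) ℤ :=
  fun w w' => if (w' : Ω × Ω) = (w : Ω × Ω).swap then 1 else 0

/-- A function of two points, on pairs. -/
def lift (F : Ω → Ω → ℂ) : pairs G Ω → ℂ := fun w => F (w : Ω × Ω).1 (w : Ω × Ω).2

namespace Col

variable (C : Col G Ω p q)

/-- The adjacency of pairs with the same first point. -/
noncomputable def adj : Matrix (pairs G Ω) (pairs G Ω) ℤ :=
  fun w w' => if (w : Ω × Ω).1 = (w' : Ω × Ω).1 ∧ C.R (w : Ω × Ω).1 (w : Ω × Ω).2 (w' : Ω × Ω).2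
    then 1 else 0

/-- The operator `Z`, over the integers. -/
noncomputable def ZI : Matrix (pairs G Ω) (pairs G Ω) ℤ :=
  tau G Ω * C.adj * (tau G Ω * C.adj) - C.adj * C.adj

/-- The operator `Z`. -/
noncomputable def Zm : Matrix (pairs G Ω) (pairs G Ω) ℂ := C.ZI.map (fun n : ℤ => (n : ℂ))

/-- Its trace function. -/
noncomputable def FZ : G → ℂ := trM C.Zm

/-- The adjacency over `ℂ`. -/
noncomputable def TT : Matrix (pairs G Ω) (pairs G Ω) ℂ := C.adj.map (fun n : ℤ => (n : ℂ))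

end Col

variable (G Ω) in
/-- The interchange over `ℂ`. -/
noncomputable def tt : Matrix (pairs G Ω) (pairs G Ω) ℂ := (tau G Ω).map (fun n : ℤ => (n : ℂ))

namespace Col

variable (C : Col G Ω p q)

theorem Zm_eq : C.Zm = tt G Ω * C.TT * (tt G Ω * C.TT) - C.TT * C.TT := by
  have h : ∀ A B : Matrix (pairs G Ω) (pairs G Ω) ℤ,
      (A * B).map (fun n : ℤ => (n : ℂ)) = A.map (fun n : ℤ => (n : ℂ)) * B.map (fun n : ℤ => (n : ℂ)) :=
    fun A B => Matrix.map_mul (f := Int.castRingHom ℂ)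
  rw [Zm, ZI, Matrix.map_sub _ (fun a b => Int.cast_sub a b), h, h, h]
  rfl

theorem TT_eq : C.TT = blk (G := G) C.KA := by
  ext w w'
  simp only [TT, adj, Matrix.map_apply, blk, KA, ite_and]
  split_ifs <;> simp

theorem TT_inv : MInv G C.TT := by rw [C.TT_eq]; exact C.KA_inv.blk_inv

theorem tt_inv : MInv G (tt G Ω) := fun g x y => by
  have hiff : ((g • y : pairs G Ω) : Ω × Ω) = ((g • x : pairs G Ω) : Ω × Ω).swap ↔
      (y : Ω × Ω) = (x : Ω × Ω).swap := by
    show g • (y : Ω × Ω) = g • (x : Ω × Ω).swap ↔ _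
    exact (MulAction.injective g).eq_iff
  simp only [tt, Matrix.map_apply, tau, hiff]

theorem tt_sq : tt G Ω * tt G Ω = 1 := by
  ext w w'
  simp only [Matrix.mul_apply, tt, Matrix.map_apply, tau, Int.cast_ite, Int.cast_one, Int.cast_zero,
    ite_mul, one_mul, zero_mul]
  rw [Finset.sum_eq_single (⟨(w : Ω × Ω).swap, (pairs_ne w).symm⟩ : pairs G Ω)
    (fun x _ hx => if_neg fun h => hx (Subtype.ext h)) (by simp), if_pos rfl, Prod.swap_swap]
  by_cases h : w = w'
  · subst h; simp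
  · rw [Matrix.one_apply_ne h, if_neg fun e => h (Subtype.ext e.symm)]

theorem Zm_inv : MInv G C.Zm := by
  rw [C.Zm_eq]
  exact ((Col.tt_inv.mul C.TT_inv).mul (Col.tt_inv.mul C.TT_inv)).sub (C.TT_inv.mul C.TT_inv)

theorem isClassFunction_FZ : IsClassFunction G C.FZ := C.Zm_inv.isClassFunction

variable (c : Ctx G Ω p q)
include c

/-- A constituent missing one of the eigenspaces is killed by `Z`. -/
theorem inner_FZ_eq_zero {r s : ℂ} (hrs : r ≠ s) (hsum : r + s = (C.lam : ℂ) - C.mu)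
    (hprod : r * s = (C.mu : ℂ) - C.k) {ψ : IrrCharacter G} (h1 : ψ ≠ Char.trivialChar G)
    (h2 : ψ ≠ c.chi)
    (h0 : classInner (trM (H := stabilizer G c.α) (loc (G := G) c.α (C.KP r s)))
      (fun h : stabilizer G c.α => ψ.1 h) = 0) : classInner C.FZ ψ.1 = 0 := by
  haveI := c.pretransitive
  have hψ := Char.IsCharacter.isClassFunction (Char.irr_isCharacter ψ)
  set Ψ := avg (pairs G Ω) ψ.1
  have hE : blk (G := G) (C.KP r s) * Ψ = 0 :=
    (C.KP_inv r s).blk_inv.mul_avg_eq_zero (blk_mul_blk fun a => C.loc_idem c a hrs hsum hprod) ψ.2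
      (by rw [classInner_blk (C.KP_inv r s) c.α hψ, h0])
  have hE0 : blk (G := G) (K0 Ω q) * Ψ = 0 :=
    (Col.K0_inv (G := G)).blk_inv.mul_avg_eq_zero (blk_mul_blk fun a => (C.loc_rel c a).2.2.1) ψ.2 (by
      rw [classInner_blk (Col.K0_inv (G := G)) c.α hψ,
        show trM (H := stabilizer G c.α) (loc (G := G) c.α (K0 Ω q)) = fun _ => (1 : ℂ) from
          funext fun h => Col.trM_K0 _ h (card_punct c _),
        ← Char.conj_classInner, c.restrict_trivial h1 h2, map_zero])
  have hT : C.TT = s • (1 : Matrix (pairs G Ω) (pairs G Ω) ℂ) + ((C.k : ℂ) - s) • blk (K0 Ω q) +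
      (r - s) • blk (C.KP r s) := by
    rw [C.TT_eq]
    ext w w'
    simp only [Matrix.add_apply, Matrix.smul_apply, smul_eq_mul, blk, KP]
    by_cases he : (w : Ω × Ω).1 = (w' : Ω × Ω).1
    · simp only [if_pos he]
      have h1' : (1 : Matrix (pairs G Ω) (pairs G Ω) ℂ) w w' =
          K1 Ω (w : Ω × Ω).1 (w : Ω × Ω).2 (w' : Ω × Ω).2 := by
        by_cases h : w = w'
        · subst h; simp [K1]
        · rw [Matrix.one_apply_ne h, K1, if_neg fun e => h (Subtype.ext (Prod.ext he e))]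
      rw [h1', ← mul_assoc, mul_inv_cancel₀ (sub_ne_zero.2 hrs)]
      ring
    · rw [Matrix.one_apply_ne (fun h => he (by rw [h]))]
      simp [he]
  have hTΨ : C.TT * Ψ = s • Ψ := by
    rw [hT, add_mul, add_mul, smul_mul_assoc, smul_mul_assoc, smul_mul_assoc, hE, hE0, one_mul,
      smul_zero, smul_zero, add_zero, add_zero]
  have htΨ : tt G Ω * Ψ = Ψ * tt G Ω := ((Col.tt_inv (G := G) (Ω := Ω)).comm_avg ψ.1).symm
  have hZ : C.Zm * Ψ = 0 := by
    have e1 : tt G Ω * C.TT * (tt G Ω * C.TT) * Ψ = (s * s) • Ψ := by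
      rw [mul_assoc, mul_assoc (tt G Ω) C.TT Ψ, hTΨ, mul_smul_comm, htΨ, mul_smul_comm,
        mul_assoc (tt G Ω) C.TT (Ψ * tt G Ω), ← mul_assoc C.TT Ψ, hTΨ, smul_mul_assoc, mul_smul_comm,
        smul_smul, ← mul_assoc (tt G Ω) Ψ, htΨ, mul_assoc Ψ, Col.tt_sq, mul_one]
    have e2 : C.TT * C.TT * Ψ = (s * s) • Ψ := by
      rw [mul_assoc, hTΨ, mul_smul_comm, hTΨ, smul_smul]
    rw [C.Zm_eq, sub_mul, e1, e2, sub_self]
  rw [FZ, classInner_trM, hZ, Matrix.trace_zero, mul_zero]

omit c in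
theorem tt_mulVec (F : Ω → Ω → ℂ) : tt G Ω *ᵥ lift F = lift fun a b => F b a := by
  funext w
  simp only [Matrix.mulVec, dotProduct, tt, Matrix.map_apply, tau, Int.cast_ite, Int.cast_one,
    Int.cast_zero, ite_mul, one_mul, zero_mul]
  rw [Finset.sum_eq_single (⟨(w : Ω × Ω).swap, (pairs_ne w).symm⟩ : pairs G Ω)
    (fun x _ hx => if_neg fun h => hx (Subtype.ext h)) (by simp), if_pos rfl]
  rfl

omit c in
theorem TT_mulVec (F : Ω → Ω → ℂ) :
    C.TT *ᵥ lift F = lift fun a b => ∑ z, if C.R a b z then F a z else 0 := by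
  funext w
  rw [C.TT_eq]
  simp only [Matrix.mulVec, dotProduct, blk, lift, KA]
  rw [sum_pairs (G := G) (fun x y => (if (w : Ω × Ω).1 = x then
    (if C.R (w : Ω × Ω).1 (w : Ω × Ω).2 y then (1 : ℂ) else 0) else 0) * F x y),
    Finset.sum_eq_single (w : Ω × Ω).1 (fun x _ hx => Finset.sum_eq_zero fun y _ => by
      simp [Ne.symm hx]) (by simp)]
  refine Finset.sum_congr rfl fun z _ => ?_
  by_cases hR : C.R (w : Ω × Ω).1 (w : Ω × Ω).2 z
  · simp [hR, (C.ne hR).2.1.symm]
  · simp [hR]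

omit c in
theorem Zm_mulVec (F : Ω → Ω → ℂ) : C.Zm *ᵥ lift F =
    lift fun a b => (∑ z, if C.R b a z then (∑ u, if C.R z b u then F z u else 0) else 0) -
      ∑ z, if C.R a b z then (∑ u, if C.R a z u then F a u else 0) else 0 := by
  rw [C.Zm_eq, Matrix.sub_mulVec, ← Matrix.mulVec_mulVec, ← Matrix.mulVec_mulVec, ← Matrix.mulVec_mulVec,
    ← Matrix.mulVec_mulVec, C.TT_mulVec F, C.TT_mulVec, tt_mulVec, C.TT_mulVec, tt_mulVec]
  rfl

theorem trace_Zm : C.FZ 1 = -(2 * (p : ℂ) * q * C.k) := by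
  rw [FZ, trM_apply_one, Matrix.trace]
  have hdiag : ∀ w : pairs G Ω, C.Zm.diag w = -(C.k : ℂ) := by
    intro w
    have hw := pairs_ne w
    have he : (Pi.single w 1 : pairs G Ω → ℂ) =
        lift fun a b => if a = (w : Ω × Ω).1 ∧ b = (w : Ω × Ω).2 then 1 else 0 := by
      funext x
      by_cases h : x = w
      · subst h; simp [lift]
      · rw [Pi.single_eq_of_ne h]
        simp only [lift]
        rw [if_neg fun e => h (Subtype.ext (Prod.ext e.1 e.2))]
    have h := congrFun (C.Zm_mulVec fun a b => if a = (w : Ω × Ω).1 ∧ b = (w : Ω × Ω).2 then 1 else 0) w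
    rw [← he, Matrix.mulVec_single_one, Matrix.col_apply] at h
    rw [Matrix.diag_apply, h]
    simp only [lift]
    have e1 : ∀ z, (if C.R (w : Ω × Ω).2 (w : Ω × Ω).1 z then
        (∑ u, if C.R z (w : Ω × Ω).2 u then
          (if z = (w : Ω × Ω).1 ∧ u = (w : Ω × Ω).2 then (1 : ℂ) else 0) else 0) else 0) = 0 := by
      intro z
      split_ifs with hz
      · refine Finset.sum_eq_zero fun u _ => ?_
        split_ifs with hu he'
        · exact absurd he'.1 (C.ne hz).2.2
        · rfl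
        · rfl
      · rfl
    rw [Finset.sum_eq_zero fun z _ => e1 z, zero_sub, neg_inj]
    refine (Finset.sum_congr rfl fun z _ => ?_).trans
      ((sum_boole (fun z => C.R (w : Ω × Ω).1 (w : Ω × Ω).2 z) univ).trans (by rw [C.count hw]))
    by_cases hR : C.R (w : Ω × Ω).1 (w : Ω × Ω).2 z
    · rw [if_pos hR, Finset.sum_eq_single (w : Ω × Ω).2 (fun u _ hu => by simp [hu]) (by simp)]
      simp [hR, C.symm₂ hR]
    · rw [if_neg hR, if_neg hR]
  rw [Finset.sum_congr rfl fun w _ => hdiag w, sum_const, card_univ, nsmul_eq_mul]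
  have hO : Fintype.card (pairs G Ω) = p * (2 * q) := by
    rw [show Fintype.card (pairs G Ω) = ((univ : Finset Ω).offDiag).card from ?_, offDiag_card,
      card_univ, c.hΩ, show 2 * q = p - 1 by have := c.hpq; omega, Nat.mul_sub, mul_one]
    exact Fintype.card_of_subtype _ fun w => by simp; exact Iff.rfl
  rw [hO]; push_cast; ring

/-- The four classes of pairs relative to the point. -/
noncomputable def cls (α a b : Ω) : Fin 4 :=
  if a = α then 0 else if b = α then 1 else if C.R α a b then 2 else 3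

omit c in
/-- The action of `T` on the four classes. -/
noncomputable def Qop (v : Fin 4 → ℂ) : Fin 4 → ℂ :=
  ![(C.k : ℂ) * v 0, (C.k : ℂ) * v 2, v 1 + (C.lam : ℂ) * v 2 + ((C.k : ℂ) - 1 - C.lam) * v 3,
    (C.mu : ℂ) * v 2 + ((C.k : ℂ) - C.mu) * v 3]

omit C c in
/-- The action of `τ` on the four classes. -/
def Sop (v : Fin 4 → ℂ) : Fin 4 → ℂ := ![v 1, v 0, v 2, v 3]

theorem TT_cls (α : Ω) (v : Fin 4 → ℂ) :
    C.TT *ᵥ lift (fun a b => v (C.cls α a b)) = lift fun a b => C.Qop v (C.cls α a b) := by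
  rw [C.TT_mulVec]
  funext w
  obtain ⟨⟨a, b⟩, hab⟩ := w
  have hab' : a ≠ b := hab
  simp only [lift]
  rw [← sum_filter]
  by_cases ha : a = α
  · subst ha
    rw [Finset.sum_congr rfl fun z hz => show v (C.cls a a z) = v 0 by simp [cls], sum_const,
      C.count hab']
    simp [cls, Qop]
  by_cases hb : b = α
  · subst hb
    rw [Finset.sum_congr rfl fun z hz => show v (C.cls b a z) = v 2 by
      have hz' := (mem_filter.1 hz).2
      simp [cls, ha, (C.ne hz').2.2, C.symm₁ hz'], sum_const, C.count hab']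
    simp [cls, ha, Qop]
  have hcls : C.cls α a b = if C.R α a b then 2 else 3 := by simp [cls, ha, hb]
  set Γ := univ.filter fun z => C.R a b z
  have hiff : C.R α a b ↔ C.R a b α := ⟨fun h => C.symm₂ (C.symm₁ h), fun h => C.symm₁ (C.symm₂ h)⟩
  have hz : ∀ z ∈ Γ, v (C.cls α a z) =
      (if z = α then v 1 - v 3 else 0) + (if C.R a α z then v 2 - v 3 else 0) + v 3 := by
    intro z _
    by_cases hzα : z = α
    · subst hzα
      simp [cls, ha, (C.not_self a z).1]
    · by_cases hR : C.R a α z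
      · simp [cls, ha, hzα, hR, C.symm₁ hR]
      · have : ¬ C.R α a z := fun h => hR (C.symm₁ h)
        simp [cls, ha, hzα, hR, this]
  rw [Finset.sum_congr rfl hz, sum_add_distrib, sum_add_distrib, sum_ite_eq', ← sum_filter, sum_const,
    sum_const, filter_filter, C.common hab' (Ne.symm ha) (Ne.symm hb), C.count hab', hcls]
  by_cases hR : C.R α a b
  · simp [Qop, hR, Γ, hiff.1 hR]
    ring
  · have hRab : ¬ C.R a b α := fun h => hR (hiff.2 h)
    simp [Qop, hR, Γ, hRab]
    ring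

theorem tt_cls (α : Ω) (v : Fin 4 → ℂ) :
    tt G Ω *ᵥ lift (fun a b => v (C.cls α a b)) = lift fun a b => Sop v (C.cls α a b) := by
  rw [tt_mulVec]
  funext w
  obtain ⟨⟨a, b⟩, hab⟩ := w
  have hab' : a ≠ b := hab
  simp only [lift]
  by_cases ha : a = α
  · subst ha; simp [cls, Sop, hab'.symm]
  by_cases hb : b = α
  · subst hb; simp [cls, Sop, ha]
  by_cases hR : C.R α a b
  · simp [cls, Sop, ha, hb, hR, C.symm₂ hR]
  · have : ¬ C.R α b a := fun h => hR (C.symm₂ h)
    simp [cls, Sop, ha, hb, hR, this]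

theorem Zm_cls (α : Ω) (v : Fin 4 → ℂ) :
    C.Zm *ᵥ lift (fun a b => v (C.cls α a b)) =
      lift fun a b => Sop (C.Qop (Sop (C.Qop v))) (C.cls α a b) - C.Qop (C.Qop v) (C.cls α a b) := by
  rw [C.Zm_eq, Matrix.sub_mulVec, ← Matrix.mulVec_mulVec, ← Matrix.mulVec_mulVec, ← Matrix.mulVec_mulVec,
    ← Matrix.mulVec_mulVec, C.TT_cls c α v, C.TT_cls c α, C.tt_cls c α, C.TT_cls c α, C.tt_cls c α]
  rfl

/-- `Z` kills the constants. -/
theorem inner_FZ_one : classInner C.FZ (fun _ => (1 : ℂ)) = 0 := by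
  obtain ⟨a₀, b₀, hab₀⟩ : ∃ a b : Ω, a ≠ b :=
    Fintype.one_lt_card_iff.1 (by rw [c.hΩ]; exact hp.out.one_lt)
  have h := sum_orbit_kernel (H := G) (P := (univ : Finset (pairs G Ω))) (c := 0) (fun x _ y => by
    simp only [mem_univ, true_iff]
    obtain ⟨g, hg, hg'⟩ := c.exists_pair (pairs_ne x) (pairs_ne y)
    exact ⟨g, Subtype.ext (Prod.ext hg hg')⟩) C.Zm (fun x _ => by
    have h := congrFun (C.Zm_cls c c.α (fun _ => (1 : ℂ))) x
    simp only [Matrix.mulVec, dotProduct, lift, mul_one] at h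
    rw [h]
    generalize C.cls c.α (x : Ω × Ω).1 (x : Ω × Ω).2 = i
    fin_cases i <;> simp [Sop, Qop] <;> ring) ⟨⟨(a₀, b₀), hab₀⟩, mem_univ _⟩
  rw [classInner_one_right]
  show (Nat.card G : ℂ)⁻¹ * ∑ g, trM C.Zm g = 0
  simp only [trM]
  rw [h, mul_zero, mul_zero]

/-- The multiplicity of `χ`. -/
theorem inner_FZ_perm : classInner C.FZ (perm G Ω) = -((C.k : ℂ) * ((C.k : ℂ) + 2)) := by
  haveI := c.pretransitive
  set α := c.α
  let P : Fin 4 → Finset (pairs G Ω) := fun i =>
    univ.filter fun w => C.cls α (w : Ω × Ω).1 (w : Ω × Ω).2 = i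
  let z : Fin 4 → ℂ := fun i =>
    Sop (C.Qop (Sop (C.Qop (fun j => if j = i then 1 else 0)))) i - C.Qop (C.Qop (fun j => if j = i then 1 else 0)) i
  have hinv : ∀ (h : stabilizer G α) (a b : Ω), C.cls α ((h : G) • a) ((h : G) • b) = C.cls α a b := by
    intro h a b
    have hα : (h : G) • α = α := h.2
    have e1 : ∀ x : Ω, (h : G) • x = α ↔ x = α := fun x => by
      constructor
      · intro e; exact MulAction.injective (h : G) (e.trans hα.symm)
      · rintro rfl; exact hα
    have e2 : C.R α ((h : G) • a) ((h : G) • b) ↔ C.R α a b := by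
      conv_rhs => rw [← C.inv (h : G), hα]
    simp only [cls, e1, e2]
  have horb : ∀ i, ∀ x ∈ P i, ∀ y, y ∈ P i ↔ ∃ h : stabilizer G α, h • x = y := by
    intro i x hx y
    simp only [P, mem_filter, mem_univ, true_and] at hx ⊢
    constructor
    · intro hy
      obtain ⟨⟨a, b⟩, hab⟩ := x
      obtain ⟨⟨a', b'⟩, hab'⟩ := y
      have hab1 : a ≠ b := hab
      have hab2 : a' ≠ b' := hab'
      simp only at hx hy
      suffices ∃ g : G, g • α = α ∧ g • a = a' ∧ g • b = b' by
        obtain ⟨g, h0, h1, h2⟩ := this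
        exact ⟨⟨g, h0⟩, Subtype.ext (Prod.ext h1 h2)⟩
      rw [← hy] at hx
      by_cases ha : a = α
      · have ha' : a' = α := by
          by_contra hne
          simp only [cls, if_pos ha, if_neg hne] at hx
          split_ifs at hx <;> simp at hx
        obtain ⟨g, g1, g2⟩ := c.exists_pair hab1 hab2
        exact ⟨g, by rw [← ha, g1, ha', ha], g1, g2⟩
      have ha' : a' ≠ α := fun e => by
        simp only [cls, if_neg ha, if_pos e] at hx
        split_ifs at hx <;> simp at hx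
      by_cases hb : b = α
      · have hb' : b' = α := by
          by_contra hne
          simp only [cls, if_neg ha, if_pos hb, if_neg ha', if_neg hne] at hx
          split_ifs at hx <;> simp at hx
        obtain ⟨g, g1, g2⟩ := c.exists_pair hab1 hab2
        exact ⟨g, by rw [← hb, g2, hb', hb], g1, g2⟩
      have hb' : b' ≠ α := fun e => by
        simp only [cls, if_neg ha, if_neg hb, if_neg ha', if_pos e] at hx
        split_ifs at hx <;> simp at hx
      have hiff : C.R α a b ↔ C.R α a' b' := by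
        simp only [cls, if_neg ha, if_neg hb, if_neg ha', if_neg hb'] at hx
        by_cases h1 : C.R α a b <;> by_cases h2 : C.R α a' b' <;> simp [h1, h2] at hx ⊢
      obtain ⟨g, g1, g2⟩ := c.exists_pair (Ne.symm ha) (Ne.symm ha')
      have hgb1 : g • b ≠ α := fun e => hb (MulAction.injective g (e.trans g1.symm))
      have hgb2 : g • b ≠ a' := fun e => hab1 (MulAction.injective g (g2.trans e.symm))
      obtain ⟨t, t1, t2, t3⟩ := C.trans (Ne.symm ha') hgb1 hgb2 hb' hab2.symm (by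
        conv_lhs => rw [← g2]
        rw [← hiff]
        conv_rhs => rw [← C.inv g, g1])
      exact ⟨t * g, by rw [mul_smul, g1, t1], by rw [mul_smul, g2, t2], by rw [mul_smul, t3]⟩
    · rintro ⟨h, rfl⟩
      exact (hinv h _ _).trans hx
  have hne : ∀ i, (P i).Nonempty := by
    obtain ⟨b, hb⟩ : ∃ b : Ω, b ≠ α := Fintype.exists_ne_of_one_lt_card
      (by rw [c.hΩ]; exact hp.out.one_lt) α
    obtain ⟨⟨u, hu⟩, w, hwa, hwb, hw⟩ := C.ex hb.symm
    intro i
    fin_cases i
    · exact ⟨⟨(α, b), hb.symm⟩, mem_filter.2 ⟨mem_univ _, by show C.cls α α b = 0; simp [cls]⟩⟩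
    · exact ⟨⟨(b, α), hb⟩, mem_filter.2 ⟨mem_univ _, by show C.cls α b α = 1; simp [cls, hb]⟩⟩
    · exact ⟨⟨(b, u), (C.ne hu).2.2.symm⟩,
        mem_filter.2 ⟨mem_univ _, by show C.cls α b u = 2; simp [cls, hb, (C.ne hu).2.1, hu]⟩⟩
    · exact ⟨⟨(b, w), hwb.symm⟩,
        mem_filter.2 ⟨mem_univ _, by show C.cls α b w = 3; simp [cls, hb, hwa, hw]⟩⟩
  have hrow : ∀ i, ∀ x ∈ P i, ∑ y ∈ P i, C.Zm x y = z i := by
    intro i x hx
    have h := congrFun (C.Zm_cls c α (fun j => if j = i then 1 else 0)) x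
    simp only [Matrix.mulVec, dotProduct, lift, mul_ite, mul_one, mul_zero] at h
    rw [← sum_filter] at h
    simp only [P, mem_filter, mem_univ, true_and] at hx
    rw [hx] at h
    exact h
  have hcl := isClassFunction_nfix (H := G) (S := Ω)
  rw [classInner_of_real (K := perm G Ω) (fun g => Complex.conj_natCast _),
    show ∑ g, C.FZ g * perm G Ω g = ∑ g, C.FZ g * (nfix Ω g : ℂ) from rfl,
    sum_mul_nfix α C.isClassFunction_FZ]
  have hsum : ∑ h : stabilizer G α, C.FZ (h : G) = (Nat.card (stabilizer G α) : ℂ) * ∑ i, z i := by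
    rw [mul_sum, Finset.sum_congr rfl fun i _ => (sum_orbit_kernel (H := stabilizer G α) (horb i)
      C.Zm (hrow i) (hne i)).symm, sum_comm]
    refine Finset.sum_congr rfl fun h _ => ?_
    show trM C.Zm (h : G) = _
    rw [trM, ← sum_fiberwise (univ : Finset (pairs G Ω))
      (fun w => C.cls α (w : Ω × Ω).1 (w : Ω × Ω).2)]
    rfl
  have hG := (stabilizer G α).card_mul_index
  rw [index_stabilizer_of_transitive, Nat.card_eq_fintype_card (α := Ω)] at hG
  rw [hsum, ← mul_assoc, ← mul_assoc, mul_assoc (Nat.card G : ℂ)⁻¹, ← Nat.cast_mul,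
    mul_comm (Fintype.card Ω), hG, inv_mul_cancel₀ Char.card_ne_zero, one_mul]
  simp [z, Fin.sum_univ_four, Sop, Qop]
  ring

/-- The pairing with the character on pairs is an integer. -/
theorem exists_inner_FZ_pairs :
    ∃ n : ℤ, classInner C.FZ (perm G Ω * perm G Ω - perm G Ω) = n := by
  let K : pairs G Ω × pairs G Ω → pairs G Ω × pairs G Ω → ℤ :=
    fun w w' => if w'.2 = w.2 then C.ZI w.1 w'.1 else 0
  have hK : ∀ (g : G) x y, K (g • x) (g • y) = K x y := fun g x y => by
    simp only [K, Prod.smul_snd, Prod.smul_fst, (MulAction.injective g).eq_iff]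
    congr 1
    have := C.Zm_inv g x.1 y.1
    simp only [Zm, Matrix.map_apply] at this
    exact_mod_cast this
  obtain ⟨n, hn⟩ := exists_sum_kernel_eq K hK
  refine ⟨n, ?_⟩
  rw [classInner_of_real (K := perm G Ω * perm G Ω - perm G Ω) (fun g => by simp [perm])]
  rw [inv_mul_eq_iff_eq_mul₀ Char.card_ne_zero, ← hn]
  refine Finset.sum_congr rfl fun g _ => ?_
  rw [Fintype.sum_prod_type, show (perm G Ω * perm G Ω - perm G Ω) g = (nfix (pairs G Ω) g : ℂ) by
    rw [nfix_pairs]; simp [perm]; ring]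
  show trM C.Zm g * _ = _
  rw [trM, sum_mul]
  refine Finset.sum_congr rfl fun x _ => ?_
  simp only [K, Prod.smul_snd, Prod.smul_fst, Int.cast_ite, Int.cast_zero, Zm, Matrix.map_apply]
  rw [← sum_filter, sum_const, nsmul_eq_mul, mul_comm, nfix]
  congr 3
  ext a
  simp

end Col

end Cfsg.Agent.PrimeTwoQ
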