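import Cfsg.Agent.Lib.PrimeTwoQ.ThreeBasic

/-!
# The shape of `X`: irreducible, or the exceptional family at `q`
-/

set_option autoImplicit false
set_option linter.unusedSectionVars false
set_option linter.style.haveILetI false

namespace Cfsg.Agent.PrimeTwoQ

open Cfsg Cfsg.Agent MulAction Finset
open scoped Classical ComplexConjugate

universe u v

variable {G : Type u} [Group G] [Fintype G] {Ω : Type v} [Fintype Ω] [MulAction G Ω]
  {p q : ℕ} [hp : Fact p.Prime] [hq : Fact q.Prime]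

namespace Ctx

variable (c : Ctx G Ω p q)
include c

theorem orderOf_Q {y : G} (hy : y ∈ (c.Q : Subgroup G)) (hy1 : y ≠ 1) : ¬ p ∣ orderOf y := by
  intro h
  have h1 : orderOf y ∣ q := c.scQ.card ▸ Subgroup.orderOf_dvd_natCard _ hy
  have := (Nat.prime_dvd_prime_iff_eq hp.out hq.out).1 (h.trans h1)
  have := c.hpq
  omega

/-- The members of the family at `q` are not exceptional at `p`. -/
theorem family_notMem {θ : IrrCharacter G} (h : θ ∈ c.shapeQ.Y) : θ ∉ c.shapeP.Y :=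
  not_both c.shapeQ c.shapeP c.two_le_q (fun _ hy hy1 => c.orderOf_Q hy hy1) h

theorem card_Y (h : c.shapeQ.Y.Nonempty) : c.shapeQ.Y.card = c.N := by
  have h1 := (c.shapeQ.big h).2
  rw [← c.hf, mul_comm c.f] at h1
  exact Nat.eq_of_mul_eq_mul_right (by have := c.two_le_f; omega) h1

theorem sum_Y_degree {θ : IrrCharacter G} (hθ : θ ∈ c.shapeQ.Y) :
    ∑ φ ∈ c.shapeQ.Y, Char.degree φ = c.N * Char.degree θ := by
  rw [Finset.sum_congr rfl fun φ hφ => c.shapeQ.deg_eq φ hφ θ hθ, sum_const, c.card_Y ⟨θ, hθ⟩,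
    smul_eq_mul]

/-- A constituent that is exceptional at `p` appears with its partner. -/
theorem pair_le {F : G → ℂ} {M : IrrCharacter G → ℕ} {a D : ℕ} (hM : F = ∑ ψ, (M ψ : ℂ) • ψ.1)
    (hD : F 1 = D) (ha : ∀ θ ∈ c.shapeP.Y, M θ = a) {ψ : IrrCharacter G} (hψ : ψ ∈ c.shapeP.Y)
    (hMψ : M ψ ≠ 0) : 2 * Char.degree ψ ≤ D := by
  obtain ⟨h2, -⟩ := c.shapeP.big ⟨ψ, hψ⟩
  obtain ⟨φ, hφ, hne⟩ := Finset.exists_mem_ne (by omega : 1 < c.shapeP.Y.card) ψ
  rw [ha ψ hψ] at hMψ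
  have hsub : ({φ, ψ} : Finset (IrrCharacter G)) ⊆ univ := subset_univ _
  have h := Finset.sum_le_sum_of_subset (f := fun x => M x * Char.degree x) hsub
  rw [sum_mul_degree hM hD, sum_pair hne, ha φ hφ, ha ψ hψ, c.shapeP.deg_eq φ hφ ψ hψ] at h
  have : Char.degree ψ ≤ a * Char.degree ψ := Nat.le_mul_of_pos_left _ (Nat.pos_of_ne_zero hMψ)
  omega

omit c in
theorem sum_sdiff_exists_neg {s : Finset (IrrCharacter G)} {M : IrrCharacter G → ℕ}
    {z : IrrCharacter G → ℤ} (hz : ∀ ψ, z ψ = 0 ∨ z ψ = 1 ∨ z ψ = -1)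
    (h : ∑ ψ ∈ s, (M ψ : ℤ) * z ψ < 0) : ∃ ψ ∈ s, M ψ ≠ 0 ∧ z ψ = -1 := by
  by_contra hno
  push Not at hno
  refine absurd (Finset.sum_nonneg fun ψ hψ => ?_) (not_le.2 h)
  rcases Nat.eq_zero_or_pos (M ψ) with h0 | h0
  · simp [h0]
  · rcases hz ψ with e | e | e
    · simp [e]
    · simp [e]
    · exact absurd e (hno ψ hψ h0.ne')

variable (h3 : IsMultiplyPretransitive G Ω 3)
include h3

theorem XX_cases : (∃ ψ : IrrCharacter G, XX G Ω = ψ.1) ∨
    (c.shapeQ.Y.Nonempty ∧ (∀ θ ∈ c.shapeQ.Y, Char.degree θ = p * c.f) ∧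
      XX G Ω = ∑ θ ∈ c.shapeQ.Y, θ.1) := by
  have hq11 := c.eleven
  have hpq := c.hpq
  have hpZ : (p : ℤ) = 2 * q + 1 := by exact_mod_cast hpq
  have hq1 : ((q - 1 : ℕ) : ℤ) = (q : ℤ) - 1 := by omega
  have hX := c.isCharacter_XX h3
  have hD := c.XX_one h3
  obtain ⟨M, a, hM, hMi, ha, ha0, hdeg, hval⟩ := c.shapeQ.split (m := c.f) c.two_le_f hX
    (fun y hy hy1 => c.XX_Q h3 hy hy1) hD
  obtain ⟨M', a', hM', hMi', ha', ha0', hdeg', hval'⟩ := c.shapeP.split (m := q) c.two_le_q hX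
    (fun y hy hy1 => c.XX_P h3 hy hy1) hD
  obtain rfl : M' = M := funext fun ψ => by exact_mod_cast (hMi' ψ).symm.trans (hMi ψ)
  have hB : ∀ φ, M' φ ≠ 0 → 2 * q + 1 ≤ Char.degree φ := fun φ h =>
    c.le_degree h3 (Or.inl (by rw [hMi]; exact Nat.cast_ne_zero.2 h))
  by_cases hneg : ∃ ψ ∈ univ \ c.shapeQ.Y, M' ψ ≠ 0 ∧ c.shapeQ.z ψ = -1
  · obtain ⟨ψ, hψ, hMψ, hz⟩ := hneg
    left
    refine ⟨ψ, ?_⟩
    have hd := hB ψ hMψ
    have hdle : Char.degree ψ ≤ p * (q - 1) :=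
      (Nat.le_mul_of_pos_left _ (Nat.pos_of_ne_zero hMψ)).trans (mul_degree_le hM hD ψ)
    have hdq : (Char.degree ψ : ℤ) ≡ -1 [ZMOD q] := hz ▸ c.shapeQ.deg ψ (mem_sdiff.1 hψ).2
    have hdleZ : (Char.degree ψ : ℤ) ≤ (p : ℤ) * ((q : ℤ) - 1) := by
      rw [← hq1]; exact_mod_cast hdle
    have hdZ : (2 * q + 1 : ℤ) ≤ Char.degree ψ := by exact_mod_cast hd
    by_cases hP : ψ ∈ c.shapeP.Y
    · exfalso
      have h2 : 2 * (Char.degree ψ : ℤ) ≤ (p : ℤ) * ((q : ℤ) - 1) := by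
        rw [← hq1]; exact_mod_cast c.pair_le hM hD ha' hP hMψ
      obtain ⟨j, hj, hdvd⟩ := exists_coeff hpq (c.shapeP.Y_deg ψ hP) hdq
      have hεq : (q : ℤ) ∣ c.shapeP.ε * q := dvd_mul_left _ _
      have hj1 : (q : ℤ) ∣ j + 1 := by
        have := dvd_sub hdvd hεq
        rwa [show j + c.shapeP.ε * q - -1 - c.shapeP.ε * q = j + 1 by ring] at this
      have hεb : c.shapeP.ε * (q : ℤ) ≤ q ∧ -(q : ℤ) ≤ c.shapeP.ε * q := by
        rcases c.shapeP.hε with e | e <;> rw [e] <;> omega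
      have hjlo : 1 ≤ j := by nlinarith
      have hjhi : (q : ℤ) - 1 ≤ j := by
        have := Int.le_of_dvd (by omega) hj1
        omega
      nlinarith
    · obtain ⟨j, hj, hdvd⟩ := exists_coeff hpq (c.shapeP.deg ψ hP) hdq
      have hzb : -1 ≤ c.shapeP.z ψ ∧ c.shapeP.z ψ ≤ 1 := by
        rcases c.shapeP.hz ψ with e | e | e <;> omega
      have hjlo : 1 ≤ j := by nlinarith
      have hjhi : j ≤ (q : ℤ) - 1 := by nlinarith
      obtain ⟨i, hi⟩ := hdvd
      have hi1 : i = 1 := by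
        have h1 : 0 < i := by nlinarith
        have h2 : i < 2 := by nlinarith
        omega
      rw [hi1, mul_one] at hi
      have hge : (p : ℤ) * ((q : ℤ) - 1) < Char.degree ψ + (2 * q + 1) := by
        rw [hj, show j = (q : ℤ) - 1 - c.shapeP.z ψ by omega]
        rcases c.shapeP.hz ψ with e | e | e <;> rw [e] <;> nlinarith
      refine (eq_irr_of_exhaust hM hD hB hMψ ?_).1
      rw [← hq1] at hge
      exact_mod_cast hge
  right
  have hsum : 0 ≤ ∑ ψ ∈ univ \ c.shapeQ.Y, (M' ψ : ℤ) * c.shapeQ.z ψ := by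
    by_contra h
    exact hneg (sum_sdiff_exists_neg c.shapeQ.hz (not_le.1 h))
  have haε : 0 < (a : ℤ) * c.shapeQ.ε := by linarith
  have hapos : 1 ≤ a := Nat.pos_of_ne_zero fun h => by simp [h] at haε
  have hε : c.shapeQ.ε = 1 := c.shapeQ.hε.resolve_right fun e => by rw [e] at haε; linarith
  have hne : c.shapeQ.Y.Nonempty := nonempty_iff_ne_empty.2 fun h => by
    have := ha0 h; omega
  obtain ⟨θ, hθ⟩ := hne
  rw [c.sum_Y_degree hθ] at hdeg
  have hNf : p * (q - 1) = c.N * (p * c.f) := by rw [← c.hf]; ring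
  have had : a * Char.degree θ ≤ p * c.f := by
    have : c.N * (a * Char.degree θ) ≤ c.N * (p * c.f) := by
      rw [← hNf, show c.N * (a * Char.degree θ) = a * (c.N * Char.degree θ) by ring]
      omega
    exact Nat.le_of_mul_le_mul_left this c.N_pos
  have hMθ : M' θ ≠ 0 := by rw [ha θ hθ]; omega
  have hd := hB θ hMθ
  have hdle : Char.degree θ ≤ p * c.f := (Nat.le_mul_of_pos_left _ hapos).trans had
  have hP := c.family_notMem hθ
  obtain ⟨j, hj, hdvd⟩ := exists_coeff hpq (c.shapeP.deg θ hP) (c.shapeQ.Y_deg θ hθ)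
  rw [hε, one_mul] at hdvd
  have hzb : -1 ≤ c.shapeP.z θ ∧ c.shapeP.z θ ≤ 1 := by
    rcases c.shapeP.hz θ with e | e | e <;> omega
  have hdZ : (2 * q + 1 : ℤ) ≤ Char.degree θ := by exact_mod_cast hd
  have hdleZ : (Char.degree θ : ℤ) ≤ (p : ℤ) * c.f := by exact_mod_cast hdle
  have hfq : (c.f : ℤ) * 2 + 1 ≤ q := by
    have := c.shapeQ.bound ⟨θ, hθ⟩
    exact_mod_cast (by omega : c.f * 2 + 1 ≤ q)
  have hf2 : (2 : ℤ) ≤ c.f := by exact_mod_cast c.two_le_f
  have hjlo : 1 ≤ j := by nlinarith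
  have hjhi : j ≤ c.f := by nlinarith
  have hx := eq_zero_of_dvd_of_lt hdvd (by omega) (by omega)
  have hz0 : c.shapeP.z θ = 0 := by
    rcases c.shapeP.hz θ with e | e | e
    · exact e
    · exfalso
      have hK : ∀ ψ, M' ψ ≠ 0 → ψ ∉ c.shapeP.Y →
          0 ≤ (Char.degree ψ : ℤ) + (4 * q + 1) * c.shapeP.z ψ := by
        intro ψ hMψ hψ
        have hψd : (2 * q + 1 : ℤ) ≤ Char.degree ψ := by exact_mod_cast hB ψ hMψ
        rcases c.shapeP.hz ψ with e' | e' | e' <;> rw [e']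
        · omega
        · omega
        · obtain ⟨i, hi⟩ := Int.modEq_iff_dvd.1 (e' ▸ c.shapeP.deg ψ hψ).symm
          have : 2 ≤ i := by nlinarith
          nlinarith
      have hpair : 0 ≤ (a' : ℤ) * (∑ φ ∈ c.shapeP.Y, (Char.degree φ : ℤ) - (4 * q + 1) * c.shapeP.ε) := by
        rcases Nat.eq_zero_or_pos a' with h0 | h0
        · simp [h0]
        refine mul_nonneg (Int.natCast_nonneg _) ?_
        rcases c.shapeP.Y.eq_empty_or_nonempty with hY | ⟨φ, hφ⟩
        · exact absurd (ha0' hY) h0.ne'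
        · have hφd : (2 * q + 1 : ℤ) ≤ Char.degree φ := by
            exact_mod_cast hB φ (by rw [ha' φ hφ]; omega)
          rw [Finset.sum_congr rfl fun x hx => show (Char.degree x : ℤ) = Char.degree φ by
              rw [c.shapeP.deg_eq x hx φ hφ], sum_const, nsmul_eq_mul]
          have hc2 : (2 : ℤ) ≤ (c.shapeP.Y.card : ℤ) := by exact_mod_cast (c.shapeP.big ⟨φ, hφ⟩).1
          rcases c.shapeP.hε with e' | e' <;> rw [e']
          · obtain ⟨i, hi⟩ := Int.modEq_iff_dvd.1 (e' ▸ c.shapeP.Y_deg φ hφ).symm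
            have : 1 ≤ i := by nlinarith
            nlinarith
          · nlinarith
      have hsub : c.shapeQ.Y ⊆ univ \ c.shapeP.Y := fun φ hφ =>
        mem_sdiff.2 ⟨mem_univ _, c.family_notMem hφ⟩
      have hlow := Finset.sum_le_sum_of_subset_of_nonneg (f := fun ψ => (M' ψ : ℤ) *
        ((Char.degree ψ : ℤ) + (4 * q + 1) * c.shapeP.z ψ)) hsub fun ψ hψ _ => by
          rcases Nat.eq_zero_or_pos (M' ψ) with h0 | h0
          · simp [h0]
          · exact mul_nonneg (Int.natCast_nonneg _) (hK ψ h0.ne' (mem_sdiff.1 hψ).2)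
      have hmem : ∀ φ ∈ c.shapeQ.Y, (M' φ : ℤ) *
          ((Char.degree φ : ℤ) + (4 * q + 1) * c.shapeP.z φ) =
          (a : ℤ) * ((Char.degree θ : ℤ) + (4 * q + 1)) := by
        intro φ hφ
        rw [ha φ hφ, c.shapeQ.deg_eq φ hφ θ hθ]
        have h1 := c.shapeP.deg φ (c.family_notMem hφ)
        have h2 := c.shapeP.deg θ hP
        rw [c.shapeQ.deg_eq φ hφ θ hθ] at h1
        have h4 := Int.modEq_iff_dvd.1 (h2.symm.trans h1)
        have h5 : c.shapeP.z φ - c.shapeP.z θ = 0 := eq_zero_of_dvd_of_lt h4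
          (by rcases c.shapeP.hz φ with e' | e' | e' <;> omega)
          (by rcases c.shapeP.hz φ with e' | e' | e' <;> omega)
        rw [show c.shapeP.z φ = 1 by omega, mul_one]
      rw [Finset.sum_congr rfl hmem, sum_const, nsmul_eq_mul, c.card_Y ⟨θ, hθ⟩] at hlow
      simp only [mul_add, sum_add_distrib] at hlow
      have hdegZ := congrArg (Nat.cast : ℕ → ℤ) hdeg'
      push_cast at hdegZ
      rw [hq1] at hdegZ
      have hz' : ∑ x ∈ univ \ c.shapeP.Y, (M' x : ℤ) * ((4 * q + 1) * c.shapeP.z x) =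
          (4 * q + 1) * ∑ x ∈ univ \ c.shapeP.Y, (M' x : ℤ) * c.shapeP.z x := by
        rw [mul_sum]; exact Finset.sum_congr rfl fun x _ => by ring
      rw [hz'] at hlow
      have hz'' : ∑ x ∈ univ \ c.shapeP.Y, (M' x : ℤ) * c.shapeP.z x = a' * c.shapeP.ε := by
        push_cast at hval' ⊢; linarith
      rw [hz''] at hlow
      have hNpos : (1 : ℤ) ≤ c.N := by exact_mod_cast c.N_pos
      have ha1 : (1 : ℤ) ≤ a := by exact_mod_cast hapos
      have hfN : (c.f : ℤ) * c.N = q - 1 := by rw [← hq1]; exact_mod_cast c.hf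
      have hd' : (Char.degree θ : ℤ) = p * c.f - 2 * q := by
        rw [hj, e, show j = (c.f : ℤ) - 1 by omega]
        linear_combination (-1 : ℤ) * hpZ
      rw [hd'] at hlow
      have hmul : (c.N : ℤ) * ((p : ℤ) * c.f - 2 * q + (4 * q + 1)) ≤
          c.N * (a * ((p : ℤ) * c.f - 2 * q + (4 * q + 1))) :=
        mul_le_mul_of_nonneg_left (le_mul_of_one_le_left (by nlinarith) ha1) (by omega)
      nlinarith
    · omega
  have hd0 : Char.degree θ = p * c.f := by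
    have : (Char.degree θ : ℤ) = (p : ℤ) * c.f := by
      rw [hj, hz0, add_zero, show j = (c.f : ℤ) by omega]
    exact_mod_cast this
  have ha1 : a = 1 := by
    refine le_antisymm (Nat.le_of_mul_le_mul_right (b := 1) ?_ (Char.degree_pos θ)) hapos
    omega
  rw [ha1, one_mul, hd0, ← hNf] at hdeg
  have hzero : ∀ ψ ∈ univ \ c.shapeQ.Y, M' ψ = 0 := fun ψ hψ => by
    have h := (Finset.sum_eq_zero_iff.1 (by omega : ∑ ψ ∈ univ \ c.shapeQ.Y, M' ψ * Char.degree ψ = 0)) ψ hψ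
    exact (Nat.mul_eq_zero.1 h).resolve_right (Char.degree_pos ψ).ne'
  refine ⟨⟨θ, hθ⟩, fun φ hφ => by rw [c.shapeQ.deg_eq φ hφ θ hθ, hd0], ?_⟩
  rw [hM, ← Finset.sum_sdiff (subset_univ c.shapeQ.Y), Finset.sum_eq_zero fun ψ hψ => by
    rw [hzero ψ hψ, Nat.cast_zero, zero_smul], zero_add]
  exact Finset.sum_congr rfl fun φ hφ => by rw [ha φ hφ, ha1, Nat.cast_one, one_smul]

end Ctx

end Cfsg.Agent.PrimeTwoQ
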