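import Cfsg.Agent.Lib.PrimeTwoQ.RankSetup
import Cfsg.Agent.Lib.PrimeTwoQ.ThreeClassify

/-!
# The constituents of the induced character: one large character or the family at `q`
-/

set_option autoImplicit false
set_option linter.unusedSectionVars false
set_option linter.style.haveILetI false

namespace Cfsg.Agent.PrimeTwoQ

open Cfsg Cfsg.Agent MulAction Finset Matrix
open scoped Classical ComplexConjugate

universe u v

variable {G : Type u} [Group G] [Fintype G] {Ω : Type v} [Fintype Ω] [MulAction G Ω]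
  {p q : ℕ} [hp : Fact p.Prime] [hq : Fact q.Prime]

/-- The large constituents. -/
structure Fam {c : Ctx G Ω p q} {C : Col G Ω p q} (sp : Spec c C) where
  Y : Finset (IrrCharacter G)
  f : ℕ
  N : ℕ
  hf : f * N + 1 = q
  two_le : 2 ≤ f
  card : Y.card = N
  deg : ∀ θ ∈ Y, (Char.degree θ : ℤ) = (p : ℤ) * f - 2 * q
  ne : ∀ θ ∈ Y, θ ≠ Char.trivialChar G ∧ θ ≠ c.chi
  mult : ∀ θ ∈ Y, classInner sp.E' θ.1 = 1
  eqE : ∀ θ ∈ Y, ∀ θ' ∈ Y, classInner sp.E θ.1 = classInner sp.E θ'.1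
  small : ∀ ψ : IrrCharacter G, ψ ∉ Y → classInner sp.F ψ.1 ≠ 0 → Char.degree ψ ≤ 2 * q

namespace Spec

variable {c : Ctx G Ω p q} {C : Col G Ω p q} (sp : Spec c C)
include sp

/-- The irreducible case. -/
theorem fam_of_neg {ψ : IrrCharacter G} (hψ : ψ ∉ c.shapeQ.Y) (hM : classInner sp.F ψ.1 ≠ 0)
    (hz : c.shapeQ.z ψ = -1) : Nonempty (Fam sp) := by
  have hq11 := c.eleven
  have hpq := c.hpq
  have hpZ : (p : ℤ) = 2 * q + 1 := by exact_mod_cast hpq
  have hp0 : (0 : ℤ) < p := by omega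
  set D := p * (q - 2) + 1
  have hDZ : (D : ℤ) = (p : ℤ) * ((q : ℤ) - 2) + 1 := by
    simp only [D]; push_cast [Nat.cast_sub (show 2 ≤ q by omega)]; ring
  obtain ⟨M, a', hdec, hMi, ha', -, -, -⟩ := c.shapeP.split (m := q) c.two_le_q sp.isCharacter_F
    (fun y hy hy1 => sp.F_P hy hy1) sp.F_one
  rw [hMi, Nat.cast_ne_zero] at hM
  have hdle : (Char.degree ψ : ℤ) ≤ D := by
    exact_mod_cast (Nat.le_mul_of_pos_left _ (Nat.pos_of_ne_zero hM)).trans
      (mul_degree_le hdec sp.F_one ψ)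
  have hd0 : (0 : ℤ) < Char.degree ψ := by exact_mod_cast Char.degree_pos ψ
  have hdq : (Char.degree ψ : ℤ) ≡ -1 [ZMOD q] := hz ▸ c.shapeQ.deg ψ hψ
  have hd : Char.degree ψ = D := by
    by_cases hP : ψ ∈ c.shapeP.Y
    · exfalso
      have h2 : 2 * (Char.degree ψ : ℤ) ≤ D := by
        exact_mod_cast c.pair_le hdec sp.F_one ha' hP hM
      obtain ⟨j, hj, hdvd⟩ := exists_coeff hpq (c.shapeP.Y_deg ψ hP) hdq
      have hj1 : (q : ℤ) ∣ j + 1 := by
        have := dvd_sub hdvd (dvd_mul_left (q : ℤ) c.shapeP.ε)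
        rwa [show j + c.shapeP.ε * q - -1 - c.shapeP.ε * q = j + 1 by ring] at this
      have hεb : c.shapeP.ε * (q : ℤ) ≤ q ∧ -(q : ℤ) ≤ c.shapeP.ε * q := by
        rcases c.shapeP.hε with e | e <;> rw [e] <;> omega
      have hjlo : 0 ≤ j := by
        by_contra h
        have := mul_le_mul_of_nonneg_left (show j ≤ -1 by omega) hp0.le
        omega
      have hjhi := Int.le_of_dvd (by omega) hj1
      have := mul_le_mul_of_nonneg_left (show (q : ℤ) - 1 ≤ j by omega) hp0.le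
      have h4 : (p : ℤ) * ((q : ℤ) - 2) = (p : ℤ) * ((q : ℤ) - 1) - p := by ring
      omega
    · obtain ⟨j, hj, hdvd⟩ := exists_coeff hpq (c.shapeP.deg ψ hP) hdq
      set z := c.shapeP.z ψ
      have hzb : -1 ≤ z ∧ z ≤ 1 := by rcases c.shapeP.hz ψ with e | e | e <;> omega
      have hjlo : 0 ≤ j := by
        by_contra h
        have := mul_le_mul_of_nonneg_left (show j ≤ -1 by omega) hp0.le
        omega
      have hne : j + z - -1 ≠ 0 := by
        intro h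
        have h1 : j = 0 := by omega
        rw [h1, mul_zero] at hj
        omega
      have hge : (q : ℤ) ≤ j + z - -1 := Int.le_of_dvd (by omega) hdvd
      have hjle : j ≤ (q : ℤ) - 2 := by
        by_contra h
        have := mul_le_mul_of_nonneg_left (show (q : ℤ) - 1 ≤ j by omega) hp0.le
        have h4 : (p : ℤ) * ((q : ℤ) - 2) = (p : ℤ) * ((q : ℤ) - 1) - p := by ring
        omega
      have hjeq : j = (q : ℤ) - 2 := by omega
      have hz1 : z = 1 := by omega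
      rw [hjeq, hz1, ← hDZ] at hj
      exact_mod_cast hj
  obtain ⟨hFψ, -, h0⟩ := eq_irr_of_exhaust hdec sp.F_one (B := 1)
    (fun φ _ => Char.degree_pos φ) hM (by rw [hd]; omega)
  refine ⟨⟨{ψ}, q - 1, 1, by omega, by omega, card_singleton ψ, ?_, ?_, ?_, ?_, ?_⟩⟩
  · intro θ hθ
    rw [mem_singleton.1 hθ, hd, hDZ, Nat.cast_sub (show 1 ≤ q by omega), hpZ]
    push_cast; ring
  · intro θ hθ
    rw [mem_singleton.1 hθ]
    exact ⟨(sp.ne_of_inner_F (by rw [hMi]; exact_mod_cast hM)).1,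
      (sp.ne_of_inner_F (by rw [hMi]; exact_mod_cast hM)).2.1⟩
  · intro θ hθ
    rw [mem_singleton.1 hθ, (sp.ne_of_inner_F (by rw [hMi]; exact_mod_cast hM)).2.2, hFψ,
      Char.classInner_irr, if_pos rfl]
  · intro θ hθ θ' hθ'
    rw [mem_singleton.1 hθ, mem_singleton.1 hθ']
  · intro φ hφ h
    rw [hMi, h0 φ (fun e => hφ (mem_singleton.2 e)), Nat.cast_zero] at h
    exact absurd rfl h

/-- The family at `q`, with a small remainder. -/
theorem fam_of_nonneg (h : ∀ ψ, ψ ∉ c.shapeQ.Y → classInner sp.F ψ.1 ≠ 0 → 0 ≤ c.shapeQ.z ψ) :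
    Nonempty (Fam sp) := by
  have hq11 := c.eleven
  have hpq := c.hpq
  have hpZ : (p : ℤ) = 2 * q + 1 := by exact_mod_cast hpq
  have hp0 : (0 : ℤ) < p := by omega
  have hq0 : (0 : ℤ) < q := by omega
  set D := p * (q - 2) + 1
  have hDZ : (D : ℤ) = (p : ℤ) * ((q : ℤ) - 2) + 1 := by
    simp only [D]; push_cast [Nat.cast_sub (show 2 ≤ q by omega)]; ring
  obtain ⟨M, a, hdec, hMi, ha, ha0, hdeg, hval⟩ := c.shapeQ.split (m := c.f) c.two_le_f sp.isCharacter_F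
    (fun y hy hy1 => sp.F_Q hy hy1) sp.F_one
  obtain ⟨M', a', hdec', hMi', ha', ha0', hdeg', hval'⟩ := c.shapeP.split (m := q) c.two_le_q
    sp.isCharacter_F (fun y hy hy1 => sp.F_P hy hy1) sp.F_one
  obtain rfl : M' = M := funext fun ψ => by exact_mod_cast (hMi' ψ).symm.trans (hMi ψ)
  have hz : ∀ ψ, ψ ∉ c.shapeQ.Y → M' ψ ≠ 0 → 0 ≤ c.shapeQ.z ψ := fun ψ hψ hM =>
    h ψ hψ (by rw [hMi]; exact_mod_cast hM)
  have hterm : ∀ ψ ∈ univ \ c.shapeQ.Y, 0 ≤ (M' ψ : ℤ) * c.shapeQ.z ψ := fun ψ hψ => by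
    rcases Nat.eq_zero_or_pos (M' ψ) with e | e
    · simp [e]
    · exact mul_nonneg (Int.natCast_nonneg _) (hz ψ (mem_sdiff.1 hψ).2 e.ne')
  have hsum0 := Finset.sum_nonneg hterm
  have hane : a ≠ 0 := fun e => by rw [e, Nat.cast_zero, zero_mul, sub_zero] at hval; omega
  have hε : c.shapeQ.ε = 1 := by
    rcases c.shapeQ.hε with e | e
    · exact e
    · rw [e] at hval; omega
  obtain ⟨θ₀, hθ₀⟩ : c.shapeQ.Y.Nonempty :=
    Finset.nonempty_iff_ne_empty.2 fun e => hane (ha0 e)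
  have hne : c.shapeQ.Y.Nonempty := ⟨θ₀, hθ₀⟩
  have hbf := c.shapeQ.bound hne
  have hf2 := c.two_le_f
  have hfN : (c.f : ℤ) * c.N + 1 = q := by exact_mod_cast c.f_mul_N
  -- the degree of the members
  set d : ℤ := ((Char.degree θ₀ : ℕ) : ℤ) with hd
  have hDtot : ∑ ψ ∈ univ \ c.shapeQ.Y, (M' ψ : ℤ) * Char.degree ψ + (a : ℤ) * ((c.N : ℤ) * d) = D := by
    rw [c.sum_Y_degree hθ₀] at hdeg
    rw [hd]
    simp only [D]
    exact_mod_cast hdeg
  have hrest0 : (0 : ℤ) ≤ ∑ ψ ∈ univ \ c.shapeQ.Y, (M' ψ : ℤ) * Char.degree ψ :=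
    Finset.sum_nonneg fun ψ _ => mul_nonneg (Int.natCast_nonneg _) (Int.natCast_nonneg _)
  have hd0 : 0 < d := by simp only [d]; exact_mod_cast Char.degree_pos θ₀
  have ha1 : (1 : ℤ) ≤ a := by exact_mod_cast Nat.one_le_iff_ne_zero.2 hane
  have hN1 : (1 : ℤ) ≤ c.N := by exact_mod_cast c.N_pos
  have hNd : 0 ≤ (c.N : ℤ) * d := mul_nonneg (by omega) hd0.le
  have hNdle : (c.N : ℤ) * d ≤ D := by
    have := le_mul_of_one_le_left hNd ha1
    omega
  have hdle : d ≤ D := by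
    have := le_mul_of_one_le_left hd0.le hN1
    omega
  have hzd : c.shapeP.z θ₀ = 1 ∧ d = (p : ℤ) * c.f - 2 * q := by
    have hP := c.family_notMem hθ₀
    obtain ⟨j, hj, hdvd⟩ := exists_coeff hpq (c.shapeP.deg θ₀ hP)
      (show d ≡ (c.f : ℤ) [ZMOD q] by
        have := c.shapeQ.Y_deg θ₀ hθ₀
        rwa [hε, one_mul] at this)
    set z := c.shapeP.z θ₀
    rw [← hd] at hj
    have hzb : -1 ≤ z ∧ z ≤ 1 := by rcases c.shapeP.hz θ₀ with e | e | e <;> omega
    have hjlo : 0 ≤ j := by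
      by_contra h
      have := mul_le_mul_of_nonneg_left (show j ≤ -1 by omega) hp0.le
      omega
    have hjle : j ≤ (q : ℤ) - 1 := by
      by_contra h
      have := mul_le_mul_of_nonneg_left (show (q : ℤ) ≤ j by omega) hp0.le
      have h4 : (p : ℤ) * ((q : ℤ) - 2) = (p : ℤ) * q - 2 * p := by ring
      omega
    obtain ⟨i, hi⟩ := hdvd
    have hi0 : i = 0 := by
      by_contra hi0
      rcases lt_or_gt_of_ne hi0 with h' | h'
      · have := mul_le_mul_of_nonneg_left (show i ≤ -1 by omega) hq0.le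
        omega
      · have := mul_le_mul_of_nonneg_left (show (1 : ℤ) ≤ i by omega) hq0.le
        omega
    rw [hi0, mul_zero] at hi
    rw [show j = (c.f : ℤ) - z by omega] at hj
    have hz1 : z = 1 := by
      rcases c.shapeP.hz θ₀ with e | e | e
      · exfalso
        rw [show z = 0 from e, sub_zero, add_zero] at hj
        have h5 : (c.N : ℤ) * d = (p : ℤ) * ((q : ℤ) - 1) := by
          rw [hj]; linear_combination (p : ℤ) * hfN
        have h4 : (p : ℤ) * ((q : ℤ) - 2) = (p : ℤ) * ((q : ℤ) - 1) - p := by ring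
        omega
      · exact e
      · exfalso
        rw [show z = -1 from e] at hj
        have h5 : (c.N : ℤ) * d = (p : ℤ) * ((q : ℤ) - 1) + 2 * q * c.N := by
          rw [hj, hpZ]; linear_combination (2 * (q : ℤ) + 1) * hfN
        have h6 : 0 ≤ 2 * (q : ℤ) * c.N := by positivity
        have h4 : (p : ℤ) * ((q : ℤ) - 2) = (p : ℤ) * ((q : ℤ) - 1) - p := by ring
        omega
    refine ⟨hz1, ?_⟩
    rw [hj, hz1, hpZ]; ring
  obtain ⟨hz1, hdval⟩ := hzd
  have hNdval : (c.N : ℤ) * d = (p : ℤ) * ((q : ℤ) - 1) - 2 * q * c.N := by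
    rw [hdval]; linear_combination (p : ℤ) * hfN
  have ha_one : a = 1 := by
    by_contra hne1
    have h2 : (2 : ℤ) ≤ a := by
      have : 2 ≤ a := by omega
      exact_mod_cast this
    have h3 := mul_le_mul_of_nonneg_right h2 hNd
    have h4 : 2 * (q : ℤ) * (2 * c.N) ≤ 2 * (q : ℤ) * ((q : ℤ) - 1) := by
      have h5 := mul_le_mul_of_nonneg_right (show (2 : ℤ) ≤ c.f by exact_mod_cast hf2)
        (show (0 : ℤ) ≤ c.N by omega)
      refine mul_le_mul_of_nonneg_left ?_ (by omega)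
      omega
    have h6 : (p : ℤ) * ((q : ℤ) - 2) = (p : ℤ) * ((q : ℤ) - 1) - p := by ring
    have h7 : (p : ℤ) * ((q : ℤ) - 1) = 2 * (q : ℤ) * ((q : ℤ) - 1) + ((q : ℤ) - 1) := by
      rw [hpZ]; ring
    have h8 : 2 * (q : ℤ) * (2 * c.N) = 2 * (2 * (q : ℤ) * c.N) := by ring
    omega
  rw [ha_one, Nat.cast_one, one_mul] at hDtot
  rw [ha_one, Nat.cast_one, hε, one_mul] at hval
  have hzero : ∀ ψ, ψ ∉ c.shapeQ.Y → M' ψ ≠ 0 → c.shapeQ.z ψ = 0 := fun ψ hψ hM => by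
    have h' := (Finset.sum_eq_zero_iff_of_nonneg hterm).1 (by omega) ψ
      (mem_sdiff.2 ⟨mem_univ _, hψ⟩)
    exact (mul_eq_zero.1 h').resolve_left (Int.natCast_ne_zero.2 hM)
  -- the weights at `p`
  let w : IrrCharacter G → ℤ := fun ψ => if ψ ∈ c.shapeP.Y
    then (Char.degree ψ : ℤ) - c.shapeP.ε * q else (Char.degree ψ : ℤ) + 2 * q * c.shapeP.z ψ
  have hwtot : ∑ ψ, (M' ψ : ℤ) * w ψ = (D : ℤ) + 2 * q := by
    rw [← Finset.sum_sdiff (subset_univ c.shapeP.Y),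
      Finset.sum_congr rfl fun ψ (hψ : ψ ∈ univ \ c.shapeP.Y) => show (M' ψ : ℤ) * w ψ =
        (M' ψ : ℤ) * Char.degree ψ + 2 * q * ((M' ψ : ℤ) * c.shapeP.z ψ) by
        simp only [w, if_neg (mem_sdiff.1 hψ).2]; ring,
      Finset.sum_congr rfl fun ψ (hψ : ψ ∈ c.shapeP.Y) => show (M' ψ : ℤ) * w ψ =
        (a' : ℤ) * Char.degree ψ - (a' : ℤ) * (c.shapeP.ε * q) by
        simp only [w, if_pos hψ, ha' ψ hψ]; ring,
      sum_add_distrib, ← mul_sum, sum_sub_distrib, ← mul_sum, sum_const, nsmul_eq_mul]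
    have h1 : ∑ ψ ∈ univ \ c.shapeP.Y, (M' ψ : ℤ) * Char.degree ψ +
        (a' : ℤ) * ∑ ψ ∈ c.shapeP.Y, (Char.degree ψ : ℤ) = D := by exact_mod_cast hdeg'
    have h2 : (c.shapeP.Y.card : ℤ) * ((a' : ℤ) * (c.shapeP.ε * q)) =
        2 * ((a' : ℤ) * (c.shapeP.ε * q)) := by
      rcases c.shapeP.Y.eq_empty_or_nonempty with e | e
      · simp [ha0' e]
      · have h3 := (c.shapeP.big e).2
        rw [show p - 1 = 2 * q by omega] at h3
        rw [Nat.eq_of_mul_eq_mul_right hq.out.pos h3]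
        rfl
    rw [h2]
    linear_combination h1 - 2 * (q : ℤ) * hval'
  have hwY : ∀ θ ∈ c.shapeQ.Y, w θ = (p : ℤ) * c.f := fun θ hθ => by
    simp only [w, if_neg (c.family_notMem hθ)]
    have hdθ : (Char.degree θ : ℤ) = d := by
      simp only [d]; rw [c.shapeQ.deg_eq θ hθ θ₀ hθ₀]
    have hzθ : c.shapeP.z θ = 1 := by
      have h1 := c.shapeP.deg θ (c.family_notMem hθ)
      have h2 := c.shapeP.deg θ₀ (c.family_notMem hθ₀)
      rw [hz1, ← hd] at h2
      rw [hdθ] at h1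
      have h3 := Int.modEq_iff_dvd.1 (h1.symm.trans h2)
      have h4 := eq_zero_of_dvd_of_lt h3
      rcases c.shapeP.hz θ with e | e | e <;> rw [e] at h4 <;> omega
    rw [hdθ, hzθ, hdval]; ring
  have hwrest : ∑ ψ ∈ univ \ c.shapeQ.Y, (M' ψ : ℤ) * w ψ = 0 := by
    rw [← Finset.sum_sdiff (subset_univ c.shapeQ.Y),
      Finset.sum_congr rfl fun θ (hθ : θ ∈ c.shapeQ.Y) => show (M' θ : ℤ) * w θ = (p : ℤ) * c.f by
        rw [ha θ hθ, ha_one, hwY θ hθ, Nat.cast_one, one_mul],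
      sum_const, nsmul_eq_mul, c.card_Y hne, hDZ] at hwtot
    linear_combination hwtot - (p : ℤ) * hfN - hpZ
  have hwnn : ∀ ψ, ψ ∉ c.shapeQ.Y → M' ψ ≠ 0 → 0 ≤ w ψ := fun ψ hψ hM => by
    have hqd : (q : ℤ) ∣ Char.degree ψ := by
      have := c.shapeQ.deg ψ hψ
      rw [hzero ψ hψ hM] at this
      exact Int.modEq_zero_iff_dvd.1 this
    have hd' : (0 : ℤ) < Char.degree ψ := by exact_mod_cast Char.degree_pos ψ
    have hlow : -(2 * (q : ℤ)) < w ψ ∧ (q : ℤ) ∣ w ψ ∧ (p : ℤ) ∣ w ψ := by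
      simp only [w]
      by_cases hP : ψ ∈ c.shapeP.Y
      · simp only [if_pos hP]
        refine ⟨?_, dvd_sub hqd (dvd_mul_left _ _), ?_⟩
        · rcases c.shapeP.hε with e | e <;> rw [e] <;> omega
        · exact Int.modEq_iff_dvd.1 (c.shapeP.Y_deg ψ hP).symm
      · simp only [if_neg hP]
        refine ⟨?_, dvd_add hqd ((dvd_mul_left _ _).mul_right _), ?_⟩
        · rcases c.shapeP.hz ψ with e | e | e <;> rw [e] <;> omega
        · have h1 := Int.modEq_iff_dvd.1 (c.shapeP.deg ψ hP).symm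
          have := dvd_add h1 (dvd_mul_right (p : ℤ) (c.shapeP.z ψ))
          have h9 : (Char.degree ψ : ℤ) + 2 * q * c.shapeP.z ψ =
              (Char.degree ψ : ℤ) - c.shapeP.z ψ + p * c.shapeP.z ψ := by rw [hpZ]; ring
          rw [h9]; exact this
    obtain ⟨hlo, ⟨i, hi⟩, hpw⟩ := hlow
    rw [hi] at hpw
    rcases (Nat.prime_iff_prime_int.1 hp.out).dvd_or_dvd hpw with e | ⟨t, ht⟩
    · have := Int.le_of_dvd hq0 e
      omega
    · by_contra hneg
      rw [hi] at hlo hneg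
      have hi' : i ≤ -1 := by
        by_contra h'
        exact hneg (mul_nonneg hq0.le (by omega))
      have ht' : t ≤ -1 := by
        by_contra h'
        have := mul_nonneg hp0.le (show (0 : ℤ) ≤ t by omega)
        omega
      have h5 := mul_le_mul_of_nonneg_left ht' hp0.le
      have h6 := mul_le_mul_of_nonneg_left (show i ≤ -(p : ℤ) by omega) hq0.le
      have h7 := mul_le_mul_of_nonneg_left (show (2 : ℤ) ≤ p by omega) hq0.le
      have h8 : (q : ℤ) * -(p : ℤ) = -((q : ℤ) * p) := by ring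
      omega
  refine ⟨⟨c.shapeQ.Y, c.f, c.N, c.f_mul_N, hf2, c.card_Y hne, fun θ hθ => ?_, fun θ hθ => ?_,
    fun θ hθ => ?_, fun θ hθ θ' hθ' => ?_, fun ψ hψ hF => ?_⟩⟩
  · rw [c.shapeQ.deg_eq θ hθ θ₀ hθ₀, ← hd, hdval]
  · have := sp.ne_of_inner_F (ψ := θ) (by rw [hMi, ha θ hθ, ha_one, Nat.cast_one]; exact one_ne_zero)
    exact ⟨this.1, this.2.1⟩
  · have := sp.ne_of_inner_F (ψ := θ) (by rw [hMi, ha θ hθ, ha_one, Nat.cast_one]; exact one_ne_zero)
    rw [this.2.2, hMi, ha θ hθ, ha_one, Nat.cast_one]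
  · exact c.shapeQ.inner_eq (m := c.f) hf2 (Char.IsCharacter.isClassFunction sp.isCharacter_E)
      (fun y hy hy1 => sp.E_Q hy hy1) hθ hθ'
  · have hM : M' ψ ≠ 0 := by
      intro e; rw [hMi, e, Nat.cast_zero] at hF; exact hF rfl
    have hnn : ∀ φ ∈ univ \ c.shapeQ.Y, 0 ≤ (M' φ : ℤ) * w φ := fun φ hφ => by
      rcases Nat.eq_zero_or_pos (M' φ) with e | e
      · simp [e]
      · exact mul_nonneg (Int.natCast_nonneg _) (hwnn φ (mem_sdiff.1 hφ).2 e.ne')
    have hw0 := (mul_eq_zero.1 ((Finset.sum_eq_zero_iff_of_nonneg hnn).1 hwrest ψ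
      (mem_sdiff.2 ⟨mem_univ _, hψ⟩))).resolve_left (Int.natCast_ne_zero.2 hM)
    simp only [w] at hw0
    by_cases hP : ψ ∈ c.shapeP.Y
    · rw [if_pos hP] at hw0
      rcases c.shapeP.hε with e | e <;> rw [e] at hw0 <;> omega
    · rw [if_neg hP] at hw0
      rcases c.shapeP.hz ψ with e | e | e <;> rw [e] at hw0 <;> omega

theorem exists_fam : Nonempty (Fam sp) := by
  by_cases h : ∃ ψ, ψ ∉ c.shapeQ.Y ∧ classInner sp.F ψ.1 ≠ 0 ∧ c.shapeQ.z ψ = -1
  · obtain ⟨ψ, h1, h2, h3⟩ := h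
    exact sp.fam_of_neg h1 h2 h3
  · refine sp.fam_of_nonneg fun ψ h1 h2 => ?_
    rcases c.shapeQ.hz ψ with e | e | e
    · omega
    · omega
    · exact absurd ⟨ψ, h1, h2, e⟩ h

end Spec

end Cfsg.Agent.PrimeTwoQ
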