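import Cfsg.Agent.Lib.PrimeTwoQ.RankClassify

/-!
# Two orbits of a two-point stabiliser are impossible
-/

set_option autoImplicit false
set_option linter.unusedSectionVars false
set_option linter.style.haveILetI false

namespace Cfsg.Agent.PrimeTwoQ

open Cfsg Cfsg.Agent MulAction Finset Matrix
open scoped Classical ComplexConjugate

universe u v

/-- The arithmetic contradiction. -/
theorem rank_arith {p q f N : ℕ} (hq : q.Prime) (hpq : p = 2 * q + 1) (hf : f * N + 1 = q)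
    (hf2 : 2 ≤ f) (h13 : 13 ≤ q) (h4 : q % 4 = 1) (J : ℤ)
    (h : ((p : ℤ) * f - 2 * q) * J = -(2 * (q : ℤ) * ((q : ℤ) - 1) * (2 * (q : ℤ) - 1))) : False := by
  have hN1 : 1 ≤ N := by
    rcases Nat.eq_zero_or_pos N with e | e
    · rw [e] at hf; omega
    · exact e
  have hfq : f < q := by
    have := Nat.le_mul_of_pos_right f hN1
    omega
  have hfN : (f : ℤ) * N + 1 = q := by exact_mod_cast hf
  have hqf : ¬ (q : ℤ) ∣ f := by
    rw [Int.natCast_dvd_natCast]
    exact fun hd => absurd (Nat.le_of_dvd (by omega) hd) (by omega)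
  have hpZ : (p : ℤ) = 2 * q + 1 := by exact_mod_cast hpq
  have hqZ : Prime (q : ℤ) := Nat.prime_iff_prime_int.1 hq
  set d : ℤ := (p : ℤ) * f - 2 * q with hd
  have hdpos : 0 < d := by
    have := mul_le_mul_of_nonneg_left (show (2 : ℤ) ≤ f by exact_mod_cast hf2)
      (show (0 : ℤ) ≤ p by omega)
    omega
  obtain ⟨j, hj⟩ : (q : ℤ) ∣ J := by
    have h1 : (q : ℤ) ∣ d * J :=
      ⟨-(2 * ((q : ℤ) - 1) * (2 * (q : ℤ) - 1)), by rw [h]; ring⟩
    refine (hqZ.dvd_or_dvd h1).resolve_left fun h2 => hqf ?_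
    obtain ⟨i, hi⟩ := h2
    refine ⟨i + 2 - 2 * f, ?_⟩
    rw [hd, hpZ] at hi
    linear_combination hi
  have hj' : d * (-j) = 2 * ((q : ℤ) - 1) * (2 * (q : ℤ) - 1) := by
    refine mul_left_cancel₀ hqZ.ne_zero ?_
    rw [hj] at h
    linear_combination -h
  obtain ⟨t, ht⟩ : (f : ℤ) ∣ 2 * (-j) := by
    refine ⟨(p : ℤ) * -j - 2 * N * (2 * q - 1) - 2 * N * -j, ?_⟩
    rw [hd] at hj'
    linear_combination -hj' + (2 * -j + 2 * (2 * (q : ℤ) - 1)) * hfN
  set u := t * (f : ℤ)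
  have hdu : d * u = 4 * ((q : ℤ) - 1) * (2 * (q : ℤ) - 1) := by
    simp only [u]
    linear_combination 2 * hj' - d * ht
  set i : ℤ := 8 * q - 12 - 2 * ((f : ℤ) * u) + 2 * u with hi
  have hfu : (f : ℤ) * u = 4 + i * q := by
    rw [hd, hpZ] at hdu
    rw [hi]; linear_combination hdu
  have h2u : 2 * u = (2 * i - 8) * q + i + 20 := by
    linear_combination -hi + 2 * hfu
  have hupos : 0 < u := by
    have h1 : 0 < d * u := by
      rw [hdu]; exact mul_pos (mul_pos (by norm_num) (by omega)) (by omega)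
    exact (pos_iff_pos_of_mul_pos h1).1 hdpos
  have hi4 : 4 ≤ i := by
    by_contra hlt
    have := mul_le_mul_of_nonneg_right (show 2 * i - 8 ≤ -2 by omega) (show (0 : ℤ) ≤ q by omega)
    omega
  have hi7 : i ≤ 7 := by
    by_contra hlt
    have h1 := mul_le_mul_of_nonneg_right (show (2 : ℤ) ≤ f by exact_mod_cast hf2) hupos.le
    have h2 := mul_le_mul_of_nonneg_right (show (2 * i - 16 : ℤ) ≥ 0 by omega) (show (0 : ℤ) ≤ q by omega)
    have h3 : (2 * i - 16) * (q : ℤ) = 2 * (i * q) - 16 * q := by ring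
    have h5 : (2 * i - 8) * (q : ℤ) = 2 * (i * q) - 8 * q := by ring
    omega
  have key : (f : ℤ) * ((2 * i - 8) * q + i + 20) = 8 + 2 * (i * q) := by
    rw [← h2u]; linear_combination 2 * hfu
  interval_cases i
  · have h3 : 3 * (f : ℤ) = q + 1 := by linarith
    have h5 : (f : ℤ) ∣ 2 := ⟨3 - N, by linear_combination -h3 + hfN⟩
    have := Int.le_of_dvd (by norm_num) h5
    omega
  · have hf4 : f ≤ 4 := by
      by_contra hlt
      have : (5 : ℤ) * (2 * q + 25) ≤ (f : ℤ) * (2 * q + 25) :=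
        mul_le_mul_of_nonneg_right (by exact_mod_cast Nat.lt_of_not_le hlt) (by omega)
      norm_num at key
      linarith
    interval_cases f <;> norm_num at key <;> omega
  · have hf3 : f ≤ 2 := by
      by_contra hlt
      have : (3 : ℤ) * (4 * q + 26) ≤ (f : ℤ) * (4 * q + 26) :=
        mul_le_mul_of_nonneg_right (by exact_mod_cast Nat.lt_of_not_le hlt) (by omega)
      norm_num at key
      linarith
    interval_cases f
    norm_num at key
    omega
  · have hf3 : f ≤ 2 := by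
      by_contra hlt
      have : (3 : ℤ) * (6 * q + 27) ≤ (f : ℤ) * (6 * q + 27) :=
        mul_le_mul_of_nonneg_right (by exact_mod_cast Nat.lt_of_not_le hlt) (by omega)
      norm_num at key
      linarith
    interval_cases f
    norm_num at key
    omega

variable {G : Type u} [Group G] [Fintype G] {Ω : Type v} [Fintype Ω] [MulAction G Ω]
  {p q : ℕ} [hp : Fact p.Prime] [hq : Fact q.Prime]

namespace Col

variable (C : Col G Ω p q) (c : Ctx G Ω p q)
include c

theorem inner_FZ_trivial : classInner C.FZ (Char.trivialChar G).1 = 0 := by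
  rw [show (Char.trivialChar G).1 = fun _ => (1 : ℂ) from funext fun g => Char.trivialChar_apply g]
  exact C.inner_FZ_one c

theorem inner_FZ_chi : classInner C.FZ c.chi.1 = -((C.k : ℂ) * ((C.k : ℂ) + 2)) := by
  have h := C.inner_FZ_perm c
  rw [c.perm_eq, Char.classInner_add_right, C.inner_FZ_trivial c, zero_add] at h
  exact h

end Col

namespace Spec

variable {c : Ctx G Ω p q} {C : Col G Ω p q} (sp : Spec c C)
include sp

/-- The multiplicities in the character on pairs. -/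
theorem inner_pairs (ψ : IrrCharacter G) : classInner (perm G Ω * perm G Ω - perm G Ω) ψ.1 =
    classInner (Char.trivialChar (stabilizer G c.α)).1 (fun h : stabilizer G c.α => ψ.1 h) +
      classInner sp.E ψ.1 + classInner sp.E' ψ.1 := by
  have hcf := Char.IsCharacter.isClassFunction (Char.irr_isCharacter ψ)
  rw [sp.inner_E hcf, sp.inner_E' hcf, Char.classInner_sub_left,
    c.classInner_mul_perm (A := perm G Ω) isClassFunction_nfix hcf, c.classInner_perm_left hcf,
    ← Char.classInner_sub_left, ← Char.classInner_add_left, ← Char.classInner_add_left]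
  congr 1
  funext h
  have := sp.add h
  simp only [Pi.sub_apply, Pi.add_apply, perm, Char.trivialChar_apply]
  linear_combination -this

theorem inner_one_member {Φ : Fam sp} {θ : IrrCharacter G} (hθ : θ ∈ Φ.Y) :
    classInner (Char.trivialChar (stabilizer G c.α)).1 (fun h : stabilizer G c.α => θ.1 h) = 0 := by
  rw [← Char.conj_classInner, show (Char.trivialChar (stabilizer G c.α)).1 = fun _ => (1 : ℂ) from
    funext fun g => Char.trivialChar_apply g, c.restrict_trivial (Φ.ne θ hθ).1 (Φ.ne θ hθ).2, map_zero]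

theorem inner_FZ_other (Φ : Fam sp) {ψ : IrrCharacter G} (h1 : ψ ≠ Char.trivialChar G)
    (h2 : ψ ≠ c.chi) (hY : ψ ∉ Φ.Y) : classInner C.FZ ψ.1 = 0 := by
  refine sp.inner_FZ_eq_zero h1 h2 ?_
  by_contra h
  push Not at h
  have hF : classInner sp.F ψ.1 ≠ 0 := by rw [sp.inner_F, if_neg h2, sub_zero]; exact h.2
  have := Φ.small ψ hY hF
  have := sp.degree_gt h1 h2 h.1 h.2
  omega

theorem sum_split (Φ : Fam sp) (w : IrrCharacter G → ℂ) :
    ∑ ψ, classInner C.FZ ψ.1 * w ψ =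
      classInner C.FZ c.chi.1 * w c.chi + ∑ θ ∈ Φ.Y, classInner C.FZ θ.1 * w θ := by
  refine Eq.trans ?_ (sum_insert (f := fun ψ => classInner C.FZ ψ.1 * w ψ)
    (fun h => (Φ.ne _ h).2 rfl))
  refine (Finset.sum_subset (subset_univ _) fun ψ _ hψ => ?_).symm
  rw [mem_insert, not_or] at hψ
  by_cases h1 : ψ = Char.trivialChar G
  · rw [h1, C.inner_FZ_trivial c, zero_mul]
  · rw [sp.inner_FZ_other Φ h1 hψ.1 hψ.2, zero_mul]

theorem absurd' : False := by
  obtain ⟨Φ⟩ := sp.exists_fam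
  have hq11 := c.eleven
  have hpq := c.hpq
  have hpc : (p : ℂ) = 2 * (q : ℂ) + 1 := by exact_mod_cast congrArg (Nat.cast (R := ℂ)) hpq
  have hpZ : (p : ℤ) = 2 * q + 1 := by exact_mod_cast hpq
  have hclF := C.isClassFunction_FZ
  set S := ∑ θ ∈ Φ.Y, classInner C.FZ θ.1
  set d : ℤ := (p : ℤ) * Φ.f - 2 * q with hd
  -- the value at one
  have hone : C.FZ 1 = classInner C.FZ c.chi.1 * (2 * q : ℕ) + (d : ℂ) * S := by
    conv_lhs => rw [Char.eq_sum_classInner_smul hclF]
    simp only [Finset.sum_apply, Pi.smul_apply, smul_eq_mul, Char.apply_one_eq_degree]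
    rw [sp.sum_split Φ (fun ψ => (Char.degree ψ : ℂ)), c.degree_chi, mul_sum]
    congr 1
    refine Finset.sum_congr rfl fun θ hθ => ?_
    rw [mul_comm]
    congr 1
    rw [show d = ((Char.degree θ : ℕ) : ℤ) from (Φ.deg θ hθ).symm, Int.cast_natCast]
  rw [C.trace_Zm c, C.inner_FZ_chi c] at hone
  obtain ⟨θ₀, hθ₀⟩ : Φ.Y.Nonempty := by
    rw [← Finset.card_pos, Φ.card]
    rcases Nat.eq_zero_or_pos Φ.N with e | e
    · have := Φ.hf; rw [e] at this; omega
    · exact e
  obtain ⟨b, hb⟩ := Char.IsCharacter.exists_nat_classInner sp.isCharacter_E (Char.irr_isCharacter θ₀)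
  have hbY : ∀ θ ∈ Φ.Y, classInner sp.E θ.1 = b := fun θ hθ => (Φ.eqE θ hθ θ₀ hθ₀).trans hb
  -- `b ≤ 1`
  have hble : b ≤ 1 := by
    have hEc := isCharacter_sub_irr sp.isCharacter_E c.chi (a := 1) (n := 1)
      (by rw [sp.inner_E_chi, Nat.cast_one]) le_rfl
    simp only [Nat.cast_one, one_smul] at hEc
    obtain ⟨M, hM, hMi⟩ := Char.IsCharacter.exists_decomp hEc
    have hD : (sp.E - c.chi.1) 1 = ((p * q - 2 * q : ℕ) : ℂ) := by
      rw [Pi.sub_apply, sp.E_one, Char.apply_one_eq_degree, c.degree_chi,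
        Nat.cast_sub (Nat.mul_le_mul_right q hp.out.two_le)]
      push_cast; ring
    have hMY : ∀ θ ∈ Φ.Y, M θ = b := fun θ hθ => by
      have := hMi θ
      rw [Char.classInner_sub_left, hbY θ hθ, Char.classInner_irr, if_neg (Φ.ne θ hθ).2.symm,
        sub_zero] at this
      exact_mod_cast this.symm
    have hsum := Finset.sum_le_sum_of_subset (f := fun ψ => M ψ * Char.degree ψ) (subset_univ Φ.Y)
    rw [sum_mul_degree hM hD] at hsum
    have hsumZ : ∑ θ ∈ Φ.Y, (b : ℤ) * d ≤ (p : ℤ) * q - 2 * q := by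
      rw [Finset.sum_congr rfl fun θ hθ => show (b : ℤ) * d = ((M θ * Char.degree θ : ℕ) : ℤ) by
        rw [Nat.cast_mul, hMY θ hθ, Φ.deg θ hθ], ← Nat.cast_sum]
      refine (Int.ofNat_le.2 hsum).trans ?_
      rw [Nat.cast_sub (Nat.mul_le_mul_right q hp.out.two_le)]
      push_cast; rfl
    rw [sum_const, nsmul_eq_mul, Φ.card] at hsumZ
    by_contra hb2
    have hfN : (Φ.f : ℤ) * Φ.N + 1 = q := by exact_mod_cast Φ.hf
    have hNd : (Φ.N : ℤ) * d = (p : ℤ) * ((q : ℤ) - 1) - 2 * q * Φ.N := by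
      rw [hd]; linear_combination (p : ℤ) * hfN
    have h5 := mul_le_mul_of_nonneg_right (show (2 : ℤ) ≤ Φ.f by exact_mod_cast Φ.two_le)
      (show (0 : ℤ) ≤ Φ.N by omega)
    have h6 : 2 * (q : ℤ) * (2 * Φ.N) ≤ 2 * (q : ℤ) * ((q : ℤ) - 1) :=
      mul_le_mul_of_nonneg_left (by omega) (by omega)
    have h8 : 2 * (q : ℤ) * (2 * Φ.N) = 2 * (2 * (q : ℤ) * Φ.N) := by ring
    have h9 : (p : ℤ) * q = (p : ℤ) * ((q : ℤ) - 1) + p := by ring
    have h10 : (p : ℤ) * ((q : ℤ) - 1) = 2 * (q : ℤ) * ((q : ℤ) - 1) + ((q : ℤ) - 1) := by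
      rw [hpZ]; ring
    have h11 := mul_le_mul_of_nonneg_left (show (q : ℤ) - 1 ≥ 1 by omega)
      (show (0 : ℤ) ≤ 2 * q by omega)
    have hNdpos : 0 ≤ (Φ.N : ℤ) * d := by omega
    have h7 := mul_le_mul_of_nonneg_right (show (2 : ℤ) ≤ b by omega) hNdpos
    have h12 : (b : ℤ) * ((Φ.N : ℤ) * d) = (Φ.N : ℤ) * ((b : ℤ) * d) := by ring
    omega
  -- the value of `k`
  have hkp : ((C.k : ℂ) * ((p : ℂ) - C.k - 2)) * 2 = ((q : ℂ) - 1) * (2 * (q : ℂ) - 1) := by
    rw [hpc, sp.hk, show (q : ℂ) = 2 * (sp.e : ℂ) ^ 2 + 2 * sp.e + 1 by exact_mod_cast sp.hq]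
    push_cast; ring
  have hdS : (d : ℂ) * S = -((q : ℂ) * ((q : ℂ) - 1) * (2 * (q : ℂ) - 1)) := by
    push_cast at hone
    linear_combination -hone - (q : ℂ) * hkp
  have hne0 : -((q : ℂ) * ((q : ℂ) - 1) * (2 * (q : ℂ) - 1)) ≠ 0 := by
    have h : ((q * (q - 1) * (2 * q - 1) : ℕ) : ℂ) ≠ 0 := Nat.cast_ne_zero.2
      (Nat.mul_ne_zero (Nat.mul_ne_zero (by omega) (by omega)) (by omega))
    push_cast [Nat.cast_sub (show 1 ≤ q by omega), Nat.cast_sub (show 1 ≤ 2 * q by omega)] at h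
    exact neg_ne_zero.2 h
  have hb1 : b = 1 := by
    rcases Nat.eq_zero_or_pos b with hb0 | hb0
    · exfalso
      have hS : S = 0 := Finset.sum_eq_zero fun θ hθ =>
        sp.inner_FZ_eq_zero (Φ.ne θ hθ).1 (Φ.ne θ hθ).2 (Or.inl (by rw [hbY θ hθ, hb0, Nat.cast_zero]))
      rw [hS, mul_zero] at hdS
      exact hne0 hdS.symm
    · omega
  -- integrality
  obtain ⟨n, hn⟩ := C.exists_inner_FZ_pairs c
  rw [Char.classInner_eq_sum hclF, sp.sum_split Φ (fun ψ => classInner ψ.1 _),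
    C.inner_FZ_chi c] at hn
  have hχ3 : classInner c.chi.1 (perm G Ω * perm G Ω - perm G Ω) = 3 := by
    rw [← Char.conj_classInner, sp.inner_pairs, sp.inner_E_chi, sp.inner_E'_chi, sp.chi_restrict,
      Char.classInner_add_right, Char.classInner_add_right, Char.classInner_irr, Char.classInner_irr,
      Char.classInner_irr, if_pos rfl, if_neg sp.ne1.symm, if_neg sp.ne1'.symm]
    norm_num [map_ofNat]
  have hY2 : ∀ θ ∈ Φ.Y, classInner C.FZ θ.1 * classInner θ.1 (perm G Ω * perm G Ω - perm G Ω) =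
      classInner C.FZ θ.1 * 2 := fun θ hθ => by
    rw [← Char.conj_classInner _ θ.1, sp.inner_pairs, sp.inner_one_member hθ, hbY θ hθ, Φ.mult θ hθ, hb1]
    norm_num [map_ofNat]
  rw [hχ3, Finset.sum_congr rfl hY2, ← sum_mul] at hn
  set J : ℤ := n + 3 * ((C.k : ℤ) * ((C.k : ℤ) + 2))
  have hJ : (J : ℂ) = 2 * S := by
    simp only [J]; push_cast; linear_combination -hn
  have hfinal : d * J = -(2 * (q : ℤ) * ((q : ℤ) - 1) * (2 * (q : ℤ) - 1)) := by
    have : ((d * J : ℤ) : ℂ) = ((-(2 * (q : ℤ) * ((q : ℤ) - 1) * (2 * (q : ℤ) - 1)) : ℤ) : ℂ) := by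
      rw [Int.cast_mul, hJ]; push_cast; linear_combination 2 * hdS
    exact_mod_cast this
  have hq13 : 13 ≤ q := by
    have h1 := sp.hq
    have h2 := Nat.mul_le_mul sp.two_le sp.two_le
    have h3 : sp.e ^ 2 = sp.e * sp.e := sq _
    have := sp.two_le
    omega
  have hq4 : q % 4 = 1 := by
    obtain ⟨m, hm⟩ := Nat.even_mul_succ_self sp.e
    have h1 := sp.hq
    have h2 : sp.e * (sp.e + 1) = sp.e ^ 2 + sp.e := by ring
    omega
  exact rank_arith hq.out hpq Φ.hf Φ.two_le hq13 hq4 J hfinal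

end Spec

/-- A two-point stabiliser does not have exactly two orbits on the remaining points. -/
theorem Ctx.no_two_orbits (c : Ctx G Ω p q) (h4 : ∀ α β : Ω, α ≠ β →
    Nat.card (orbitRel.Quotient ↥(stabilizer G α ⊓ stabilizer G β) Ω) = 4) : False := by
  obtain ⟨C⟩ := c.exists_col h4
  obtain ⟨sp⟩ := C.exists_spec c
  exact sp.absurd'

end Cfsg.Agent.PrimeTwoQ
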