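import Cfsg.Agent.Lib.PrimeTwoQ.Operator

/-!
# The characters induced from the two eigenspace characters of the stabiliser
-/

set_option autoImplicit false
set_option linter.unusedSectionVars false
set_option linter.style.haveILetI false

namespace Cfsg.Agent.PrimeTwoQ

open Cfsg Cfsg.Agent MulAction Finset Matrix
open scoped Classical ComplexConjugate

universe u v

variable {G : Type u} [Group G] [Fintype G] {Ω : Type v} [Fintype Ω] [MulAction G Ω]
  {p q : ℕ} [hp : Fact p.Prime] [hq : Fact q.Prime]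

theorem trM_blk (K : Ω → Ω → Ω → ℂ) (g : G) : trM (blk (G := G) K) g =
    ∑ a, if a = g • a then ∑ b : SubMulAction.ofStabilizer G a, K a b (g • (b : Ω)) else 0 := by
  simp only [trM, blk, SubMulAction.val_smul, Prod.smul_fst, Prod.smul_snd]
  rw [sum_pairs (G := G) (fun x y => if x = g • x then K x y (g • y) else 0)]
  refine Finset.sum_congr rfl fun a _ => ?_
  by_cases h : a = g • a
  · rw [if_pos h, sum_ofStabilizer (G := G) a (fun b => K a b (g • b))]
    simp only [← h, if_true]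
  · simp [h]

theorem trM_blk_one [IsPretransitive G Ω] {K : Ω → Ω → Ω → ℂ} (hK : KInv G K) (α : Ω) :
    trM (blk (G := G) K) (1 : G) =
      (Fintype.card Ω : ℂ) * trM (loc (G := G) α K) (1 : stabilizer G α) := by
  rw [trM_blk]
  have h : ∀ a : Ω, (if a = (1 : G) • a then
      ∑ b : SubMulAction.ofStabilizer G a, K a b ((1 : G) • (b : Ω)) else 0) =
      trM (loc (G := G) α K) (1 : stabilizer G α) := by
    intro a
    obtain ⟨g, rfl⟩ := MulAction.exists_smul_eq G α a
    rw [if_pos (one_smul _ _).symm]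
    simp only [one_smul, trM, loc]
    rw [sum_ofStabilizer (G := G) (g • α) (fun b => K (g • α) b b),
      sum_ofStabilizer (G := G) α (fun b => K α b b), ← Equiv.sum_comp (MulAction.toPerm g)]
    refine Finset.sum_congr rfl fun b _ => ?_
    simp [hK g]
  rw [Finset.sum_congr rfl fun a _ => h a, sum_const, card_univ, nsmul_eq_mul]

theorem trM_blk_fix_one {K : Ω → Ω → Ω → ℂ} {g : G} {α : Ω} (hg : ∀ x : Ω, g • x = x ↔ x = α) :
    trM (blk (G := G) K) g =
      trM (H := stabilizer G α) (loc (G := G) α K) ⟨g, (hg α).2 rfl⟩ := by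
  rw [trM_blk, Finset.sum_eq_single α (fun a _ ha => if_neg fun h => ha ((hg a).1 h.symm))
    (by simp), if_pos ((hg α).2 rfl).symm]
  rfl

namespace Spec

variable {c : Ctx G Ω p q} {C : Col G Ω p q} (sp : Spec c C)
include sp

theorem hrs : (sp.e : ℂ) ≠ -1 - (sp.e : ℂ) := by
  intro h
  have h1 : ((2 * sp.e + 1 : ℕ) : ℂ) = 0 := by push_cast; linear_combination h
  exact Nat.succ_ne_zero _ (Nat.cast_eq_zero.1 h1)

theorem lam_sub : (C.lam : ℂ) - C.mu = -1 := by
  have h : ((C.lam + 1 : ℕ) : ℂ) = (C.mu : ℂ) := by rw [sp.hlam, ← sp.hmu]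
  push_cast at h
  linear_combination h

theorem hsum : (sp.e : ℂ) + (-1 - (sp.e : ℂ)) = (C.lam : ℂ) - C.mu := by
  rw [sp.lam_sub]; ring

theorem hprod : (sp.e : ℂ) * (-1 - (sp.e : ℂ)) = (C.mu : ℂ) - C.k := by
  rw [sp.hmu, sp.hk]; push_cast; ring

theorem hsum' : (-1 - (sp.e : ℂ)) + (sp.e : ℂ) = (C.lam : ℂ) - C.mu := by
  rw [add_comm]; exact sp.hsum

theorem hprod' : (-1 - (sp.e : ℂ)) * (sp.e : ℂ) = (C.mu : ℂ) - C.k := by
  rw [mul_comm]; exact sp.hprod

omit sp in
/-- The character induced from `θ`. -/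
noncomputable def E (sp : Spec c C) : G → ℂ :=
  trM (blk (G := G) (C.KP (sp.e : ℂ) (-1 - (sp.e : ℂ))))

omit sp in
/-- The character induced from `θ'`. -/
noncomputable def E' (sp : Spec c C) : G → ℂ :=
  trM (blk (G := G) (C.KP (-1 - (sp.e : ℂ)) (sp.e : ℂ)))

omit sp in
/-- The character induced from `θ'`, less `χ`. -/
noncomputable def F (sp : Spec c C) : G → ℂ := sp.E' - c.chi.1

theorem isCharacter_E : IsCharacter G sp.E :=
  (C.KP_inv _ _).blk_inv.isCharacter
    (blk_mul_blk fun a => C.loc_idem c a sp.hrs sp.hsum sp.hprod)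

theorem isCharacter_E' : IsCharacter G sp.E' :=
  (C.KP_inv _ _).blk_inv.isCharacter
    (blk_mul_blk fun a => C.loc_idem c a sp.hrs.symm sp.hsum' sp.hprod')

theorem inner_E {B : G → ℂ} (hB : IsClassFunction G B) :
    classInner sp.E B = classInner sp.θ.1 (fun h : stabilizer G c.α => B h) := by
  haveI := c.pretransitive
  rw [E, classInner_blk (C.KP_inv _ _) c.α hB, sp.hθ]

theorem inner_E' {B : G → ℂ} (hB : IsClassFunction G B) :
    classInner sp.E' B = classInner sp.θ'.1 (fun h : stabilizer G c.α => B h) := by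
  haveI := c.pretransitive
  rw [E', classInner_blk (C.KP_inv _ _) c.α hB, sp.hθ']

theorem chi_restrict : (fun h : stabilizer G c.α => c.chi.1 h) =
    (Char.trivialChar (stabilizer G c.α)).1 + sp.θ.1 + sp.θ'.1 := by
  funext h
  have := sp.add h
  simp only [Pi.add_apply, Char.trivialChar_apply, c.chi_apply]
  linear_combination -this

theorem inner_E_chi : classInner sp.E c.chi.1 = 1 := by
  rw [sp.inner_E (Char.IsCharacter.isClassFunction (Char.irr_isCharacter _)), sp.chi_restrict,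
    Char.classInner_add_right, Char.classInner_add_right, Char.classInner_irr, Char.classInner_irr,
    Char.classInner_irr, if_neg sp.ne1, if_pos rfl, if_neg sp.ne]
  ring

theorem inner_E'_chi : classInner sp.E' c.chi.1 = 1 := by
  rw [sp.inner_E' (Char.IsCharacter.isClassFunction (Char.irr_isCharacter _)), sp.chi_restrict,
    Char.classInner_add_right, Char.classInner_add_right, Char.classInner_irr, Char.classInner_irr,
    Char.classInner_irr, if_neg sp.ne1', if_neg sp.ne.symm, if_pos rfl]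
  ring

theorem inner_E'_one : classInner sp.E' (Char.trivialChar G).1 = 0 := by
  rw [sp.inner_E' (Char.IsCharacter.isClassFunction (Char.irr_isCharacter _))]
  have : (fun h : stabilizer G c.α => (Char.trivialChar G).1 (h : G)) =
      (Char.trivialChar (stabilizer G c.α)).1 := by
    funext h; simp [Char.trivialChar_apply]
  rw [this, Char.classInner_irr, if_neg sp.ne1']

theorem isCharacter_F : IsCharacter G sp.F := by
  have h := isCharacter_sub_irr sp.isCharacter_E' c.chi (a := 1) (n := 1)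
    (by rw [sp.inner_E'_chi, Nat.cast_one]) le_rfl
  simp only [Nat.cast_one, one_smul] at h
  exact h

theorem inner_F (ψ : IrrCharacter G) : classInner sp.F ψ.1 =
    classInner sp.E' ψ.1 - if ψ = c.chi then 1 else 0 := by
  rw [F, Char.classInner_sub_left, Char.classInner_irr]
  simp only [eq_comm (a := c.chi)]

theorem ne_of_inner_F {ψ : IrrCharacter G} (h : classInner sp.F ψ.1 ≠ 0) :
    ψ ≠ Char.trivialChar G ∧ ψ ≠ c.chi ∧ classInner sp.E' ψ.1 = classInner sp.F ψ.1 := by
  have h2 : ψ ≠ c.chi := by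
    rintro rfl
    rw [sp.inner_F, if_pos rfl, sp.inner_E'_chi, sub_self] at h
    exact h rfl
  refine ⟨?_, h2, by rw [sp.inner_F, if_neg h2, sub_zero]⟩
  rintro rfl
  rw [sp.inner_F, if_neg h2, sub_zero, sp.inner_E'_one] at h
  exact h rfl

theorem E_Q {y : G} (hy : y ∈ (c.Q : Subgroup G)) (hy1 : y ≠ 1) : sp.E y = 0 := by
  rw [E, trM_blk_fix_one (c.fixQ y hy hy1), ← sp.hθ]
  have h1 := sp.val' ⟨y, (c.fixQ y hy hy1 c.α).2 rfl⟩ y hy hy1 rfl
  have h2 := sp.add ⟨y, (c.fixQ y hy hy1 c.α).2 rfl⟩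
  rw [h1, show nfix Ω (((⟨y, (c.fixQ y hy hy1 c.α).2 rfl⟩ : stabilizer G c.α)) : G) = 1 from
    c.nfix_Q hy hy1, Nat.cast_one] at h2
  linear_combination h2

theorem F_Q {y : G} (hy : y ∈ (c.Q : Subgroup G)) (hy1 : y ≠ 1) : sp.F y = ((-1 : ℤ) : ℂ) := by
  rw [F, Pi.sub_apply, E', trM_blk_fix_one (c.fixQ y hy hy1), ← sp.hθ',
    sp.val' ⟨y, (c.fixQ y hy hy1 c.α).2 rfl⟩ y hy hy1 rfl, c.chi_apply, c.nfix_Q hy hy1]
  push_cast; ring

theorem F_P {y : G} (hy : y ∈ (c.P : Subgroup G)) (hy1 : y ≠ 1) : sp.F y = ((1 : ℤ) : ℂ) := by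
  have h0 := c.fixP y hy hy1
  rw [F, Pi.sub_apply, E', trM_blk, Finset.sum_eq_zero fun a _ => if_neg fun h => ?_, c.chi_apply, h0]
  · push_cast; ring
  · rw [nfix, Finset.card_eq_zero, Finset.filter_eq_empty_iff] at h0
    exact h0 (mem_univ a) h.symm

theorem E_one : sp.E 1 = (p : ℂ) * q := by
  haveI := c.pretransitive
  rw [E, trM_blk_one (C.KP_inv _ _) c.α, ← sp.hθ, Char.apply_one_eq_degree, sp.deg, c.hΩ]

theorem F_one : sp.F 1 = ((p * (q - 2) + 1 : ℕ) : ℂ) := by
  haveI := c.pretransitive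
  have h2 := c.eleven
  have hpc : (p : ℂ) = 2 * (q : ℂ) + 1 := by exact_mod_cast congrArg (Nat.cast (R := ℂ)) c.hpq
  rw [F, Pi.sub_apply, E', trM_blk_one (C.KP_inv _ _) c.α, ← sp.hθ', Char.apply_one_eq_degree,
    sp.deg', c.hΩ, c.chi_apply, nfix_one, c.hΩ]
  push_cast [Nat.cast_sub (show 1 ≤ q by omega), Nat.cast_sub (show 2 ≤ q by omega)]
  linear_combination 0 * hpc

/-- Both eigenspaces in one constituent make it large. -/
theorem degree_gt {ψ : IrrCharacter G} (h1 : ψ ≠ Char.trivialChar G) (h2 : ψ ≠ c.chi)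
    (hE : classInner sp.E ψ.1 ≠ 0) (hE' : classInner sp.E' ψ.1 ≠ 0) :
    2 * q + 1 ≤ Char.degree ψ := by
  have hcf := Char.IsCharacter.isClassFunction (Char.irr_isCharacter ψ)
  have hres : IsCharacter (stabilizer G c.α) (fun h : stabilizer G c.α => ψ.1 (h : G)) :=
    Char.IsCharacter.restrict (Char.irr_isCharacter ψ) _
  obtain ⟨n, hn⟩ := Char.IsCharacter.exists_nat_classInner hres (Char.irr_isCharacter sp.θ)
  obtain ⟨n', hn'⟩ := Char.IsCharacter.exists_nat_classInner hres (Char.irr_isCharacter sp.θ')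
  have hn0 : 1 ≤ n := by
    refine Nat.one_le_iff_ne_zero.2 fun h => hE ?_
    rw [sp.inner_E hcf, ← Char.conj_classInner, hn, h, Nat.cast_zero, map_zero]
  have hn0' : 1 ≤ n' := by
    refine Nat.one_le_iff_ne_zero.2 fun h => hE' ?_
    rw [sp.inner_E' hcf, ← Char.conj_classInner, hn', h, Nat.cast_zero, map_zero]
  have hF1 := isCharacter_sub_irr hres sp.θ hn (a := 1) hn0
  simp only [Nat.cast_one, one_smul] at hF1
  have hF2 := isCharacter_sub_irr hF1 sp.θ' (a := 1) (n := n') (by
    rw [Char.classInner_sub_left, hn', Char.classInner_irr, if_neg sp.ne, sub_zero]) hn0'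
  simp only [Nat.cast_one, one_smul] at hF2
  refine c.degree_gt h1 h2 (Φ := sp.θ.1 + sp.θ'.1) ?_
    (Char.IsCharacter.add (Char.irr_isCharacter _) (Char.irr_isCharacter _)) ?_ ?_
  · have := c.eleven
    rw [Pi.add_apply, Char.apply_one_eq_degree, Char.apply_one_eq_degree, sp.deg, sp.deg',
      ← Nat.cast_add]
    congr 1
    omega
  · rw [show (fun _ : stabilizer G c.α => (1 : ℂ)) = (Char.trivialChar (stabilizer G c.α)).1 by
        funext h; rw [Char.trivialChar_apply],
      Char.classInner_add_left, Char.classInner_irr, Char.classInner_irr, if_neg sp.ne1,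
      if_neg sp.ne1', add_zero]
  · convert hF2 using 1
    funext h
    simp [sub_sub]

/-- Missing one eigenspace kills the multiplicity in `FZ`. -/
theorem inner_FZ_eq_zero {ψ : IrrCharacter G} (h1 : ψ ≠ Char.trivialChar G) (h2 : ψ ≠ c.chi)
    (h : classInner sp.E ψ.1 = 0 ∨ classInner sp.E' ψ.1 = 0) : classInner C.FZ ψ.1 = 0 := by
  have hcf := Char.IsCharacter.isClassFunction (Char.irr_isCharacter ψ)
  rcases h with h | h
  · rw [sp.inner_E hcf, sp.hθ] at h
    exact C.inner_FZ_eq_zero c sp.hrs sp.hsum sp.hprod h1 h2 h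
  · rw [sp.inner_E' hcf, sp.hθ'] at h
    exact C.inner_FZ_eq_zero c sp.hrs.symm sp.hsum' sp.hprod' h1 h2 h

end Spec

end Cfsg.Agent.PrimeTwoQ
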