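import Cfsg.Agent.Lib.DefectOne.SelfCent
import Cfsg.Agent.Lib.CharInt.Kazarin
import Cfsg.Agent.Lib.Char.Orthogonality

/-!
# Irreducible characters on a self-centralising Sylow subgroup of prime order

`Shp`: every irreducible character is either constant in `{0, ±1}` on `Q - 1`, with that residue
as degree, or one of a family of at least two exceptional characters agreeing on regular elements.
-/

set_option autoImplicit false
set_option linter.style.haveILetI false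
set_option linter.unusedSectionVars false

namespace Cfsg.Agent.PrimeTwoQ

open Cfsg Cfsg.Agent Finset
open scoped Classical ComplexConjugate

universe u

variable {H : Type u} [Group H] [Fintype H] {ℓ m : ℕ} [hl : Fact ℓ.Prime]

/-- The shape of the character table on `Q`. -/
structure Shp (ℓ m : ℕ) (Q : Subgroup H) where
  Y : Finset (IrrCharacter H)
  ε : ℤ
  z : IrrCharacter H → ℤ
  hε : ε = 1 ∨ ε = -1
  hz : ∀ ψ, z ψ = 0 ∨ z ψ = 1 ∨ z ψ = -1
  big : Y.Nonempty → 2 ≤ Y.card ∧ Y.card * m = ℓ - 1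
  val : ∀ ψ, ψ ∉ Y → ∀ y ∈ Q, y ≠ 1 → ψ.1 y = z ψ
  deg : ∀ ψ, ψ ∉ Y → (Char.degree ψ : ℤ) ≡ z ψ [ZMOD ℓ]
  Y_deg : ∀ θ ∈ Y, (Char.degree θ : ℤ) ≡ ε * m [ZMOD ℓ]
  deg_eq : ∀ θ ∈ Y, ∀ θ' ∈ Y, Char.degree θ = Char.degree θ'
  agree : ∀ θ ∈ Y, ∀ θ' ∈ Y, ∀ g, ¬ ℓ ∣ orderOf g → θ.1 g = θ'.1 g
  sum_Y : Y.Nonempty → ∀ y ∈ Q, y ≠ 1 → ∑ θ ∈ Y, θ.1 y = -(ε : ℂ)
  sing : ∀ g : H, ℓ ∣ orderOf g → ∃ y ∈ Q, y ≠ 1 ∧ IsConj g y
  nontriv : ∃ y ∈ Q, y ≠ 1

theorem sing_conj {P : Sylow ℓ H} (sc : DefectOne.SelfCent P) {g : H} (hg : ℓ ∣ orderOf g) :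
    ∃ y ∈ (P : Subgroup H), y ≠ 1 ∧ IsConj g y := by
  obtain ⟨k, hk⟩ := hg
  have hord : orderOf (g ^ k) = ℓ := by
    have hk0 : k ≠ 0 := fun h => (orderOf_pos g).ne' (by rw [hk, h, Nat.mul_zero])
    rw [orderOf_pow' g hk0, hk, Nat.gcd_mul_left_left, Nat.mul_div_cancel _ (Nat.pos_of_ne_zero hk0)]
  obtain ⟨Q, hQ⟩ := (IsPGroup.of_card (p := ℓ) (n := 1)
    (G := Subgroup.zpowers (g ^ k)) (by rw [Nat.card_zpowers, hord, pow_one])).exists_le_sylow
  obtain ⟨x, hx⟩ := MulAction.exists_smul_eq H Q P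
  have hmem : ∀ z : H, z ∈ (Q : Subgroup H) → x * z * x⁻¹ ∈ (P : Subgroup H) := by
    intro z hz
    rw [← hx, Sylow.coe_subgroup_smul]
    exact Subgroup.mem_pointwise_smul_iff_inv_smul_mem.2 (by simpa [MulAut.smul_def, mul_assoc] using hz)
  have hy := hmem _ (hQ (Subgroup.mem_zpowers _))
  have hy1 : x * g ^ k * x⁻¹ ≠ 1 := fun h => by
    rw [conj_eq_one_iff] at h
    rw [h, orderOf_one] at hord
    exact hl.out.one_lt.ne hord
  have hcent : x * g * x⁻¹ ∈ (P : Subgroup H) := by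
    rw [← sc.centralizer_singleton hy hy1, Subgroup.mem_centralizer_singleton_iff]
    rw [← conj_pow]
    exact (Commute.self_pow (x * g * x⁻¹) k).eq
  refine ⟨_, hcent, fun h => ?_, isConj_iff.2 ⟨x, rfl⟩⟩
  rw [conj_eq_one_iff] at h
  rw [h, one_pow, orderOf_one] at hord
  exact hl.out.one_lt.ne hord

theorem exists_shp {P : Sylow ℓ H} (sc : DefectOne.SelfCent P)
    (hm : Nat.card (Subgroup.normalizer ((P : Subgroup H) : Set H)) = ℓ * m) :
    Nonempty (Shp ℓ m (P : Subgroup H)) := by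
  obtain ⟨M, -, hM, hpM⟩ := CharInt.exists_isPModular_of_prime hl.out
  haveI := hM
  have hrel : (Subgroup.centralizer ((P : Subgroup H) : Set H)).relIndex
      (Subgroup.normalizer ((P : Subgroup H) : Set H)) = m := by
    rw [sc.cent, Subgroup.relIndex]
    have h := ((P : Subgroup H).subgroupOf (Subgroup.normalizer ((P : Subgroup H) : Set H))).card_mul_index
    rw [Nat.card_congr (Subgroup.subgroupOfEquivOfLe
      (Subgroup.le_normalizer (H := (P : Subgroup H)))).toEquiv, hm,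
      show Nat.card (P : Subgroup H) = ℓ from sc.card] at h
    exact Nat.eq_of_mul_eq_mul_left hl.out.pos h
  obtain ⟨S⟩ := DefectOne.primeShape hpM sc.card hrel
  obtain ⟨y₀, hy₀, hy₀1⟩ : ∃ y ∈ (P : Subgroup H), y ≠ 1 := by
    by_contra h
    push Not at h
    have : (P : Subgroup H) = ⊥ := (Subgroup.eq_bot_iff_forall _).2 h
    have hc := sc.card
    rw [this, Subgroup.card_bot] at hc
    exact hl.out.one_lt.ne hc
  have hnil : ∀ ψ, ψ ∉ S.X ∪ S.Y → ψ ∉ principalBlock M H := fun ψ h hb =>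
    h (mem_union.2 (S.mem_XY hb))
  let big := 2 ≤ S.Y.card
  let Y : Finset (IrrCharacter H) := if big then S.Y else ∅
  have hY : ∀ θ, θ ∈ Y → θ ∈ S.Y ∧ big := fun θ h => by
    by_cases hb : big
    · exact ⟨by simpa [Y, hb] using h, hb⟩
    · simp [Y, hb] at h
  let z : IrrCharacter H → ℤ := fun ψ =>
    if ψ ∈ S.X then S.εX ψ else if ψ ∈ S.Y then -S.ε else 0
  have hmd : (ℓ - 1) / m * m = ℓ - 1 := Nat.div_mul_cancel S.m_dvd
  refine ⟨⟨Y, S.ε, z, S.hε, fun ψ => ?_, fun h => ?_, fun ψ hψ y hy hy1 => ?_, fun ψ hψ => ?_,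
    fun θ hθ => S.Y_deg' (hY θ hθ).1, fun θ hθ θ' hθ' => S.degree_eq (hY θ hθ).1 (hY θ' hθ').1,
    fun θ hθ θ' hθ' g hg => S.agree θ (hY θ hθ).1 θ' (hY θ' hθ').1 g hg,
    fun h y hy hy1 => ?_, fun g hg => sing_conj sc hg, ⟨y₀, hy₀, hy₀1⟩⟩⟩
  · simp only [z]
    split_ifs with h1 h2
    · rcases S.hεX ψ h1 with e | e <;> simp [e]
    · rcases S.hε with e | e <;> simp [e]
    · simp
  · obtain ⟨θ, hθ⟩ := h
    have hb := (hY θ hθ).2
    simp only [Y, if_pos hb]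
    exact ⟨hb, by rw [S.cardY]; exact hmd⟩
  · simp only [z]
    split_ifs with h1 h2
    · exact S.X_val ψ h1 ⟨y, hy⟩ fun e => hy1 (congrArg Subtype.val e)
    · have hb : ¬ big := fun hb => hψ (by simpa [Y, hb] using h2)
      have hsingle : S.Y = {ψ} := eq_singleton_iff_unique_mem.2 ⟨h2, fun θ hθ =>
        (Finset.card_le_one.1 (by simp only [big] at hb; omega)) θ hθ ψ h2⟩
      have := sc.sum_Y hpM S ⟨ψ, h2⟩ hy hy1
      rw [hsingle, sum_singleton] at this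
      simpa using this
    · rw [sc.vanish hpM (hnil ψ (by simp [h1, h2])) hy hy1, Int.cast_zero]
  · simp only [z]
    split_ifs with h1 h2
    · exact S.X_deg' h1
    · have hb : ¬ big := fun hb => hψ (by simpa [Y, hb] using h2)
      have hc : (ℓ - 1) / m = 1 := by
        rw [← S.cardY]
        have := Finset.card_pos.2 ⟨ψ, h2⟩
        simp only [big] at hb
        omega
      rw [hc, one_mul] at hmd
      refine (S.Y_deg' h2).trans ?_
      rw [show (m : ℤ) = ((ℓ - 1 : ℕ) : ℤ) from congrArg Nat.cast hmd, Nat.cast_sub hl.out.pos,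
        Int.modEq_iff_dvd]
      exact ⟨-S.ε, by push_cast; ring⟩
    · rw [Int.modEq_iff_dvd, zero_sub, dvd_neg]
      exact_mod_cast sc.dvd_degree hpM (hnil ψ (by simp [h1, h2]))
  · obtain ⟨θ, hθ⟩ := h
    have hb := (hY θ hθ).2
    simp only [Y, if_pos hb]
    exact sc.sum_Y hpM S ⟨θ, (hY θ hθ).1⟩ hy hy1

namespace Shp

variable {Q : Subgroup H} (S : Shp ℓ m Q)

theorem bound (h : S.Y.Nonempty) : 2 * m + 1 ≤ ℓ := by
  obtain ⟨h1, h2⟩ := S.big h
  have := hl.out.one_lt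
  have : 2 * m ≤ S.Y.card * m := Nat.mul_le_mul_right m h1
  omega

/-- An exceptional character does not have a small residue. -/
theorem not_modEq (hm : 2 ≤ m) {θ : IrrCharacter H} (hθ : θ ∈ S.Y) {a : ℤ}
    (ha : a = 0 ∨ a = 1 ∨ a = -1) : ¬ (Char.degree θ : ℤ) ≡ a [ZMOD ℓ] := by
  intro h
  have hb := S.bound ⟨θ, hθ⟩
  have h1 := Int.modEq_iff_dvd.1 (h.symm.trans (S.Y_deg θ hθ))
  have h2 : S.ε * (m : ℤ) - a ≠ 0 := by
    rcases S.hε with e | e <;> rcases ha with rfl | rfl | rfl <;> rw [e] <;> omega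
  have h3 := Int.le_of_dvd (abs_pos.2 h2) ((dvd_abs _ _).2 h1)
  rcases S.hε with e | e <;> rcases ha with rfl | rfl | rfl <;> rw [e] at h3 h2 <;>
    rcases abs_choice (_ : ℤ) with q | q <;> rw [q] at h3 <;> omega

theorem not_mem_of_modEq (hm : 2 ≤ m) {ψ : IrrCharacter H} {a : ℤ} (ha : a = 0 ∨ a = 1 ∨ a = -1)
    (h : (Char.degree ψ : ℤ) ≡ a [ZMOD ℓ]) : ψ ∉ S.Y :=
  fun hψ => S.not_modEq hm hψ ha h

/-- Membership is decided by the degree. -/
theorem mem_of_modEq (hm : 2 ≤ m) {θ ψ : IrrCharacter H} (hθ : θ ∈ S.Y)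
    (h : (Char.degree ψ : ℤ) ≡ Char.degree θ [ZMOD ℓ]) : ψ ∈ S.Y := by
  by_contra hψ
  exact S.not_modEq hm hθ (S.hz ψ) (h.symm.trans (S.deg ψ hψ))

theorem triv_notMem (hm : 2 ≤ m) : Char.trivialChar H ∉ S.Y := by
  refine S.not_mem_of_modEq hm (Or.inr (Or.inl rfl)) ?_
  have : Char.degree (Char.trivialChar H) = 1 := by
    have := Char.apply_one_eq_degree (Char.trivialChar H)
    rw [Char.trivialChar_apply] at this
    exact_mod_cast this.symm
  rw [this]; rfl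

theorem apply_sing (S : Shp ℓ m Q) {F : H → ℂ} (hF : IsClassFunction H F) {c : ℂ}
    (hc : ∀ y ∈ Q, y ≠ 1 → F y = c) {g : H} (hg : ℓ ∣ orderOf g) : F g = c := by
  obtain ⟨y, hy, hy1, hgy⟩ := S.sing g hg
  rw [Char.IsClassFunction.apply_of_isConj hF hgy, hc y hy hy1]

/-- Exceptional characters have equal multiplicity in a class function constant on `Q - 1`. -/
theorem inner_eq (hm : 2 ≤ m) {F : H → ℂ} (hF : IsClassFunction H F) {c : ℂ}
    (hc : ∀ y ∈ Q, y ≠ 1 → F y = c) {θ θ' : IrrCharacter H} (hθ : θ ∈ S.Y) (hθ' : θ' ∈ S.Y) :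
    classInner F θ.1 = classInner F θ'.1 := by
  have h0 : ∀ χ : IrrCharacter H, χ ∈ S.Y → ∑ g : H, conj (χ.1 g) = 0 := fun χ hχ => by
    rw [← map_sum, Char.sum_apply_eq_zero (fun e => S.triv_notMem hm (e ▸ hχ)), map_zero]
  rw [classInner, classInner]
  congr 1
  have h1 : ∑ g : H, (F g - c) * (conj (θ.1 g) - conj (θ'.1 g)) = 0 :=
    Finset.sum_eq_zero fun g _ => by
      by_cases hg : ℓ ∣ orderOf g
      · rw [S.apply_sing hF hc hg, sub_self, zero_mul]
      · rw [S.agree θ hθ θ' hθ' g hg, sub_self, mul_zero]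
  simp only [sub_mul, mul_sub, Finset.sum_sub_distrib, ← Finset.mul_sum, h0 θ hθ, h0 θ' hθ',
    mul_zero, sub_zero] at h1
  exact sub_eq_zero.1 h1

/-- The decomposition of a character constant on `Q - 1`. -/
theorem split (hm : 2 ≤ m) {F : H → ℂ} (hF : IsCharacter H F) {c : ℤ}
    (hc : ∀ y ∈ Q, y ≠ 1 → F y = c) {D : ℕ} (hD : F 1 = D) :
    ∃ (M : IrrCharacter H → ℕ) (a : ℕ), F = ∑ ψ, (M ψ : ℂ) • ψ.1 ∧
      (∀ ψ : IrrCharacter H, classInner F ψ.1 = M ψ) ∧ (∀ θ ∈ S.Y, M θ = a) ∧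
      (S.Y = ∅ → a = 0) ∧
      ∑ ψ ∈ univ \ S.Y, M ψ * Char.degree ψ + a * ∑ θ ∈ S.Y, Char.degree θ = D ∧
      c = ∑ ψ ∈ univ \ S.Y, (M ψ : ℤ) * S.z ψ - a * S.ε := by
  obtain ⟨M, hdec, hM⟩ := Char.IsCharacter.exists_decomp hF
  obtain ⟨a, ha, ha0⟩ : ∃ a : ℕ, (∀ θ ∈ S.Y, M θ = a) ∧ (S.Y = ∅ → a = 0) := by
    rcases S.Y.eq_empty_or_nonempty with h | ⟨θ₀, hθ₀⟩
    · exact ⟨0, by simp [h], fun _ => rfl⟩
    refine ⟨M θ₀, fun θ hθ => ?_, fun h => absurd hθ₀ (by simp [h])⟩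
    have := S.inner_eq hm (Char.IsCharacter.isClassFunction hF) hc hθ hθ₀
    rw [hM, hM] at this
    exact_mod_cast this
  have hsplit : ∀ y : H, F y =
      ∑ ψ ∈ univ \ S.Y, (M ψ : ℂ) * ψ.1 y + (a : ℂ) * ∑ θ ∈ S.Y, θ.1 y := fun y => by
    conv_lhs => rw [hdec, Finset.sum_apply, ← Finset.sum_sdiff (subset_univ S.Y)]
    simp only [Pi.smul_apply, smul_eq_mul, mul_sum]
    congr 1
    exact Finset.sum_congr rfl fun θ hθ => by rw [ha θ hθ]
  refine ⟨M, a, hdec, hM, ha, ha0, ?_, ?_⟩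
  · have := hsplit 1
    simp only [hD, Char.apply_one_eq_degree] at this
    exact_mod_cast this.symm
  · obtain ⟨y, hy, hy1⟩ := S.nontriv
    have := hsplit y
    rw [hc y hy hy1, Finset.sum_congr rfl fun ψ hψ => by
      rw [S.val ψ (mem_sdiff.1 hψ).2 y hy hy1]] at this
    rcases S.Y.eq_empty_or_nonempty with h | h
    · rw [ha0 h, Nat.cast_zero, zero_mul, add_zero] at this
      rw [ha0 h, Nat.cast_zero, zero_mul, sub_zero]
      exact_mod_cast this
    · rw [S.sum_Y h y hy hy1, mul_neg, ← sub_eq_add_neg] at this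
      exact_mod_cast this

end Shp

/-- The number of singular elements. -/
theorem card_sing {P : Sylow ℓ H} (sc : DefectOne.SelfCent P) :
    (univ.filter fun g : H => ℓ ∣ orderOf g).card *
      Nat.card (Subgroup.normalizer ((P : Subgroup H) : Set H)) = Nat.card H * (ℓ - 1) := by
  set N := Subgroup.normalizer ((P : Subgroup H) : Set H)
  set T : Finset H := univ.filter fun y => y ∈ (P : Subgroup H) ∧ y ≠ 1
  have hT : T.card = ℓ - 1 := by
    rw [show T = (univ.filter fun y => y ∈ (P : Subgroup H)).erase 1 by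
        ext y; simp [T, and_comm],
      card_erase_of_mem (by simp), ← Fintype.card_subtype, ← Nat.card_eq_fintype_card]
    exact congrArg (· - 1) sc.card
  have hord : ∀ y ∈ T, orderOf y = ℓ := fun y hy => by
    obtain ⟨h1, h2⟩ := (mem_filter.1 hy).2
    rcases (Nat.dvd_prime hl.out).1 (sc.card ▸ Subgroup.orderOf_dvd_natCard _ h1 : orderOf y ∣ ℓ)
      with h | h
    · exact absurd (orderOf_eq_one_iff.1 h) h2
    · exact h
  have hnorm : ∀ y ∈ T, ∀ n : H, n ∈ N ↔ n⁻¹ * y * n ∈ (P : Subgroup H) := by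
    intro y hy n
    obtain ⟨h1, -⟩ := (mem_filter.1 hy).2
    refine ⟨fun hn => ?_, fun hn => ?_⟩
    · have := (Subgroup.mem_normalizer_iff.1 (inv_mem hn) y).1 h1
      simpa using this
    · have hz : Subgroup.zpowers y = (P : Subgroup H) :=
        Subgroup.eq_of_le_of_card_ge (Subgroup.zpowers_le.2 h1)
          (by rw [Nat.card_zpowers, hord y hy]; exact sc.card.le)
      have hle : ∀ w ∈ (P : Subgroup H), n⁻¹ * w * n ∈ (P : Subgroup H) := fun w hw => by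
        rw [← hz] at hw
        obtain ⟨i, rfl⟩ := hw
        have := Subgroup.zpow_mem _ hn i
        rwa [show n⁻¹ * y * n = n⁻¹ * y * n⁻¹⁻¹ by rw [inv_inv], conj_zpow, inv_inv] at this
      exact inv_mem_iff.1 (Subgroup.mem_normalizer_iff.2 fun w => ⟨fun hw => by simpa using hle w hw, fun hw => by
        have hbij : Function.Bijective (fun v : (P : Subgroup H) => (⟨_, hle v v.2⟩ : (P : Subgroup H))) :=
          Finite.injective_iff_bijective.1 fun a b h => Subtype.ext (by simpa using congrArg Subtype.val h)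
        obtain ⟨v, hv⟩ := hbij.2 ⟨_, hw⟩
        have hvw : n⁻¹ * (v : H) * n = n⁻¹ * w * n := by simpa using congrArg Subtype.val hv
        rw [← (mul_left_cancel (mul_right_cancel hvw) : (v : H) = w)]
        exact v.2⟩)
  have hmaps : ∀ x ∈ (univ : Finset H) ×ˢ T, x.1 * x.2 * x.1⁻¹ ∈
      univ.filter fun g : H => ℓ ∣ orderOf g := fun x hx => by
    refine mem_filter.2 ⟨mem_univ _, ?_⟩
    rw [← SemiconjBy.orderOf_eq (x := x.2) (y := x.1 * x.2 * x.1⁻¹) x.1 (by simp [SemiconjBy]),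
      hord _ (mem_product.1 hx).2]
  have h := Finset.card_eq_sum_card_fiberwise hmaps
  rw [card_product, hT, card_univ, ← Nat.card_eq_fintype_card] at h
  rw [h, ← smul_eq_mul, ← sum_const]
  refine Finset.sum_congr rfl fun g hg => ?_
  obtain ⟨y, hy, hy1, hgy⟩ := sing_conj sc (mem_filter.1 hg).2
  obtain ⟨c, hc⟩ := isConj_iff.1 hgy
  rw [Nat.card_eq_fintype_card, Fintype.card_subtype]
  symm
  refine card_bij (fun x _ => c * x.1) (fun x hx => ?_) (fun a ha b hb hab => ?_) fun n hn => ?_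
  · obtain ⟨⟨-, hxT⟩, hxg⟩ := (mem_filter.1 hx).imp mem_product.1 id
    refine mem_filter.2 ⟨mem_univ _, (hnorm y (mem_filter.2 ⟨mem_univ _, hy, hy1⟩) _).2 ?_⟩
    rw [← hc, ← hxg]
    convert (mem_filter.1 hxT).2.1 using 1
    group
  · have h1 : a.1 = b.1 := mul_left_cancel hab
    have := (mem_filter.1 ha).2.trans (mem_filter.1 hb).2.symm
    rw [h1] at this
    exact Prod.ext h1 (mul_left_cancel (mul_right_cancel this))
  · have hn' := (hnorm y (mem_filter.2 ⟨mem_univ _, hy, hy1⟩) n).1 (mem_filter.1 hn).2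
    refine ⟨(c⁻¹ * n, n⁻¹ * y * n), mem_filter.2 ⟨mem_product.2 ⟨mem_univ _,
      mem_filter.2 ⟨mem_univ _, hn', fun e => hy1 (by
        have := congrArg (fun t => n * t * n⁻¹) e
        simpa [mul_assoc] using this)⟩⟩, ?_⟩, by simp⟩
    show c⁻¹ * n * (n⁻¹ * y * n) * (c⁻¹ * n)⁻¹ = g
    rw [← hc]; group

end Cfsg.Agent.PrimeTwoQ
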