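import Cfsg.Agent.Lib.Perm.HalfNormalizerSetup
import Cfsg.Agent.Lib.Perm.PrimeDegreeSimple
import Cfsg.Agent.Lib.Perm.Jordan
import Cfsg.Agent.Lib.PrimeTwoQ.Counting
import Cfsg.Agent.Lib.PrimeTwoQ.Shape
import Cfsg.Agent.Lib.Char.Linear
import Mathlib.GroupTheory.Perm.Cycle.Type
import Mathlib.GroupTheory.SpecificGroups.ZGroup

/-!
# Groups of degree `p = 2 q + 1` with Sylow normalizer of order `p q`, not containing `A_p`
-/

set_option autoImplicit false
set_option linter.unusedSectionVars false
set_option linter.style.haveILetI false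

namespace Cfsg.Agent.PrimeTwoQ

open Cfsg Cfsg.Agent MulAction Finset
open scoped Classical

universe u v

variable {G : Type u} [Group G] [Fintype G] {Ω : Type v} [Fintype Ω] [MulAction G Ω]

/-- The data used by the two main arguments. -/
structure Ctx (G : Type u) [Group G] [Fintype G] (Ω : Type v) [Fintype Ω] [MulAction G Ω]
    (p q : ℕ) [Fact p.Prime] [Fact q.Prime] where
  f : ℕ
  N : ℕ
  α : Ω
  P : Sylow p G
  Q : Sylow q G
  hpq : p = 2 * q + 1
  eleven : 11 ≤ q
  hΩ : Fintype.card Ω = p
  faithful : FaithfulSMul G Ω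
  two : IsMultiplyPretransitive G Ω 2
  simple : IsSimpleGroup G
  linear : ∀ χ : IrrCharacter G, Char.degree χ = 1 → χ = Char.trivialChar G
  even : ∀ g : G, Equiv.Perm.sign (MulAction.toPerm g : Equiv.Perm Ω) = 1
  scP : DefectOne.SelfCent P
  NP : Nat.card (Subgroup.normalizer ((P : Subgroup G) : Set G)) = p * q
  fixP : ∀ y ∈ (P : Subgroup G), y ≠ 1 → nfix Ω y = 0
  scQ : DefectOne.SelfCent Q
  NQ : Nat.card (Subgroup.normalizer ((Q : Subgroup G) : Set G)) = q * f
  NQ_le : Subgroup.normalizer ((Q : Subgroup G) : Set G) ≤ stabilizer G α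
  fixQ : ∀ y ∈ (Q : Subgroup G), y ≠ 1 → ∀ x : Ω, y • x = x ↔ x = α
  hf : f * N = q - 1
  two_le_f : 2 ≤ f

theorem toPerm_injective' [FaithfulSMul G Ω] :
    Function.Injective (MulAction.toPerm : G → Equiv.Perm Ω) := MulAction.toPerm_injective

/-- An involution moves an even number of points, in transpositions giving its sign. -/
theorem involution_type [FaithfulSMul G Ω] {g : G} (hg : orderOf g = 2) :
    ∃ k : ℕ, 1 ≤ k ∧ nfix Ω g + 2 * k = Fintype.card Ω ∧
      Equiv.Perm.sign (MulAction.toPerm g : Equiv.Perm Ω) = (-1) ^ k := by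
  set σ : Equiv.Perm Ω := MulAction.toPerm g with hσ
  have hord : orderOf σ = 2 := by
    rw [hσ, ← hg]
    exact orderOf_injective (MulAction.toPermHom G Ω) toPerm_injective' g
  obtain ⟨n, hn⟩ := Equiv.Perm.cycleType_prime_order (σ := σ) (hord.symm ▸ Nat.prime_two)
  refine ⟨n + 1, by omega, ?_, ?_⟩
  · have h1 := σ.sum_cycleType
    rw [hn, hord, Multiset.sum_replicate, smul_eq_mul] at h1
    have h2 : σ.supportᶜ = univ.filter fun x : Ω => g • x = x := by
      ext x; simp [hσ]
    have h3 : σ.supportᶜ.card + σ.support.card = Fintype.card Ω := by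
      rw [card_compl]; have := card_le_univ σ.support; omega
    rw [nfix, ← h2]; omega
  · rw [Equiv.Perm.sign_of_cycleType, hn, hord, Multiset.sum_replicate, Multiset.card_replicate,
      smul_eq_mul, pow_add, pow_mul', neg_one_sq, one_pow, one_mul]

theorem sylow_q_mem {q : ℕ} [Fact q.Prime] (Q : Sylow q G) {x : G} (hx : orderOf x = q)
    (hc : x ∈ Subgroup.centralizer ((Q : Subgroup G) : Set G)) : x ∈ (Q : Subgroup G) := by
  have hXN : Subgroup.zpowers x ≤ Subgroup.normalizer ((Q : Subgroup G) : Set G) :=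
    (Subgroup.zpowers_le.2 (Subgroup.centralizer_le_normalizer _ hc))
  have hX : IsPGroup q (Subgroup.zpowers x) := IsPGroup.of_card (n := 1) (by rw [Nat.card_zpowers, hx, pow_one])
  have := Q.is_maximal' (hX.to_sup_of_normal_right' Q.isPGroup' hXN) le_sup_right
  rw [← this]
  exact le_sup_left (a := Subgroup.zpowers x) (Subgroup.mem_zpowers x)

/-- The alternating group, or a context. -/
theorem exists_ctx [FaithfulSMul G Ω] {p q : ℕ} [hp : Fact p.Prime] [hq : Fact q.Prime]
    (hpq : p = 2 * q + 1) (h11 : 11 ≤ q) (hΩ : Fintype.card Ω = p) (htrans : IsPretransitive G Ω)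
    (hins : ¬ Group.IsSolvable G) (P : Sylow p G)
    (hN : 2 * Nat.card ↥(Subgroup.normalizer ((P : Subgroup G) : Set G)) = p * (p - 1)) :
    alternatingGroup Ω ≤ (MulAction.toPermHom G Ω).range ∨ Nonempty (Ctx G Ω p q) := by
  have hq2 : q % 2 = 1 := hq.out.eq_two_or_odd.resolve_left (by omega)
  have hNP : Nat.card ↥(Subgroup.normalizer ((P : Subgroup G) : Set G)) = p * q := by
    rw [show p - 1 = 2 * q by omega, mul_left_comm] at hN
    omega
  obtain ⟨α⟩ : Nonempty Ω := Fintype.card_pos_iff.1 (hΩ ▸ hp.out.pos)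
  obtain ⟨e, he0, hC⟩ := Perm.HalfNormalizer.exists_coord hΩ htrans hins P hN α
  set φ := MulAction.toPermHom G Ω
  have hφ : Function.Injective φ := toPerm_injective'
  have hcardR : Nat.card φ.range = Nat.card G := (Nat.card_congr (MonoidHom.ofInjective hφ).toEquiv).symm
  -- the Sylow subgroup for `p`
  have hp2 : ¬ p ^ 2 ∣ Nat.card G := by
    rw [← hcardR]
    exact Perm.PrimeDegree.not_dvd_card_sq φ.range hp.out hΩ
  have hpG : p ∣ Nat.card G := by
    rw [← hΩ, ← Nat.card_eq_fintype_card, ← MulAction.index_stabilizer_of_transitive G α]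
    exact Subgroup.index_dvd_card _
  have hP : Nat.card P = p := by
    obtain ⟨k, hk⟩ := P.isPGroup'.exists_card_eq
    have h1 : p ∣ Nat.card P := P.dvd_card_of_dvd_card hpG
    have h2 : ¬ p ^ 2 ∣ Nat.card P := fun h => hp2 (h.trans (Subgroup.card_subgroup_dvd_card _))
    rw [hk] at h1 h2 ⊢
    rcases k with _ | _ | k
    · exact absurd (Nat.dvd_one.1 h1) hp.out.ne_one
    · exact pow_one p
    · exact absurd (pow_dvd_pow p (by omega)) h2
  -- the element of order `q` fixing exactly one point
  obtain ⟨a, ha⟩ := hC.exists_orderOf_half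
  have hhalf : (p - 1) / 2 = q := by omega
  rw [hhalf] at ha
  obtain ⟨s, hs⟩ := hC.scale a (by rw [hhalf, ← ha]; exact pow_orderOf_eq_one a)
  have hspow : ∀ (j : ℕ) (x : ZMod p), (s ^ j) • e x = e (a ^ j * x) := by
    intro j
    induction j with
    | zero => simp
    | succ j ih => intro x; rw [pow_succ, mul_smul, hs, ih, pow_succ, mul_assoc]
  have hsord : orderOf s = q := by
    refine orderOf_eq_prime (eq_of_smul_eq_smul (α := Ω) fun w => ?_) fun h => ?_
    · obtain ⟨x, rfl⟩ := e.surjective w
      rw [hspow, show a ^ q = 1 by rw [← ha]; exact pow_orderOf_eq_one a, one_mul, one_smul]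
    · have := hs 1
      rw [h, one_smul, mul_one] at this
      rw [← e.injective this, orderOf_one] at ha
      omega
  have hqG : q ∣ Nat.card G := hsord ▸ orderOf_dvd_natCard s
  -- the alternating alternative
  by_cases hsq : q ^ 2 ∣ Nat.card G
  · left
    obtain ⟨K, hK⟩ := Sylow.exists_subgroup_card_pow_prime q hsq
    have hKq : IsPGroup q K := IsPGroup.of_card hK
    have hsz : ∀ x : Ω, Nat.card (orbit K x) = 1 ∨ Nat.card (orbit K x) = q := fun x => by
      obtain ⟨n, hn⟩ := hKq.card_orbit x
      have hle : q ^ n ≤ 2 * q + 1 := by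
        rw [← hn, ← hpq, ← hΩ, ← Nat.card_eq_fintype_card]
        exact Nat.card_le_card_of_injective _ Subtype.val_injective
      rcases n with _ | _ | n
      · exact Or.inl (by simpa using hn)
      · exact Or.inr (by simpa using hn)
      · exfalso
        have : q ^ 2 ≤ q ^ (n + 1 + 1) := Nat.pow_le_pow_right hq.out.pos (by omega)
        nlinarith
    have horb : 3 ≤ Fintype.card (orbitRel.Quotient K Ω) := by
      by_contra hlt
      have h1 : Fintype.card Ω = ∑ ω : orbitRel.Quotient K Ω, Nat.card (orbitRel.Quotient.orbit ω) := by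
        rw [← Nat.card_eq_fintype_card, Nat.card_congr (MulAction.selfEquivSigmaOrbits' K Ω),
          Nat.card_sigma]
      have h2 : ∀ ω : orbitRel.Quotient K Ω, Nat.card (orbitRel.Quotient.orbit ω) ≤ q := fun ω => by
        obtain ⟨x, rfl⟩ := Quotient.mk''_surjective ω
        rw [orbitRel.Quotient.orbit_mk]
        have := hq.out.one_lt
        rcases hsz x with h | h <;> omega
      have h3 := Finset.sum_le_sum (s := univ) fun ω _ => h2 ω
      rw [← h1, hΩ, sum_const, card_univ, smul_eq_mul] at h3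
      have : Fintype.card (orbitRel.Quotient K Ω) * q ≤ 2 * q := Nat.mul_le_mul_right q (by omega)
      omega
    obtain ⟨c, hc1, hc⟩ : ∃ c : K, c ≠ 1 ∧ 2 ≤ nfix Ω c := by
      by_contra hno
      push Not at hno
      have h := MulAction.sum_card_fixedBy_eq_card_orbits_mul_card_group K Ω
      simp only [← Nat.card_eq_fintype_card, ← nfix_eq_natCard] at h
      rw [← Finset.add_sum_erase _ _ (mem_univ (1 : K)), nfix_one, hΩ, hK] at h
      have hle : ∑ c ∈ univ.erase (1 : K), nfix Ω c ≤ ∑ _c ∈ univ.erase (1 : K), 1 :=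
        Finset.sum_le_sum fun c hc => by have := hno c (ne_of_mem_erase hc); omega
      rw [sum_const, card_erase_of_mem (mem_univ _), card_univ, ← Nat.card_eq_fintype_card, hK,
        smul_eq_mul, mul_one] at hle
      have : 3 * q ^ 2 ≤ Nat.card (Quotient (orbitRel K Ω)) * q ^ 2 := Nat.mul_le_mul_right _ (by
        rw [Nat.card_eq_fintype_card]; exact horb)
      have h11q : 11 * q ≤ q ^ 2 := by rw [sq]; exact Nat.mul_le_mul_right q h11
      have hXq : p + (q ^ 2 - 1) ≥ 3 * q ^ 2 := by omega
      omega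
    set σ : Equiv.Perm Ω := φ (c : G)
    have hσord : orderOf σ = q := by
      rw [orderOf_injective φ hφ, Subgroup.orderOf_coe]
      have hdvd : orderOf c ∣ q ^ 2 := hK ▸ orderOf_dvd_natCard c
      obtain ⟨i, hi, heq⟩ := (Nat.dvd_prime_pow hq.out).1 hdvd
      rcases i with _ | _ | i
      · exact absurd (orderOf_eq_one_iff.1 (by simpa using heq)) hc1
      · simpa using heq
      · exfalso
        have h2 : σ.cycleType.lcm = q ^ 2 := by
          rw [Equiv.Perm.lcm_cycleType, orderOf_injective φ hφ, Subgroup.orderOf_coe, heq]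
          congr 1; omega
        have hall : ∀ n ∈ σ.cycleType, n ∣ q := by
          intro n hn
          have hn2 : n ≤ σ.support.card := Equiv.Perm.le_card_support_of_mem_cycleType hn
          have hn3 : n ∣ q ^ 2 := h2 ▸ Multiset.dvd_lcm hn
          obtain ⟨j, hj, rfl⟩ := (Nat.dvd_prime_pow hq.out).1 hn3
          rcases j with _ | _ | j
          · simp
          · simp
          · exfalso
            have := card_le_univ σ.support
            have : q ^ 2 ≤ q ^ (j + 1 + 1) := Nat.pow_le_pow_right hq.out.pos (by omega)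
            nlinarith
        have := Multiset.lcm_dvd.2 hall
        rw [h2] at this
        have := Nat.le_of_dvd hq.out.pos this
        nlinarith
    have hsup : σ.support.card + nfix Ω c = p := by
      rw [← hΩ, nfix, show (univ.filter fun x : Ω => c • x = x) = σ.supportᶜ by
        ext x; simp [σ, φ]; rfl, card_compl]
      have := card_le_univ σ.support
      omega
    obtain ⟨n, hn⟩ := Equiv.Perm.cycleType_prime_order (σ := σ) (hσord.symm ▸ hq.out)
    have h1 := σ.sum_cycleType
    rw [hn, hσord, Multiset.sum_replicate, smul_eq_mul] at h1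
    have hn0 : n = 0 := by
      rcases n with _ | n
      · rfl
      · have : 2 * q ≤ (n + 1 + 1) * q := Nat.mul_le_mul_right q (by omega)
        omega
    have hcyc : σ.IsCycle := Equiv.Perm.isCycle_of_prime_order (hσord.symm ▸ hq.out)
      (by rw [hσord, ← h1, hn0]; have := hq.out.pos; omega)
    haveI : IsPretransitive φ.range Ω := ⟨fun x y => by
      obtain ⟨g, hg⟩ := htrans.exists_smul_eq x y
      exact ⟨⟨φ g, g, rfl⟩, hg⟩⟩
    exact Perm.alternatingGroup_le_of_prime_cycle φ.range
      (IsPreprimitive.of_prime_card (by rw [Nat.card_eq_fintype_card, hΩ]; exact hp.out))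
      hq.out (by omega) hcyc (by rw [← h1, hn0]; ring) ⟨c, rfl⟩
  right
  -- simplicity
  have hnotpq : Nat.card G ≠ p * q := fun h => hins <| by
    have hsf : Squarefree (Nat.card G) := by
      rw [h, Nat.squarefree_mul ((Nat.coprime_primes hp.out hq.out).2 (by omega))]
      exact ⟨hp.out.prime.squarefree, hq.out.prime.squarefree⟩
    haveI := IsZGroup.of_squarefree hsf
    infer_instance
  have hsimple : IsSimpleGroup G := by
    refine Perm.isSimpleGroup_of_prime_degree (α := Ω) (by rw [Nat.card_eq_fintype_card, hΩ]) hp2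
      fun d hd hdG hcount => ?_
    have hPcount := Perm.prime_div_sylow_count P
    rw [hNP] at hPcount
    have hpqG : p * q ∣ Nat.card G := hNP ▸ Subgroup.card_subgroup_dvd_card _
    obtain ⟨X, hX⟩ := hdG
    obtain ⟨Z, hZ⟩ := hpqG
    rw [hX, Nat.mul_div_cancel_left _ (Nat.mul_pos hp.out.pos (Nat.pos_of_dvd_of_pos hd (by omega)))] at hcount
    rw [hZ, Nat.mul_div_cancel_left _ (Nat.mul_pos hp.out.pos hq.out.pos)] at hPcount
    have hdq : d * X = q * Z := Nat.eq_of_mul_eq_mul_left hp.out.pos (by rw [← mul_assoc, ← hX, hZ, mul_assoc])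
    have hmod : d ≡ q [MOD p] := by
      have h1 : d * X ≡ d [MOD p] := by simpa using hcount.mul_left d
      have h2 : q * Z ≡ q [MOD p] := by simpa using hPcount.mul_left q
      rw [hdq] at h1
      exact h1.symm.trans h2
    have hdle : d ≤ 2 * q := by have := Nat.le_of_dvd (by omega) hd; omega
    have hdq' : d = q := Nat.ModEq.eq_of_lt_of_lt hmod (by omega) (by omega)
    subst hdq'
    exact ⟨hq.out, lt_of_le_of_ne (Nat.le_of_dvd Nat.card_pos ⟨Z, hZ⟩) (Ne.symm hnotpq)⟩
  have hnoncomm : ¬ ∀ x y : G, x * y = y * x := fun h => hins (Group.isSolvable_of_comm h)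
  have hlin : ∀ χ : IrrCharacter G, Char.degree χ = 1 → χ = Char.trivialChar G := by
    intro χ hχ
    obtain ⟨lam, hlam⟩ := Char.IsCharacter.exists_monoidHom (Char.irr_isCharacter χ)
      (by rw [Char.apply_one_eq_degree, hχ, Nat.cast_one])
    rcases hsimple.eq_bot_or_eq_top_of_normal lam.ker inferInstance with h | h
    · exact absurd (fun x y => (MonoidHom.ker_eq_bot_iff lam).1 h
        (by rw [map_mul, map_mul, mul_comm])) hnoncomm
    · refine Subtype.ext (funext fun g => ?_)
      rw [Char.trivialChar_apply]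
      refine (congrFun hlam.symm g).trans ?_
      exact MonoidHom.mem_ker.1 (h ▸ Subgroup.mem_top g)
  have heven : ∀ g : G, Equiv.Perm.sign (MulAction.toPerm g : Equiv.Perm Ω) = 1 := by
    intro g
    set sg := (Equiv.Perm.sign (α := Ω)).comp φ
    rcases hsimple.eq_bot_or_eq_top_of_normal sg.ker inferInstance with h | h
    · exact absurd (fun x y => (MonoidHom.ker_eq_bot_iff sg).1 h
        (by rw [map_mul, map_mul, mul_comm])) hnoncomm
    · exact MonoidHom.mem_ker.1 (show g ∈ sg.ker from h ▸ Subgroup.mem_top g)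
  -- `C(P) = P`
  obtain ⟨t, ht⟩ := hC.shift
  have htord : orderOf t = p := by
    refine orderOf_eq_prime (eq_of_smul_eq_smul (α := Ω) fun w => ?_) fun h => ?_
    · obtain ⟨x, rfl⟩ := e.surjective w
      rw [Perm.HalfNormalizer.smul_natPow ht, ZMod.natCast_self, add_zero, one_smul]
    · have := ht 0
      rw [h, one_smul, zero_add] at this
      exact zero_ne_one (e.injective this)
  obtain ⟨P₁, hP₁⟩ := (IsPGroup.of_card (p := p) (n := 1) (G := Subgroup.zpowers t)
    (by rw [Nat.card_zpowers, htord, pow_one])).exists_le_sylow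
  have hP₁c : Nat.card P₁ = p := by rw [P₁.card_eq_multiplicity, ← P.card_eq_multiplicity, hP]
  have hzt : Subgroup.zpowers t = (P₁ : Subgroup G) :=
    Subgroup.eq_of_le_of_card_ge hP₁ (by rw [Nat.card_zpowers, htord]; exact hP₁c.le)
  have hfixP : ∀ y ∈ (P₁ : Subgroup G), y ≠ 1 → nfix Ω y = 0 := by
    intro y hy hy1
    rw [nfix, card_eq_zero, filter_eq_empty_iff]
    intro w _ hw
    rw [← hzt] at hy
    obtain ⟨k, rfl⟩ := ((isOfFinOrder_of_finite t).mem_powers_iff_mem_zpowers).2 hy
    obtain ⟨x, rfl⟩ := e.surjective w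
    have hw' : t ^ k • e x = e x := hw
    rw [Perm.HalfNormalizer.smul_natPow ht, e.injective.eq_iff, add_eq_left,
      ZMod.natCast_eq_zero_iff k p] at hw'
    exact hy1 (orderOf_dvd_iff_pow_eq_one.1 (htord.symm ▸ hw'))
  have hscP : DefectOne.SelfCent P₁ := by
    refine ⟨hP₁c, le_antisymm (fun c hc => ?_) ?_⟩
    · have hct : c * t = t * c := ((Subgroup.mem_centralizer_iff.1 hc) t
        (by rw [SetLike.mem_coe, ← hzt]; exact Subgroup.mem_zpowers t)).symm
      set b := e.symm (c • e 0)
      have hcx : ∀ n : ℕ, c • e (n : ZMod p) = e ((n : ZMod p) + b) := by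
        intro n
        induction n with
        | zero => simp [b]
        | succ n ih => rw [Nat.cast_succ, ← ht, ← mul_smul, hct, mul_smul, ih, ht]; congr 1; ring
      have : c = t ^ b.val := eq_of_smul_eq_smul (α := Ω) fun w => by
        obtain ⟨x, rfl⟩ := e.surjective w
        rw [Perm.HalfNormalizer.smul_natPow ht, ZMod.natCast_zmod_val, ← ZMod.natCast_zmod_val x, hcx]
      rw [this, ← hzt]
      exact Subgroup.pow_mem _ (Subgroup.mem_zpowers t) _
    · rw [← hzt]
      exact fun x hx y hy => by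
        obtain ⟨i, rfl⟩ := hx
        obtain ⟨j, rfl⟩ := hy
        exact ((Commute.refl t).zpow_zpow j i).eq
  have hNP₁ : Nat.card (Subgroup.normalizer ((P₁ : Subgroup G) : Set G)) = p * q := by
    have h1 : (Subgroup.normalizer ((P₁ : Subgroup G) : Set G)).index =
        (Subgroup.normalizer ((P : Subgroup G) : Set G)).index :=
      P₁.card_eq_index_normalizer.symm.trans P.card_eq_index_normalizer
    have h2 := Subgroup.card_mul_index (Subgroup.normalizer ((P₁ : Subgroup G) : Set G))
    have h3 := Subgroup.card_mul_index (Subgroup.normalizer ((P : Subgroup G) : Set G))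
    rw [h1] at h2
    rw [← hNP]
    exact Nat.eq_of_mul_eq_mul_right (Nat.pos_of_ne_zero Subgroup.index_ne_zero_of_finite) (h2.trans h3.symm)
  -- `Q`
  obtain ⟨Q, hQle⟩ := (IsPGroup.of_card (p := q) (n := 1) (G := Subgroup.zpowers s)
    (by rw [Nat.card_zpowers, hsord, pow_one])).exists_le_sylow
  have hQc : Nat.card Q = q := by
    obtain ⟨k, hk⟩ := Q.isPGroup'.exists_card_eq
    have h1 : q ∣ Nat.card Q := Q.dvd_card_of_dvd_card hqG
    have h2 : ¬ q ^ 2 ∣ Nat.card Q := fun h => hsq (h.trans (Subgroup.card_subgroup_dvd_card _))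
    rw [hk] at h1 h2 ⊢
    rcases k with _ | _ | k
    · exact absurd (Nat.dvd_one.1 h1) hq.out.ne_one
    · exact pow_one q
    · exact absurd (pow_dvd_pow q (by omega)) h2
  have hzs : Subgroup.zpowers s = (Q : Subgroup G) :=
    Subgroup.eq_of_le_of_card_ge hQle (by rw [Nat.card_zpowers, hsord]; exact hQc.le)
  have hfixQ : ∀ y ∈ (Q : Subgroup G), y ≠ 1 → ∀ x : Ω, y • x = x ↔ x = α := by
    intro y hy hy1 w
    rw [← hzs] at hy
    obtain ⟨k, rfl⟩ := ((isOfFinOrder_of_finite s).mem_powers_iff_mem_zpowers).2 hy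
    obtain ⟨x, rfl⟩ := e.surjective w
    show s ^ k • e x = e x ↔ e x = α
    rw [hspow, e.injective.eq_iff, ← he0, e.injective.eq_iff]
    refine ⟨fun h => ?_, fun h => by rw [h, mul_zero]⟩
    by_contra hx
    apply hy1
    show s ^ k = 1
    rw [← orderOf_dvd_iff_pow_eq_one, hsord, ← ha, orderOf_dvd_iff_pow_eq_one]
    exact mul_right_cancel₀ hx (by rw [h, one_mul])
  have hsQ : s ∈ (Q : Subgroup G) := hzs ▸ Subgroup.mem_zpowers s
  have hs1 : s ≠ 1 := fun h => by rw [h, orderOf_one] at hsord; omega
  set N := Subgroup.normalizer ((Q : Subgroup G) : Set G)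
  have hNle : N ≤ stabilizer G α := by
    intro n hn
    refine mem_stabilizer_iff.2 ((hfixQ s hsQ hs1 _).1 ?_)
    have h1 := (Subgroup.mem_normalizer_iff.1 (inv_mem hn) s).1 hsQ
    rw [inv_inv] at h1
    have h2 : (n⁻¹ * s * n) • α = α := (hfixQ _ h1 (fun h => hs1 (by
      have := congrArg (fun z => n * z * n⁻¹) h
      simpa [mul_assoc] using this)) α).2 rfl
    rwa [mul_smul, mul_smul, inv_smul_eq_iff] at h2
  set C := Subgroup.centralizer ((Q : Subgroup G) : Set G)
  have hCcomm : ∀ c ∈ C, ∀ (j : ℤ) (x : Ω), c • s ^ j • x = s ^ j • c • x := fun c hc j x => by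
    rw [← mul_smul, ← mul_smul, ((Subgroup.mem_centralizer_iff.1 hc) (s ^ j)
      (Subgroup.zpow_mem _ hsQ j)).symm]
  have hQC : (Q : Subgroup G) ≤ C := by
    rw [← hzs]
    exact fun x hx y hy => by
      have hy' : y ∈ Subgroup.zpowers s := hzs ▸ hy
      obtain ⟨i, rfl⟩ := hx
      obtain ⟨j, rfl⟩ := hy'
      exact ((Commute.refl s).zpow_zpow j i).eq
  have hsemi : ∀ c ∈ C, ∀ x : Ω, x ≠ α → c • x = x → c = 1 := by
    intro c hc x hx hcx
    by_contra hc1
    obtain ⟨ℓ, hℓ, hℓd⟩ := Nat.exists_prime_and_dvd (n := orderOf c) (fun h => hc1 (orderOf_eq_one_iff.1 h))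
    haveI := Fact.mk hℓ
    obtain ⟨d, hdC, hdord⟩ : ∃ d, d ∈ Subgroup.zpowers c ∧ orderOf d = ℓ :=
      ⟨c ^ (orderOf c / ℓ), Subgroup.pow_mem _ (Subgroup.mem_zpowers c) _, by
        rw [orderOf_pow_orderOf_div (orderOf_pos c).ne' hℓd]⟩
    have hdfix : ∀ w : Ω, c • w = w → d • w = w := fun w hw => by
      obtain ⟨i, rfl⟩ := hdC
      exact MulAction.zpow_smul_eq_iff_period_dvd.2 (by
        have : MulAction.period c w = 1 := MulAction.period_eq_one_iff.2 hw
        rw [this]; simp)
    have hdC' : d ∈ C := (Subgroup.zpowers_le.2 hc) hdC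
    have hd1 : d ≠ 1 := fun h => by rw [h, orderOf_one] at hdord; exact hℓ.ne_one hdord.symm
    by_cases hℓq : ℓ = q
    · exact hx ((hfixQ d (sylow_q_mem Q (hdord.trans hℓq) hdC') hd1 x).1 (hdfix x hcx))
    have hdα : d • α = α := (hNle (Subgroup.centralizer_le_normalizer _ hdC') : _)
    obtain ⟨y, hy⟩ : ∃ y, d • y ≠ y := by
      by_contra h
      push Not at h
      exact hd1 (eq_of_smul_eq_smul (α := Ω) fun w => by rw [h, one_smul])
    have hyα : y ≠ α := fun h => hy (by rw [h]; exact hdα)
    let orb : Ω → Finset Ω := fun w => (Finset.range q).image fun i : ℕ => s ^ i • w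
    have horb : ∀ w, w ≠ α → (orb w).card = q := by
      intro w hw
      rw [card_image_of_injOn, card_range]
      intro i hi j hj hij
      have hi' := Finset.mem_range.1 hi
      have hj' := Finset.mem_range.1 hj
      have hij' : s ^ i • w = s ^ j • w := hij
      have h1 : s ^ ((i : ℤ) - j) • w = w := by
        rw [sub_eq_neg_add, zpow_add, mul_smul, zpow_neg, zpow_natCast, zpow_natCast, hij',
          inv_smul_smul]
      by_contra hne
      have h2 : s ^ ((i : ℤ) - j) ≠ 1 := fun h => by
        rw [← orderOf_dvd_iff_zpow_eq_one, hsord] at h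
        have := Int.le_of_dvd (abs_pos.2 (show (i : ℤ) - j ≠ 0 by omega)) ((dvd_abs _ _).2 h)
        rcases abs_choice ((i : ℤ) - j) with e' | e' <;> omega
      exact hw ((hfixQ _ (Subgroup.zpow_mem _ hsQ _) h2 w).1 h1)
    have hfixorb : ∀ w ∈ orb x, d • w = w := fun w hw => by
      obtain ⟨i, -, rfl⟩ := Finset.mem_image.1 hw
      have := hCcomm d hdC' i x
      rw [zpow_natCast] at this
      rw [this, hdfix x hcx]
    have hmov : ∀ w ∈ orb y, d • w ≠ w := fun w hw h => by
      obtain ⟨i, -, rfl⟩ := Finset.mem_image.1 hw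
      have := hCcomm d hdC' i y
      rw [zpow_natCast] at this
      exact hy (MulAction.injective (s ^ i) (this.symm.trans h))
    have hdisj : Disjoint (orb x) (orb y) := Finset.disjoint_left.2 fun w hw hw' => hmov w hw' (hfixorb w hw)
    have hnotα : ∀ w, w ≠ α → α ∉ orb w := fun w hw hmem => by
      obtain ⟨i, -, hi⟩ := Finset.mem_image.1 hmem
      refine hw (MulAction.injective (s ^ i) ?_)
      show s ^ i • w = s ^ i • α
      rw [hi]
      exact ((mem_stabilizer_iff.1 (hNle (Subgroup.le_normalizer (Subgroup.pow_mem _ hsQ i))))).symm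
    have hall : insert α (orb x ∪ orb y) = univ := eq_univ_of_card _ (by
      rw [card_insert_of_notMem (by simp [hnotα x hx, hnotα y hyα]), card_union_of_disjoint hdisj,
        horb x hx, horb y hyα, hΩ, hpq]
      omega)
    have hdy : d • y ∈ orb y := by
      have := Finset.mem_univ (d • y)
      rw [← hall, Finset.mem_insert, Finset.mem_union] at this
      rcases this with h | h | h
      · exact absurd (MulAction.injective d (h.trans hdα.symm)) hyα
      · exact absurd (MulAction.injective d (hfixorb _ h)) hy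
      · exact h
    obtain ⟨j, -, hj⟩ := Finset.mem_image.1 hdy
    have hiter : ∀ i : ℕ, d ^ i • y = s ^ (j * i) • y := by
      intro i
      induction i with
      | zero => simp
      | succ i ih =>
        have := hCcomm d hdC' ((j * i : ℕ) : ℤ) y
        rw [zpow_natCast] at this
        rw [pow_succ', mul_smul, ih, this, ← hj, ← mul_smul, ← pow_add, Nat.mul_succ]
    have h1 : s ^ (j * ℓ) • y = y := by rw [← hiter, ← hdord, pow_orderOf_eq_one, one_smul]
    have h2 : s ^ (j * ℓ) = 1 := by
      by_contra h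
      exact hyα ((hfixQ _ (Subgroup.pow_mem _ hsQ _) h y).1 h1)
    rw [← orderOf_dvd_iff_pow_eq_one, hsord] at h2
    rcases hq.out.dvd_mul.1 h2 with h | h
    · obtain ⟨j', rfl⟩ := h
      rw [pow_mul, ← hsord, pow_orderOf_eq_one, one_pow, one_smul] at hj
      exact hy hj.symm
    · exact hℓq ((Nat.prime_dvd_prime_iff_eq hq.out hℓ).1 h).symm
  have hCα : ∀ c ∈ C, c • α = α := fun c hc => hNle (Subgroup.centralizer_le_normalizer _ hc)
  have hscQ : DefectOne.SelfCent Q := by
    refine ⟨hQc, (Subgroup.eq_of_le_of_card_ge hQC ?_).symm⟩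
    obtain ⟨x, hx⟩ : ∃ x : Ω, x ≠ α := Fintype.exists_ne_of_one_lt_card (by omega) α
    have hle : Nat.card C ≤ 2 * q := by
      have : Nat.card C ≤ Nat.card {w : Ω // w ≠ α} := by
        refine Nat.card_le_card_of_injective (fun c : C => (⟨(c : G) • x, fun h => hx
          (MulAction.injective (c : G) (h.trans (hCα c c.2).symm))⟩ : {w : Ω // w ≠ α})) ?_
        intro c c' h
        have h' : (c : G) • x = (c' : G) • x := congrArg Subtype.val h
        refine Subtype.ext ?_
        have := hsemi ((c' : G)⁻¹ * c) (mul_mem (inv_mem c'.2) c.2) x hx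
          (by rw [mul_smul, h', inv_smul_smul])
        exact (inv_mul_eq_one.1 this).symm
      refine this.trans (le_of_eq ?_)
      rw [Nat.card_eq_fintype_card, Fintype.card_subtype_compl, Fintype.card_subtype_eq, hΩ]
      omega
    obtain ⟨i, hi⟩ : q ∣ Nat.card C := hQc ▸ Subgroup.card_dvd_of_le hQC
    have hi2 : i ≤ 2 := by
      rw [hi, mul_comm] at hle
      exact Nat.le_of_mul_le_mul_right hle hq.out.pos
    show Nat.card C ≤ Nat.card (Q : Subgroup G)
    rw [show Nat.card (Q : Subgroup G) = q from hQc, hi]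
    by_contra hgt
    have hi2' : i = 2 := by
      rcases i with _ | _ | _ | i <;> simp at hgt ⊢ <;> omega
    obtain ⟨c, hc⟩ := exists_prime_orderOf_dvd_card' (G := C) 2 (by rw [hi, hi2']; exact dvd_mul_left _ _)
    have hcG : orderOf (c : G) = 2 := by rw [Subgroup.orderOf_coe, hc]
    have hc1 : (c : G) ≠ 1 := fun h => by rw [h, orderOf_one] at hcG; omega
    have hr : nfix Ω (c : G) = 1 := by
      rw [nfix, card_eq_one]
      refine ⟨α, eq_singleton_iff_unique_mem.2 ⟨by simp [hCα c c.2], fun w hw => ?_⟩⟩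
      by_contra hne
      exact hc1 (hsemi c c.2 w hne (mem_filter.1 hw).2)
    obtain ⟨k, -, hk, hsign⟩ := involution_type (Ω := Ω) hcG
    rw [heven, hr, hΩ] at *
    have hkq : k = q := by omega
    rw [hkq, Odd.neg_one_pow (Nat.odd_iff.2 hq2)] at hsign
    exact absurd hsign (by decide)
  -- the automizer
  have hNC : N.subgroupOf N = ⊤ := Subgroup.subgroupOf_self _
  obtain ⟨f, hfq, hf⟩ : ∃ f, Nat.card N = q * f ∧ f ∣ q - 1 := by
    refine ⟨(Q : Subgroup G).relIndex N, ?_, ?_⟩
    · have h := ((Q : Subgroup G).subgroupOf N).card_mul_index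
      rw [Nat.card_congr (Subgroup.subgroupOfEquivOfLe (Subgroup.le_normalizer (H := (Q : Subgroup G)))).toEquiv,
        show Nat.card (Q : Subgroup G) = q from hQc] at h
      exact h.symm
    · have hker := Subgroup.normalizerMonoidHom_ker (H := (Q : Subgroup G))
      rw [hscQ.cent] at hker
      have h1 := Subgroup.index_ker (Subgroup.normalizerMonoidHom (Q : Subgroup G))
      rw [hker] at h1
      rw [Subgroup.relIndex, h1]
      refine (Subgroup.card_subgroup_dvd_card _).trans (dvd_of_eq ?_)
      haveI : IsCyclic (Q : Subgroup G) := isCyclic_of_prime_card hQc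
      rw [IsCyclic.card_mulAut, show Nat.card (Q : Subgroup G) = q from hQc, Nat.totient_prime hq.out]
  have hf1 : f ≠ 1 := by
    intro h1
    rw [h1, mul_one] at hfq
    have hNQ : N = (Q : Subgroup G) :=
      (Subgroup.eq_of_le_of_card_ge Subgroup.le_normalizer (by rw [hfq]; exact hQc.ge)).symm
    haveI : IsCyclic (Q : Subgroup G) := isCyclic_of_prime_card hQc
    have hK := MonoidHom.ker_transferSylow_isComplement' Q ((hNQ.le.trans hscQ.cent.ge :))
    have hmul := hK.card_mul_card
    rcases hsimple.eq_bot_or_eq_top_of_normal (MonoidHom.transferSylow Q ((hNQ.le.trans hscQ.cent.ge :))).ker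
      inferInstance with h | h <;> rw [h] at hmul
    · rw [Subgroup.card_bot, one_mul] at hmul
      refine hnoncomm fun x y => ?_
      haveI : Fact q.Prime := hq
      haveI := isCyclic_of_prime_card (α := G) (p := q) (hmul.symm.trans hQc)
      exact IsCyclic.isMulCommutative.is_comm.comm x y
    · rw [Subgroup.card_top, show Nat.card (Q : Subgroup G) = q from hQc] at hmul
      exact hq.out.ne_one ((mul_eq_left₀ Nat.card_pos.ne').1 hmul)
  obtain ⟨Nn, hNn⟩ := hf
  exact ⟨{ f := f, N := Nn, α := α, P := P₁, Q := Q, hpq := hpq, eleven := h11, hΩ := hΩ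
           faithful := inferInstance
           two := MulAction.is_two_pretransitive_iff.2 fun h h' => hC.two h h'
           simple := hsimple, linear := hlin, even := heven, scP := hscP, NP := hNP₁, fixP := hfixP
           scQ := hscQ, NQ := hfq, NQ_le := hNle, fixQ := hfixQ, hf := hNn.symm
           two_le_f := by
             have : f ≠ 0 := fun h => by rw [h, mul_zero] at hfq; exact Nat.card_pos.ne' hfq
             omega }⟩

end Cfsg.Agent.PrimeTwoQ
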