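import Cfsg.Agent.S0494
import Cfsg.Agent.S0495
import Cfsg.Agent.S0678
import Cfsg.Agent.S0679
import Cfsg.Agent.Lib.PSL2.Basic
import Mathlib.GroupTheory.GroupAction.MultipleTransitivity
import Mathlib.GroupTheory.SpecificGroups.Alternating

/-!
# Degrees 5, 7, 11 and the alternating case
-/

set_option autoImplicit false
set_option linter.unusedSectionVars false
set_option linter.style.haveILetI false

namespace Cfsg.Agent.PrimeTwoQ

open Cfsg Cfsg.Agent MulAction

variable {G Ω : Type*} [Group G] [Finite G] [MulAction G Ω] [Fintype Ω] [DecidableEq Ω]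

/-- Multiple transitivity of the image passes to the group. -/
theorem four_of_range
    (h : IsMultiplyPretransitive (MulAction.toPermHom G Ω).range Ω 4) :
    IsMultiplyPretransitive G Ω 4 := by
  rw [isMultiplyPretransitive_iff] at h ⊢
  intro x y
  obtain ⟨⟨_, g, rfl⟩, hg⟩ := h x y
  exact ⟨g, by rw [← hg]; rfl⟩

/-- Above the alternating group. -/
theorem four_of_alternating (h6 : 6 ≤ Nat.card Ω)
    (h : alternatingGroup Ω ≤ (MulAction.toPermHom G Ω).range) :
    IsMultiplyPretransitive G Ω 4 := by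
  haveI := alternatingGroup.isMultiplyPretransitive Ω
  have hA : IsMultiplyPretransitive (alternatingGroup Ω) Ω 4 :=
    isMultiplyPretransitive_of_le (n := Nat.card Ω - 2) (by omega) (by omega)
  refine four_of_range ?_
  rw [isMultiplyPretransitive_iff] at hA ⊢
  intro x y
  obtain ⟨⟨g, hg⟩, hgx⟩ := hA x y
  exact ⟨⟨g, h hg⟩, hgx⟩

variable [FaithfulSMul G Ω]

theorem range_iso : Nonempty (G ≃* (MulAction.toPermHom G Ω).range) :=
  ⟨MonoidHom.ofInjective (MulAction.toPerm_injective (α := G) (β := Ω))⟩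

theorem range_pretransitive (ht : IsPretransitive G Ω) :
    IsPretransitive (MulAction.toPermHom G Ω).range Ω := ⟨fun a b => by
  obtain ⟨g, hg⟩ := ht.exists_smul_eq a b
  exact ⟨⟨_, g, rfl⟩, hg⟩⟩

theorem range_not_solvable (hins : ¬ Group.IsSolvable G) :
    ¬ Group.IsSolvable (MulAction.toPermHom G Ω).range := fun h => by
  obtain ⟨e⟩ := range_iso (G := G) (Ω := Ω)
  exact hins (Group.isSolvable_of_isSolvable_injective (f := e.toMonoidHom) e.injective)

theorem degree_seven (hΩ : Fintype.card Ω = 7) (ht : IsPretransitive G Ω)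
    (hins : ¬ Group.IsSolvable G) :
    IsMultiplyPretransitive G Ω 4 ∨
      Nonempty (G ≃* Matrix.ProjectiveSpecialLinearGroup (Fin 2) (ZMod 7)) := by
  by_cases hA : alternatingGroup Ω ≤ (MulAction.toPermHom G Ω).range
  · exact Or.inl (four_of_alternating (by rw [Nat.card_eq_fintype_card, hΩ]; norm_num) hA)
  haveI := range_pretransitive (G := G) ht
  obtain ⟨hc, hs⟩ := S0678.result hΩ _ (range_not_solvable (G := G) hins) hA
  haveI := hs
  haveI : Fact (Nat.Prime 7) := ⟨by norm_num⟩
  obtain ⟨e⟩ := S0495.result hc (F := ZMod 7) (ZMod.card 7)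
  obtain ⟨e'⟩ := range_iso (G := G) (Ω := Ω)
  exact Or.inr ⟨e'.trans e⟩

theorem degree_eleven (hΩ : Fintype.card Ω = 11) (ht : IsPretransitive G Ω)
    (hins : ¬ Group.IsSolvable G) :
    IsMultiplyPretransitive G Ω 4 ∨
      Nonempty (G ≃* Matrix.ProjectiveSpecialLinearGroup (Fin 2) (ZMod 11)) := by
  by_cases hA : alternatingGroup Ω ≤ (MulAction.toPermHom G Ω).range
  · exact Or.inl (four_of_alternating (by rw [Nat.card_eq_fintype_card, hΩ]; norm_num) hA)
  haveI := range_pretransitive (G := G) ht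
  rcases S0679.result hΩ _ (range_not_solvable (G := G) hins) hA with h | h
  · exact Or.inl (four_of_range h.1)
  · obtain ⟨e⟩ := h
    obtain ⟨e'⟩ := range_iso (G := G) (Ω := Ω)
    exact Or.inr ⟨e'.trans e⟩

theorem degree_five [Fact (Nat.Prime 5)] (hΩ : Fintype.card Ω = 5) (hins : ¬ Group.IsSolvable G)
    (P : Sylow 5 G) (hN : Nat.card ↥(Subgroup.normalizer ((P : Subgroup G) : Set G)) = 10) :
    Nonempty (G ≃* Matrix.ProjectiveSpecialLinearGroup (Fin 2) (ZMod 5)) := by
  obtain ⟨e⟩ := range_iso (G := G) (Ω := Ω)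
  set R := (MulAction.toPermHom G Ω).range
  have hperm : Nat.card (Equiv.Perm Ω) = 120 := by
    rw [Nat.card_perm, Nat.card_eq_fintype_card, hΩ]; rfl
  have hGR : Nat.card G = Nat.card R := Nat.card_congr e.toEquiv
  have hG : Nat.card G = 10 * Nat.card (Sylow 5 G) := by
    rw [← hN, Sylow.card_eq_index_normalizer P]; exact (Subgroup.card_mul_index _).symm
  have hdvd : Nat.card G ∣ 120 := by
    rw [hGR, ← hperm]; exact Subgroup.card_subgroup_dvd_card R
  have hmod : Nat.card (Sylow 5 G) % 5 = 1 := card_sylow_modEq_one (p := 5) (G := G)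
  have h60 : Nat.card G = 60 := by
    have h12 : Nat.card (Sylow 5 G) ∣ 12 :=
      Nat.dvd_of_mul_dvd_mul_left (by norm_num : 0 < 10) (by rw [← hG]; exact hdvd)
    have hle := Nat.le_of_dvd (by norm_num) h12
    have hne1 : Nat.card (Sylow 5 G) ≠ 1 := fun h1 => hins
      (CharInt.isSolvable_of_card_eq Nat.prime_two (Fact.out : Nat.Prime 5) (a := 1) (b := 1)
        (by rw [hG, h1]; norm_num))
    interval_cases (Nat.card (Sylow 5 G)) <;> omega
  have hidx : R.index = 2 := by
    have h := R.card_mul_index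
    rw [← hGR, h60, hperm] at h
    omega
  have hR : R = alternatingGroup Ω := Equiv.Perm.eq_alternatingGroup_of_index_eq_two hidx
  haveI : IsSimpleGroup (alternatingGroup Ω) :=
    alternatingGroup.isSimpleGroup (by rw [Nat.card_eq_fintype_card, hΩ])
  have e1 : G ≃* alternatingGroup Ω := e.trans (MulEquiv.subgroupCongr hR)
  haveI : IsSimpleGroup G := e1.isSimpleGroup
  haveI := PSL2.psl_isSimpleGroup (F := ZMod 5) (by rw [ZMod.card]; norm_num)
  obtain ⟨a⟩ := S0494.result h60
  obtain ⟨b⟩ := S0494.result (G := Matrix.ProjectiveSpecialLinearGroup (Fin 2) (ZMod 5)) (by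
    rw [PSL2.card_PSL, ZMod.card]; norm_num)
  exact ⟨a.trans b.symm⟩

end Cfsg.Agent.PrimeTwoQ
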