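import Cfsg.Agent.Lib.PrimeTwoQ.Shape
import Cfsg.Agent.Lib.CharInt.Basic
import Cfsg.Agent.Lib.Char.Linear

/-!
# Small tools: constituents, residues, kernels
-/

set_option autoImplicit false
set_option linter.unusedSectionVars false
set_option linter.style.haveILetI false

namespace Cfsg.Agent.PrimeTwoQ

open Cfsg Cfsg.Agent Finset
open scoped Classical ComplexConjugate

universe u

variable {H : Type u} [Group H] [Fintype H]

theorem sum_mul_degree {F : H → ℂ} {M : IrrCharacter H → ℕ} (hM : F = ∑ ψ, (M ψ : ℂ) • ψ.1) {D : ℕ}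
    (hD : F 1 = D) : ∑ ψ, M ψ * Char.degree ψ = D := by
  have h := congrFun hM 1
  rw [hD, Finset.sum_apply] at h
  simp only [Pi.smul_apply, smul_eq_mul, Char.apply_one_eq_degree] at h
  exact_mod_cast h.symm

theorem mul_degree_le {F : H → ℂ} {M : IrrCharacter H → ℕ} (hM : F = ∑ ψ, (M ψ : ℂ) • ψ.1) {D : ℕ}
    (hD : F 1 = D) (ψ : IrrCharacter H) : M ψ * Char.degree ψ ≤ D := by
  rw [← sum_mul_degree hM hD]
  exact Finset.single_le_sum (f := fun φ => M φ * Char.degree φ) (fun _ _ => Nat.zero_le _) (mem_univ ψ)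

/-- Too little room besides one constituent: the character is irreducible. -/
theorem eq_irr_of_exhaust {F : H → ℂ} {M : IrrCharacter H → ℕ} (hM : F = ∑ ψ, (M ψ : ℂ) • ψ.1)
    {D B : ℕ} (hD : F 1 = D) (hB : ∀ φ : IrrCharacter H, M φ ≠ 0 → B ≤ Char.degree φ)
    {ψ : IrrCharacter H} (hψ : M ψ ≠ 0) (h : D < Char.degree ψ + B) :
    F = ψ.1 ∧ D = Char.degree ψ ∧ ∀ φ, φ ≠ ψ → M φ = 0 := by
  have hs := sum_mul_degree hM hD
  rw [← Finset.add_sum_erase _ _ (mem_univ ψ)] at hs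
  have h0 : ∀ φ, φ ≠ ψ → M φ = 0 := by
    intro φ hφ
    by_contra hne
    have h1 : M φ * Char.degree φ ≤ ∑ x ∈ univ.erase ψ, M x * Char.degree x :=
      Finset.single_le_sum (f := fun x => M x * Char.degree x) (fun _ _ => Nat.zero_le _)
        (mem_erase.2 ⟨hφ, mem_univ _⟩)
    have h2 : Char.degree φ ≤ M φ * Char.degree φ := Nat.le_mul_of_pos_left _ (Nat.pos_of_ne_zero hne)
    have h3 : Char.degree ψ ≤ M ψ * Char.degree ψ := Nat.le_mul_of_pos_left _ (Nat.pos_of_ne_zero hψ)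
    have := hB φ hne
    omega
  rw [Finset.sum_eq_zero fun x hx => by rw [h0 x (ne_of_mem_erase hx), zero_mul], add_zero] at hs
  have h1 : M ψ = 1 := by
    by_contra hne
    have : 2 * Char.degree ψ ≤ M ψ * Char.degree ψ := Nat.mul_le_mul_right _ (by omega)
    have := hB ψ hψ
    omega
  refine ⟨?_, by rw [h1, one_mul] at hs; exact hs.symm, h0⟩
  rw [hM, Finset.sum_eq_single ψ (fun x _ hx => by rw [h0 x hx, Nat.cast_zero, zero_smul]) (by simp),
    h1, Nat.cast_one, one_smul]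

theorem exists_ne_zero_of_decomp {F : H → ℂ} {M : IrrCharacter H → ℕ}
    (hM : F = ∑ ψ, (M ψ : ℂ) • ψ.1) {D : ℕ} (hD : F 1 = D) (hD0 : D ≠ 0) : ∃ ψ, M ψ ≠ 0 := by
  by_contra h
  push Not at h
  exact hD0 (by rw [← sum_mul_degree hM hD]; simp [h])

/-- Joining congruences modulo `p = 2 q + 1` and modulo `q`. -/
theorem exists_coeff {p q : ℕ} (hpq : p = 2 * q + 1) {d a b : ℤ} (h1 : d ≡ a [ZMOD p])
    (h2 : d ≡ b [ZMOD q]) : ∃ j : ℤ, d = (p : ℤ) * j + a ∧ (q : ℤ) ∣ j + a - b := by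
  obtain ⟨j, hj⟩ := Int.modEq_iff_dvd.1 h1.symm
  refine ⟨j, by linear_combination hj, ?_⟩
  obtain ⟨i, hi⟩ := Int.modEq_iff_dvd.1 h2.symm
  refine ⟨i - 2 * j, ?_⟩
  have hp : (p : ℤ) = 2 * q + 1 := by exact_mod_cast hpq
  linear_combination hi - hj - j * hp

theorem eq_zero_of_dvd_of_lt {q x : ℤ} (h : q ∣ x) (h1 : -q < x) (h2 : x < q) : x = 0 := by
  refine Int.eq_zero_of_abs_lt_dvd h ?_
  rw [abs_lt]
  exact ⟨h1, h2⟩

/-- An element in the kernel of a character is in the kernel of each constituent. -/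
theorem apply_eq_of_kernel {F : H → ℂ} {M : IrrCharacter H → ℕ} (hM : F = ∑ ψ, (M ψ : ℂ) • ψ.1)
    {g : H} (hg : F g = F 1) {ψ : IrrCharacter H} (hψ : M ψ ≠ 0) : ψ.1 g = ψ.1 1 := by
  have hle : ∀ φ : IrrCharacter H, ‖φ.1 g‖ ≤ Char.degree φ := fun φ => by
    have := CharInt.norm_char_le (Char.irr_isCharacter φ) g
    rwa [Char.apply_one_eq_degree, Complex.norm_natCast] at this
  have hre : ∀ φ : IrrCharacter H, (φ.1 g).re ≤ Char.degree φ := fun φ =>
    (Complex.re_le_norm _).trans (hle φ)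
  have h := congrFun hM g
  rw [hg, congrFun hM 1, Finset.sum_apply, Finset.sum_apply] at h
  have h' := congrArg Complex.re h
  simp only [Complex.re_sum, Pi.smul_apply, smul_eq_mul, Complex.mul_re, Complex.natCast_re,
    Complex.natCast_im, zero_mul, sub_zero, Char.apply_one_eq_degree] at h'
  have h2 := (Finset.sum_eq_sum_iff_of_le (fun φ _ => mul_le_mul_of_nonneg_left (hre φ)
    (Nat.cast_nonneg (M φ)))).1 h'.symm ψ (mem_univ _)
  have h3 : (ψ.1 g).re = Char.degree ψ := mul_left_cancel₀ (Nat.cast_ne_zero.2 hψ) h2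
  have h4 : ‖ψ.1 g‖ = Char.degree ψ := le_antisymm (hle ψ) (h3 ▸ Complex.re_le_norm _)
  have h5 : (ψ.1 g).im = 0 := by
    have := Complex.re_eq_norm.1 (show (ψ.1 g).re = ‖ψ.1 g‖ by rw [h3, h4])
    exact (Complex.nonneg_iff.1 this).2.symm
  rw [Char.apply_one_eq_degree]
  exact Complex.ext (by rw [h3, Complex.natCast_re]) (by rw [h5, Complex.natCast_im])

/-- An irreducible character whose representation has commutative image has degree one. -/
theorem degree_eq_one_of_comm {n : ℕ} (ρ : Representation ℂ H (Fin n → ℂ)) (hρ : ρ.IsIrreducible)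
    (hc : ∀ a b, ρ a * ρ b = ρ b * ρ a) : n = 1 := by
  haveI := hρ
  have hsc : ∀ g, ∃ a : ℂ, ρ g = a • (1 : Module.End ℂ (Fin n → ℂ)) := by
    intro g
    let φ : Representation.IntertwiningMap ρ ρ :=
      LinearMap.intertwiningMap_of_isIntertwiningMap ρ ρ (ρ g) (fun h x => by
        exact LinearMap.congr_fun (hc g h) x)
    obtain ⟨a, ha⟩ :=
      (Representation.IsIrreducible.algebraMap_intertwiningMap_bijective_of_isAlgClosed (ρ := ρ)).2 φ
    refine ⟨a, LinearMap.ext fun x => ?_⟩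
    have : (algebraMap ℂ (Representation.IntertwiningMap ρ ρ) a) x = φ x := by rw [ha]
    rw [show φ x = ρ g x from rfl] at this
    rw [← this, Algebra.algebraMap_eq_smul_one]
    rfl
  have h1 := Char.classInner_irr_self (Char.isIrrCharacter_character ρ hρ)
  have hterm : ∀ g, ρ.character g * conj (ρ.character g) = ((n : ℂ)) ^ 2 := fun g => by
    obtain ⟨a, ha⟩ := hsc g
    rw [Complex.mul_conj', (CharInt.norm_eq_iff_scalar ρ g).2 ⟨a, ha⟩, ρ.char_one]
    simp
  rw [classInner, Finset.sum_congr rfl (fun g _ => hterm g), sum_const, card_univ, nsmul_eq_mul,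
    ← Nat.card_eq_fintype_card, ← mul_assoc, inv_mul_cancel₀ Char.card_ne_zero, one_mul] at h1
  have h2 : n ^ 2 = 1 := by exact_mod_cast h1
  exact (pow_eq_one_iff.1 h2).resolve_right two_ne_zero

variable {ℓ m : ℕ} [hl : Fact ℓ.Prime]

/-- Members of the exceptional family at one prime are not exceptional at another. -/
theorem not_both {ℓ' m' : ℕ} [Fact ℓ'.Prime] {Q Q' : Subgroup H} (S : Shp ℓ m Q) (S' : Shp ℓ' m' Q')
    (hm' : 2 ≤ m') (hQ : ∀ y ∈ Q, y ≠ 1 → ¬ ℓ' ∣ orderOf y) {θ : IrrCharacter H} (hθ : θ ∈ S.Y) :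
    θ ∉ S'.Y := by
  intro h'
  obtain ⟨h2, -⟩ := S.big ⟨θ, hθ⟩
  obtain ⟨θ', hθ', hne⟩ := Finset.exists_mem_ne (by omega : 1 < S.Y.card) θ
  have h'' : θ' ∈ S'.Y := S'.mem_of_modEq hm' h' (by rw [S.deg_eq θ' hθ' θ hθ])
  refine hne (Subtype.ext (funext fun g => ?_))
  by_cases hg : ℓ ∣ orderOf g
  · obtain ⟨y, hy, hy1, hgy⟩ := S.sing g hg
    rw [Char.IsClassFunction.apply_of_isConj (Char.IsCharacter.isClassFunction (Char.irr_isCharacter θ')) hgy,
      Char.IsClassFunction.apply_of_isConj (Char.IsCharacter.isClassFunction (Char.irr_isCharacter θ)) hgy]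
    exact S'.agree θ' h'' θ h' y (hQ y hy hy1)
  · exact S.agree θ' hθ' θ hθ g hg

end Cfsg.Agent.PrimeTwoQ
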