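import Cfsg.Agent.Lib.PrimeTwoQ.Colour
import Cfsg.Agent.Lib.PrimeTwoQ.Kernel
import Cfsg.Agent.Lib.PrimeTwoQ.Tools
import Mathlib.Analysis.Complex.Polynomial.Basic

/-!
# The strongly regular graph on the punctured set

The two non-principal eigenvalues are `e` and `-1 - e` with `q = 2 e² + 2 e + 1`, their trace
characters are irreducible of degrees `q` and `q - 1`.
-/

set_option autoImplicit false
set_option linter.unusedSectionVars false
set_option linter.style.haveILetI false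

namespace Cfsg.Agent.PrimeTwoQ

open Cfsg Cfsg.Agent MulAction Finset Matrix
open scoped Classical ComplexConjugate

universe u v

theorem trM_one' {H : Type u} [Group H] [Fintype H] {S : Type v} [Fintype S] [DecidableEq S]
    [MulAction H S] (g : H) : trM (1 : Matrix S S ℂ) g = (nfix S g : ℂ) := by
  simp [trM, nfix, Matrix.one_apply, eq_comm]

/-- The idempotent of an eigenvalue. -/
theorem eig_idem {S : Type*} [Fintype S] [DecidableEq S] {A E₀ : Matrix S S ℂ} {r s k l u w : ℂ}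
    (hAE : A * E₀ = k • E₀) (hEA : E₀ * A = k • E₀) (hEE : E₀ * E₀ = E₀)
    (hAA : A * A = (k - u) • (1 : Matrix S S ℂ) + (l - u) • A + w • E₀)
    (hsum : r + s = l - u) (hprod : r * s = u - k) (hw : w = (k - r) * (k - s)) :
    (A - s • (1 : Matrix S S ℂ) - (k - s) • E₀) * (A - s • (1 : Matrix S S ℂ) - (k - s) • E₀) =
      (r - s) • (A - s • (1 : Matrix S S ℂ) - (k - s) • E₀) := by
  simp only [sub_mul, mul_sub, smul_mul_assoc, mul_smul_comm, one_mul, mul_one, hAE, hEA, hEE]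
  rw [hAA, hw, ← hsum, show k - u = -(r * s) by linear_combination hprod]
  match_scalars <;> ring

variable {G : Type u} [Group G] [Fintype G] {Ω : Type v} [Fintype Ω] [MulAction G Ω]
  {p q : ℕ} [hp : Fact p.Prime] [hq : Fact q.Prime]

namespace Col

variable (C : Col G Ω p q)

/-- The adjacency kernel. -/
noncomputable def KA : Ω → Ω → Ω → ℂ := fun a b z => if C.R a b z then 1 else 0

end Col

/-- The identity kernel. -/
noncomputable def K1 (Ω : Type v) : Ω → Ω → Ω → ℂ := fun _ b z => if b = z then 1 else 0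

/-- The averaging kernel. -/
noncomputable def K0 (Ω : Type v) (q : ℕ) : Ω → Ω → Ω → ℂ := fun _ _ _ => (2 * (q : ℂ))⁻¹

/-- The kernel of the idempotent of `r`. -/
noncomputable def Col.KP (C : Col G Ω p q) (r s : ℂ) : Ω → Ω → Ω → ℂ := fun a b z =>
  (r - s)⁻¹ * (C.KA a b z - s * K1 Ω a b z - ((C.k : ℂ) - s) * K0 Ω q a b z)

namespace Col

variable (C : Col G Ω p q)

theorem KA_inv : KInv G C.KA := fun g a b z => by simp only [KA, C.inv]

theorem K1_inv : KInv G (K1 Ω) := fun g a b z => by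
  simp only [K1, (MulAction.injective g).eq_iff]

theorem K0_inv : KInv G (K0 Ω q) := fun _ _ _ _ => rfl

theorem KP_inv (r s : ℂ) : KInv G (C.KP r s) := fun g a b z => by
  simp only [KP, C.KA_inv g, Col.K1_inv (G := G) g a b z, K0]

theorem loc_K1 (a : Ω) : loc (G := G) a (K1 Ω) = 1 := by
  ext b z
  by_cases h : b = z
  · subst h; simp [loc, K1]
  · rw [Matrix.one_apply_ne h]
    exact if_neg fun e => h (Subtype.ext e)

theorem loc_KP (a : Ω) (r s : ℂ) : loc (G := G) a (C.KP r s) =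
    (r - s)⁻¹ • (loc a C.KA - s • (1 : Matrix (SubMulAction.ofStabilizer G a) (SubMulAction.ofStabilizer G a) ℂ) -
      ((C.k : ℂ) - s) • loc a (K0 Ω q)) := by
  rw [← loc_K1 (G := G) a]
  rfl

theorem not_self (a b : Ω) : ¬ C.R a b b ∧ ¬ C.R a a b ∧ ¬ C.R a b a :=
  ⟨fun h => (C.ne h).2.2 rfl, fun h => (C.ne h).1 rfl, fun h => (C.ne h).2.1 rfl⟩

variable (c : Ctx G Ω p q)
include c

omit C in
theorem card_punct (a : Ω) : Fintype.card (SubMulAction.ofStabilizer G a) = 2 * q := by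
  rw [← Nat.card_eq_fintype_card, show Nat.card (SubMulAction.ofStabilizer G a) =
    Nat.card {x : Ω // x ≠ a} from rfl, Nat.card_eq_fintype_card, Fintype.card_subtype_compl,
    Fintype.card_subtype_eq, c.hΩ, c.hpq]
  omega

theorem sum_KA (a b : Ω) (hab : a ≠ b) :
    ∑ z : SubMulAction.ofStabilizer G a, C.KA a b z = (C.k : ℂ) := by
  rw [sum_ofStabilizer (G := G) a (fun z => C.KA a b z), ← C.count hab, ← sum_filter]
  simp only [KA, sum_boole, filter_filter]
  congr 2
  ext z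
  simp only [mem_filter, mem_univ, true_and]
  exact ⟨fun h => h.2, fun h => ⟨(C.ne h).2.1.symm, h⟩⟩

theorem loc_rel (a : Ω) :
    loc (G := G) a C.KA * loc a (K0 Ω q) = (C.k : ℂ) • loc a (K0 Ω q) ∧
    loc (G := G) a (K0 Ω q) * loc a C.KA = (C.k : ℂ) • loc a (K0 Ω q) ∧
    loc (G := G) a (K0 Ω q) * loc a (K0 Ω q) = loc a (K0 Ω q) ∧
    loc (G := G) a C.KA * loc a C.KA =
      ((C.k : ℂ) - C.mu) • (1 : Matrix (SubMulAction.ofStabilizer G a) (SubMulAction.ofStabilizer G a) ℂ) +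
        ((C.lam : ℂ) - C.mu) • loc a C.KA + (2 * (q : ℂ) * C.mu) • loc a (K0 Ω q) := by
  have hq0 : (2 * (q : ℂ)) ≠ 0 := mul_ne_zero two_ne_zero (Nat.cast_ne_zero.2 hq.out.ne_zero)
  have hsym : ∀ b z, C.KA a b z = C.KA a z b := fun b z => by
    simp only [KA]
    exact if_congr ⟨C.symm₂, C.symm₂⟩ rfl rfl
  refine ⟨?_, ?_, ?_, ?_⟩
  · ext b z
    simp only [Matrix.mul_apply, loc, K0, Matrix.smul_apply, smul_eq_mul, ← sum_mul,
      C.sum_KA c a b (Ne.symm b.2 : a ≠ (b : Ω))]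
  · ext b z
    simp only [Matrix.mul_apply, loc, K0, Matrix.smul_apply, smul_eq_mul, ← mul_sum, hsym _ (z : Ω),
      C.sum_KA c a z (Ne.symm z.2 : a ≠ (z : Ω)), mul_comm]
  · ext b z
    simp only [Matrix.mul_apply, loc, K0, sum_const, card_univ, card_punct c, nsmul_eq_mul]
    push_cast
    field_simp
  · ext b z
    have hba : (b : Ω) ≠ a := b.2
    have hza : (z : Ω) ≠ a := z.2
    have hsum : ∑ u : SubMulAction.ofStabilizer G a, C.KA a b u * C.KA a u z =
        ((univ.filter fun w => C.R a b w ∧ C.R a z w).card : ℂ) := by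
      rw [sum_ofStabilizer (G := G) a (fun u => C.KA a b u * C.KA a u z), ← sum_filter]
      simp only [KA, ← ite_and, ite_mul, one_mul, zero_mul, sum_boole, filter_filter]
      congr 2
      ext w
      simp only [mem_filter, mem_univ, true_and]
      exact ⟨fun h => ⟨h.2.1, C.symm₂ h.2.2⟩, fun h => ⟨(C.ne h.1).2.1.symm, h.1, C.symm₂ h.2⟩⟩
    simp only [Matrix.mul_apply, loc, Matrix.add_apply, Matrix.smul_apply, smul_eq_mul, K0,
      Matrix.one_apply, hsum]
    rw [show 2 * (q : ℂ) * C.mu * (2 * (q : ℂ))⁻¹ = C.mu by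
      rw [mul_comm (2 * (q : ℂ)) (C.mu : ℂ), mul_assoc, mul_inv_cancel₀ hq0, mul_one]]
    by_cases he : b = z
    · subst he
      simp only [and_self, C.count hba.symm, KA, (C.not_self a b).1, if_false, if_true]
      ring
    · have he' : (z : Ω) ≠ b := fun h => he (Subtype.ext h.symm)
      rw [C.common hba.symm hza he', if_neg he]
      by_cases hR : C.R a b z
      · simp only [KA, if_pos hR]; ring
      · simp only [KA, if_neg hR]; ring

theorem row_identity : (C.k : ℂ) ^ 2 =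
    ((C.k : ℂ) - C.mu) + ((C.lam : ℂ) - C.mu) * C.k + 2 * (q : ℂ) * C.mu := by
  obtain ⟨h1, -, h3, h4⟩ := C.loc_rel c c.α
  have h := congrArg (· * loc (G := G) c.α (K0 Ω q)) h4
  simp only [add_mul, mul_assoc, smul_mul_assoc, one_mul, mul_smul_comm, h1, h3, smul_smul] at h
  obtain ⟨b, hb⟩ : ∃ b : Ω, b ≠ c.α := Fintype.exists_ne_of_one_lt_card
    (by rw [c.hΩ]; exact hp.out.one_lt) c.α
  have h' := congrFun (congrFun h ⟨b, hb⟩) ⟨b, hb⟩
  simp only [Matrix.smul_apply, Matrix.add_apply, loc, K0, smul_eq_mul, ← add_mul] at h'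
  have hq0 : (2 * (q : ℂ))⁻¹ ≠ 0 :=
    inv_ne_zero (mul_ne_zero two_ne_zero (Nat.cast_ne_zero.2 hq.out.ne_zero))
  have := mul_right_cancel₀ hq0 h'
  linear_combination this

theorem loc_idem (a : Ω) {r s : ℂ} (hrs : r ≠ s) (hsum : r + s = (C.lam : ℂ) - C.mu)
    (hprod : r * s = (C.mu : ℂ) - C.k) :
    loc (G := G) a (C.KP r s) * loc a (C.KP r s) = loc a (C.KP r s) := by
  obtain ⟨h1, h2, h3, h4⟩ := C.loc_rel c a
  have hw : 2 * (q : ℂ) * C.mu = ((C.k : ℂ) - r) * ((C.k : ℂ) - s) := by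
    linear_combination -C.row_identity c + (C.k : ℂ) * hsum - hprod
  rw [C.loc_KP, smul_mul_smul_comm, eig_idem h1 h2 h3 h4 hsum hprod hw, smul_smul]
  congr 1
  rw [mul_assoc, inv_mul_cancel₀ (sub_ne_zero.2 hrs), mul_one]

theorem trace_KP {r s : ℂ} :
    (loc (G := G) c.α (C.KP r s)).trace = (r - s)⁻¹ * (-(2 * (q : ℂ) * s) - ((C.k : ℂ) - s)) := by
  have hq0 : (2 * (q : ℂ)) ≠ 0 := mul_ne_zero two_ne_zero (Nat.cast_ne_zero.2 hq.out.ne_zero)
  rw [C.loc_KP, Matrix.trace_smul, Matrix.trace_sub, Matrix.trace_sub, Matrix.trace_smul,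
    Matrix.trace_smul, Matrix.trace_one, card_punct c]
  simp only [Matrix.trace, Matrix.diag_apply, loc, KA, K0, (C.not_self _ _).1, if_false,
    sum_const_zero, sum_const, card_univ, card_punct c, nsmul_eq_mul, smul_eq_mul]
  push_cast
  rw [mul_inv_cancel₀ hq0]
  ring

omit c in
theorem trM_K0 (a : Ω) (h : stabilizer G a) (hc : Fintype.card (SubMulAction.ofStabilizer G a) = 2 * q) :
    trM (loc (G := G) a (K0 Ω q)) h = 1 := by
  have hq0 : (2 * (q : ℂ)) ≠ 0 := mul_ne_zero two_ne_zero (Nat.cast_ne_zero.2 hq.out.ne_zero)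
  simp only [trM, loc, K0, sum_const, card_univ, hc, nsmul_eq_mul]
  push_cast
  exact mul_inv_cancel₀ hq0

theorem trM_add_swap {r s : ℂ} (hrs : r ≠ s) (h : stabilizer G c.α) :
    trM (loc (G := G) c.α (C.KP r s)) h + trM (loc (G := G) c.α (C.KP s r)) h =
      (nfix Ω (h : G) : ℂ) - 2 := by
  have h1 : loc (G := G) c.α (C.KP r s) + loc c.α (C.KP s r) =
      (1 : Matrix (SubMulAction.ofStabilizer G c.α) (SubMulAction.ofStabilizer G c.α) ℂ) - loc c.α (K0 Ω q) := by
    rw [C.loc_KP, C.loc_KP, show (s - r)⁻¹ = -(r - s)⁻¹ by rw [← neg_sub r s, inv_neg]]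
    match_scalars <;> field_simp [sub_ne_zero.2 hrs] <;> ring
  rw [← trM_add, h1, trM_sub, trM_one', Col.trM_K0 _ _ (card_punct c _),
    show nfix Ω (h : G) = nfix (SubMulAction.ofStabilizer G c.α) h + 1 from ?_]
  · push_cast; ring
  · rw [nfix, nfix, show (univ.filter fun x : Ω => (h : G) • x = x) =
      insert c.α ((univ.filter fun x : SubMulAction.ofStabilizer G c.α => h • x = x).image Subtype.val) from ?_,
      card_insert_of_notMem, card_image_of_injective _ Subtype.val_injective]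
    · congr 2; ext; simp
    · intro hmem
      obtain ⟨y, -, hy⟩ := mem_image.1 hmem
      exact y.2 hy
    · ext x
      simp only [mem_filter, mem_univ, true_and, mem_insert, mem_image]
      constructor
      · intro hx
        by_cases hxa : x = c.α
        · exact Or.inl hxa
        · exact Or.inr ⟨⟨x, hxa⟩, Subtype.ext hx, rfl⟩
      · rintro (rfl | ⟨y, hy, rfl⟩)
        · exact h.2
        · exact congrArg Subtype.val hy

include C in
theorem sum_punct :
    ∑ h : stabilizer G c.α, (nfix (SubMulAction.ofStabilizer G c.α) h : ℂ) =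
        (Nat.card (stabilizer G c.α) : ℂ) ∧
    ∑ h : stabilizer G c.α, (nfix (SubMulAction.ofStabilizer G c.α) h : ℂ) ^ 2 =
        3 * (Nat.card (stabilizer G c.α) : ℂ) := by
  have htr : IsPretransitive (stabilizer G c.α) (SubMulAction.ofStabilizer G c.α) := ⟨fun x y => by
    obtain ⟨g, hg, hg'⟩ := c.exists_pair (Ne.symm x.2 : c.α ≠ (x : Ω)) (Ne.symm y.2 : c.α ≠ (y : Ω))
    exact ⟨⟨g, hg⟩, Subtype.ext hg'⟩⟩
  haveI := htr
  refine ⟨?_, ?_⟩
  · have h := sum_descFactorial_eq (H := stabilizer G c.α) (S := SubMulAction.ofStabilizer G c.α) (k := 1)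
      (by rw [card_punct c]; have := c.eleven; omega) ((is_one_pretransitive_iff).2 htr)
    simp only [Nat.descFactorial_one] at h
    exact_mod_cast h
  let K : (SubMulAction.ofStabilizer G c.α) × (SubMulAction.ofStabilizer G c.α) → (SubMulAction.ofStabilizer G c.α) × (SubMulAction.ofStabilizer G c.α) → ℂ := fun w w' => if w' = w then 1 else 0
  have h1 : ∀ h : (stabilizer G c.α), (nfix (SubMulAction.ofStabilizer G c.α) h : ℂ) ^ 2 = ∑ w : (SubMulAction.ofStabilizer G c.α) × (SubMulAction.ofStabilizer G c.α), K w (h • w) := fun h => by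
    rw [sum_boole, sq, nfix, ← Nat.cast_mul, ← card_product]
    congr 2
    ext w
    simp [Prod.ext_iff]
  obtain ⟨b, hb⟩ : ∃ b : Ω, b ≠ c.α := Fintype.exists_ne_of_one_lt_card
    (by rw [c.hΩ]; exact hp.out.one_lt) c.α
  obtain ⟨⟨z, hz⟩, w, hwa, hwb, hw⟩ := C.ex hb.symm
  let P : Fin 3 → Finset ((SubMulAction.ofStabilizer G c.α) × (SubMulAction.ofStabilizer G c.α)) :=
    ![univ.filter fun w => w.1 = w.2, univ.filter fun w => C.R c.α w.1 w.2,
      univ.filter fun w => w.1 ≠ w.2 ∧ ¬ C.R c.α w.1 w.2]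
  have hsplit : ∀ h : (stabilizer G c.α), ∑ w : (SubMulAction.ofStabilizer G c.α) × (SubMulAction.ofStabilizer G c.α), K w (h • w) = ∑ i, ∑ w ∈ P i, K w (h • w) := fun h => by
    simp only [Fin.sum_univ_three, P, Matrix.cons_val_zero, Matrix.cons_val_one, Matrix.cons_val_two]
    rw [← Finset.sum_filter_add_sum_filter_not univ (fun w : (SubMulAction.ofStabilizer G c.α) × (SubMulAction.ofStabilizer G c.α) => w.1 = w.2), add_assoc]
    congr 1
    rw [← Finset.sum_filter_add_sum_filter_not (univ.filter fun w : (SubMulAction.ofStabilizer G c.α) × (SubMulAction.ofStabilizer G c.α) => ¬ w.1 = w.2)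
      (fun w : (SubMulAction.ofStabilizer G c.α) × (SubMulAction.ofStabilizer G c.α) => C.R c.α w.1 w.2), filter_filter, filter_filter]
    congr 1
    refine Finset.sum_congr ?_ fun _ _ => rfl
    ext w
    simp only [mem_filter, mem_univ, true_and]
    exact ⟨fun h => h.2, fun h => ⟨fun e => (C.ne h).2.2 (congrArg Subtype.val e).symm, h⟩⟩
  have horbit : ∀ i, ∀ x ∈ P i, ∀ y, y ∈ P i ↔ ∃ h : (stabilizer G c.α), h • x = y := by
    intro i x hx y
    have hfwd : ∀ (h : (stabilizer G c.α)) (u : (SubMulAction.ofStabilizer G c.α) × (SubMulAction.ofStabilizer G c.α)), (((h • u).1 = (h • u).2) ↔ u.1 = u.2) ∧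
        (C.R c.α (h • u).1 (h • u).2 ↔ C.R c.α u.1 u.2) := fun h u => by
      refine ⟨(MulAction.injective h).eq_iff, ?_⟩
      conv_rhs => rw [← C.inv (h : G), mem_stabilizer_iff.1 h.2]
      rfl
    fin_cases i <;> simp only [P, Fin.isValue, Fin.zero_eta, Fin.mk_one, Fin.reduceFinMk, Matrix.cons_val_zero,
      Matrix.cons_val_one, Matrix.cons_val_two, Matrix.cons_val, Matrix.head_cons, Matrix.tail_cons, mem_filter, mem_univ, true_and] at hx ⊢
    · constructor
      · intro hy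
        obtain ⟨h, hh⟩ := exists_smul_eq (stabilizer G c.α) x.1 y.1
        exact ⟨h, Prod.ext hh (by rw [Prod.smul_snd, ← hx, hh, hy])⟩
      · rintro ⟨h, rfl⟩; exact (hfwd h x).1.2 hx
    · constructor
      · intro hy
        obtain ⟨g, ga, gb⟩ := c.exists_pair (Ne.symm x.1.2 : c.α ≠ (x.1 : Ω)) (Ne.symm y.1.2 : c.α ≠ (y.1 : Ω))
        have hgx : C.R c.α y.1 (g • (x.2 : Ω)) := by
          have h' := (C.inv g _ _ _).2 hx
          rwa [ga, gb] at h'
        obtain ⟨t, ta, tb, tz⟩ := C.trans (C.ne hy).1 (C.ne hgx).2.1 (C.ne hgx).2.2 (C.ne hy).2.1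
          (C.ne hy).2.2 (iff_of_true hgx hy)
        exact ⟨⟨t * g, by rw [mem_stabilizer_iff, mul_smul, ga, ta]⟩, Prod.ext
          (Subtype.ext (by show (t * g) • (x.1 : Ω) = y.1; rw [mul_smul, gb, tb]))
          (Subtype.ext (by show (t * g) • (x.2 : Ω) = y.2; rw [mul_smul, tz]))⟩
      · rintro ⟨h, rfl⟩; exact (hfwd h x).2.2 hx
    · constructor
      · intro hy
        obtain ⟨g, ga, gb⟩ := c.exists_pair (Ne.symm x.1.2 : c.α ≠ (x.1 : Ω)) (Ne.symm y.1.2 : c.α ≠ (y.1 : Ω))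
        have hgx : ¬ C.R c.α y.1 (g • (x.2 : Ω)) := fun h => hx.2 ((C.inv g _ _ _).1 (by rw [ga, gb]; exact h))
        have hx2a : g • (x.2 : Ω) ≠ c.α := fun e => x.2.2 (MulAction.injective g (e.trans ga.symm))
        have hx2b : g • (x.2 : Ω) ≠ y.1 := fun e =>
          hx.1 (Subtype.ext (MulAction.injective g (gb.trans e.symm)))
        obtain ⟨t, ta, tb, tz⟩ := C.trans (Ne.symm y.1.2) hx2a hx2b y.2.2
          (fun e => hy.1 (Subtype.ext e.symm)) (iff_of_false hgx hy.2)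
        exact ⟨⟨t * g, by rw [mem_stabilizer_iff, mul_smul, ga, ta]⟩, Prod.ext
          (Subtype.ext (by show (t * g) • (x.1 : Ω) = y.1; rw [mul_smul, gb, tb]))
          (Subtype.ext (by show (t * g) • (x.2 : Ω) = y.2; rw [mul_smul, tz]))⟩
      · rintro ⟨h, rfl⟩
        exact ⟨fun e => hx.1 ((hfwd h x).1.1 e), fun e => hx.2 ((hfwd h x).2.1 e)⟩
  have hne : ∀ i, (P i).Nonempty := by
    intro i
    fin_cases i <;> simp [P]
    · exact ⟨(⟨b, hb⟩, ⟨b, hb⟩), by simp⟩
    · exact ⟨(⟨b, hb⟩, ⟨z, (C.ne hz).2.1⟩), by simp [hz]⟩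
    · exact ⟨(⟨b, hb⟩, ⟨w, hwa⟩), by simp [hw]; exact fun e => hwb (congrArg Subtype.val e).symm⟩
  rw [Finset.sum_congr rfl fun h _ => (h1 h).trans (hsplit h), sum_comm,
    Finset.sum_congr rfl fun i _ => sum_orbit_kernel (c := 1) (horbit i) K
      (fun x hx => by simp [K, sum_ite_eq', hx]) (hne i),
    sum_const, card_univ, Fintype.card_fin, nsmul_eq_mul, mul_one]
  push_cast
  ring

/-- The two trace characters are irreducible. -/
theorem trace_irr {r s : ℂ} (hrs : r ≠ s) (hsum : r + s = (C.lam : ℂ) - C.mu)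
    (hprod : r * s = (C.mu : ℂ) - C.k) :
    ∃ θ θ' : IrrCharacter (stabilizer G c.α), θ ≠ θ' ∧ θ ≠ Char.trivialChar _ ∧ θ' ≠ Char.trivialChar _ ∧
      θ.1 = trM (loc (G := G) c.α (C.KP r s)) ∧ θ'.1 = trM (loc (G := G) c.α (C.KP s r)) := by
  set E := loc (G := G) c.α (C.KP r s)
  set E' := loc (G := G) c.α (C.KP s r)
  have hE : IsCharacter (stabilizer G c.α) (trM E) :=
    ((C.KP_inv r s).loc_inv c.α).isCharacter (C.loc_idem c c.α hrs hsum hprod)
  have hE' : IsCharacter (stabilizer G c.α) (trM E') :=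
    ((C.KP_inv s r).loc_inv c.α).isCharacter (C.loc_idem c c.α hrs.symm
      (by rw [add_comm]; exact hsum) (by rw [mul_comm]; exact hprod))
  obtain ⟨hs1, hs2⟩ := C.sum_punct c
  set f : (stabilizer G c.α) → ℂ := fun h => (nfix (SubMulAction.ofStabilizer G c.α) h : ℂ) - 1
  have hsumf : trM (H := (stabilizer G c.α)) E + trM E' = f := funext fun h => by
    have h' := C.trM_add_swap c hrs h
    rw [Pi.add_apply, h']
    simp only [f]
    have : nfix Ω (h : G) = nfix (SubMulAction.ofStabilizer G c.α) h + 1 := by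
      have h2 := trM_one (S := SubMulAction.ofStabilizer G c.α) h
      rw [nfix, nfix, show (univ.filter fun x : Ω => (h : G) • x = x) =
        insert c.α ((univ.filter fun x : SubMulAction.ofStabilizer G c.α => h • x = x).image Subtype.val) from ?_,
        card_insert_of_notMem, card_image_of_injective _ Subtype.val_injective]
      · congr 2; ext; simp
      · intro hmem
        obtain ⟨y, -, hy⟩ := mem_image.1 hmem
        exact y.2 hy
      · ext x
        simp only [mem_filter, mem_univ, true_and, mem_insert, mem_image]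
        constructor
        · intro hx
          by_cases hxa : x = c.α
          · exact Or.inl hxa
          · exact Or.inr ⟨⟨x, hxa⟩, Subtype.ext hx, rfl⟩
        · rintro (rfl | ⟨y, hy, rfl⟩)
          · exact h.2
          · exact congrArg Subtype.val hy
    rw [this]; push_cast; ring
  have hf1 : classInner f (fun _ => (1 : ℂ)) = 0 := by
    rw [classInner_one_right]
    simp only [f, sum_sub_distrib, hs1, sum_const, card_univ, nsmul_eq_mul, mul_one,
      ← Nat.card_eq_fintype_card]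
    ring
  have hf2 : classInner f f = 2 := by
    simp only [classInner, f, map_sub, map_one, Complex.conj_natCast]
    rw [Finset.sum_congr rfl fun h _ => show
      ((nfix (SubMulAction.ofStabilizer G c.α) h : ℂ) - 1) * ((nfix (SubMulAction.ofStabilizer G c.α) h : ℂ) - 1) =
      (nfix (SubMulAction.ofStabilizer G c.α) h : ℂ) ^ 2 - 2 * (nfix (SubMulAction.ofStabilizer G c.α) h : ℂ) + 1 by ring,
      sum_add_distrib, sum_sub_distrib, ← mul_sum, hs1, hs2, sum_const, card_univ, nsmul_eq_mul,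
      ← Nat.card_eq_fintype_card]
    have h0 := Char.card_ne_zero (G := stabilizer G c.α)
    field_simp
    ring
  -- neither vanishes
  have hnonzero : ∀ r s : ℂ, r ≠ s → r + s = (C.lam : ℂ) - C.mu → r * s = (C.mu : ℂ) - C.k →
      trM (H := (stabilizer G c.α)) (loc (G := G) c.α (C.KP r s)) 1 ≠ 0 := by
    intro r s hrs hsum hprod h0
    rw [trM_apply_one] at h0
    have hz := Char.idempotent_matrix_of_trace_zero (C.loc_idem c c.α hrs hsum hprod) h0
    obtain ⟨b, hb⟩ : ∃ b : Ω, b ≠ c.α := Fintype.exists_ne_of_one_lt_card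
      (by rw [c.hΩ]; exact hp.out.one_lt) c.α
    obtain ⟨⟨z, hzR⟩, w, hwa, hwb, hw⟩ := C.ex hb.symm
    have h1 := congrFun (congrFun hz ⟨b, hb⟩) ⟨z, (C.ne hzR).2.1⟩
    have h2 := congrFun (congrFun hz ⟨b, hb⟩) ⟨w, hwa⟩
    simp only [loc, KP, K1, K0, KA, hzR, hw, if_true, if_false, Matrix.zero_apply, mul_eq_zero,
      inv_eq_zero, sub_ne_zero.2 hrs, false_or, if_neg (C.ne hzR).2.2.symm, if_neg (Ne.symm hwb)] at h1 h2
    exact one_ne_zero (show (1 : ℂ) = 0 by linear_combination h1 - h2)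
  obtain ⟨a, ha⟩ := Char.IsCharacter.exists_nat_classInner hE hE
  obtain ⟨b, hb⟩ := Char.IsCharacter.exists_nat_classInner hE hE'
  obtain ⟨b', hb'⟩ := Char.IsCharacter.exists_nat_classInner hE' hE
  obtain ⟨d, hd⟩ := Char.IsCharacter.exists_nat_classInner hE' hE'
  have htot : a + b + (b' + d) = 2 := by
    have : ((a + b + (b' + d) : ℕ) : ℂ) = ((2 : ℕ) : ℂ) := by
      push_cast
      rw [← ha, ← hb, ← hb', ← hd, ← hf2, ← hsumf, Char.classInner_add_left, Char.classInner_add_right,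
        Char.classInner_add_right]
    exact_mod_cast this
  have ha0 : a ≠ 0 := fun h => hnonzero r s hrs hsum hprod (by
    rw [h, Nat.cast_zero] at ha; exact congrFun (Char.classInner_self_eq_zero ha) 1)
  have hd0 : d ≠ 0 := fun h => hnonzero s r hrs.symm (by rw [add_comm]; exact hsum)
    (by rw [mul_comm]; exact hprod) (by
    rw [h, Nat.cast_zero] at hd; exact congrFun (Char.classInner_self_eq_zero hd) 1)
  rw [show a = 1 by omega, Nat.cast_one] at ha
  rw [show d = 1 by omega, Nat.cast_one] at hd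
  rw [show b = 0 by omega, Nat.cast_zero] at hb
  refine ⟨⟨_, Char.isIrrCharacter_iff.2 ⟨hE, ha⟩⟩, ⟨_, Char.isIrrCharacter_iff.2 ⟨hE', hd⟩⟩,
    fun h => ?_, fun h => ?_, fun h => ?_, rfl, rfl⟩
  · have h' : trM (H := (stabilizer G c.α)) E = trM E' := congrArg Subtype.val h
    rw [← h', ha] at hb
    exact one_ne_zero hb
  all_goals
    have h' := congrArg Subtype.val h
    rw [← hsumf, Char.classInner_add_left] at hf1
    obtain ⟨u, hu⟩ := Char.IsCharacter.exists_nat_classInner hE (Char.irr_isCharacter (Char.trivialChar (stabilizer G c.α)))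
    obtain ⟨v, hv⟩ := Char.IsCharacter.exists_nat_classInner hE' (Char.irr_isCharacter (Char.trivialChar (stabilizer G c.α)))
    rw [show (fun _ : (stabilizer G c.α) => (1 : ℂ)) = (Char.trivialChar (stabilizer G c.α)).1 from rfl, hu, hv] at hf1
    have huv : u + v = 0 := by exact_mod_cast hf1
    simp only at h'
  · rw [h', Char.classInner_irr, if_pos rfl] at hu
    have : u = 1 := by exact_mod_cast hu.symm
    omega
  · rw [h', Char.classInner_irr, if_pos rfl] at hv
    have : v = 1 := by exact_mod_cast hv.symm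
    omega

end Col

/-- The spectral data. -/
structure Spec (c : Ctx G Ω p q) (C : Col G Ω p q) where
  e : ℕ
  two_le : 2 ≤ e
  hq : q = 2 * e ^ 2 + 2 * e + 1
  hk : C.k = e * (2 * e + 1)
  hlam : C.lam + 1 = e ^ 2
  hmu : C.mu = e ^ 2
  θ : IrrCharacter (stabilizer G c.α)
  θ' : IrrCharacter (stabilizer G c.α)
  ne : θ ≠ θ'
  ne1 : θ ≠ Char.trivialChar _
  ne1' : θ' ≠ Char.trivialChar _
  hθ : θ.1 = trM (loc (G := G) c.α (C.KP (e : ℂ) (-1 - (e : ℂ))))
  hθ' : θ'.1 = trM (loc (G := G) c.α (C.KP (-1 - (e : ℂ)) (e : ℂ)))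
  deg : Char.degree θ = q
  deg' : Char.degree θ' = q - 1
  add : ∀ h : stabilizer G c.α, θ.1 h + θ'.1 h = (nfix Ω (h : G) : ℂ) - 2
  val' : ∀ (h : stabilizer G c.α) (y : G), y ∈ (c.Q : Subgroup G) → y ≠ 1 → (h : G) = y → θ'.1 h = -1

theorem Col.exists_spec (C : Col G Ω p q) (c : Ctx G Ω p q) : Nonempty (Spec c C) := by
  have hq11 := c.eleven
  have hk3 := C.three_le
  have hkq := C.k_lt
  have hlk := C.lam_lt
  have hmk := C.mu_le
  -- the roots
  set n : ℂ := (C.lam : ℂ) - C.mu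
  obtain ⟨d, hd⟩ := IsAlgClosed.exists_pow_nat_eq (n ^ 2 + 4 * ((C.k : ℂ) - C.mu)) two_pos
  have hd0 : d ≠ 0 := by
    intro h
    rw [h, zero_pow two_ne_zero] at hd
    have h' : ((((C.lam : ℤ) - C.mu) ^ 2 + 4 * ((C.k : ℤ) - C.mu) : ℤ) : ℂ) = ((0 : ℤ) : ℂ) := by
      push_cast; simp only [n] at hd; exact hd.symm
    have h'' : ((C.lam : ℤ) - C.mu) ^ 2 + 4 * ((C.k : ℤ) - C.mu) = 0 := by exact_mod_cast h'
    have h1 : (C.lam : ℤ) - C.mu = 0 := by
      have : ((C.lam : ℤ) - C.mu) ^ 2 = 0 := le_antisymm (by omega) (sq_nonneg _)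
      exact pow_eq_zero_iff two_ne_zero |>.1 this
    rw [h1] at h''
    omega
  set r₁ : ℂ := (n + d) / 2
  set r₂ : ℂ := (n - d) / 2
  have hne : r₁ ≠ r₂ := fun h => hd0 (by simp only [r₁, r₂] at h; linear_combination h)
  have hsum : r₁ + r₂ = n := by simp only [r₁, r₂]; ring
  have hprod : r₁ * r₂ = (C.mu : ℂ) - C.k := by
    simp only [r₁, r₂]; linear_combination (-1 / 4 : ℂ) * hd
  obtain ⟨θ₁, θ₂, hθne, hθ1, hθ2, hθ₁, hθ₂⟩ := C.trace_irr c hne hsum hprod
  have hadd : ∀ h : (stabilizer G c.α), θ₁.1 h + θ₂.1 h = (nfix Ω (h : G) : ℂ) - 2 := fun h => by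
    rw [hθ₁, hθ₂]; exact C.trM_add_swap c hne h
  -- the shape in the stabiliser
  obtain ⟨Q₀, hQ₀, hsc, hN⟩ := c.exists_sylow_stab
  obtain ⟨S⟩ := exists_shp hsc hN
  have hQmem : ∀ y : (stabilizer G c.α), y ∈ (Q₀ : Subgroup (stabilizer G c.α)) → y ≠ 1 → (y : G) ∈ (c.Q : Subgroup G) ∧ (y : G) ≠ 1 :=
    fun y hy hy1 => ⟨by rwa [hQ₀] at hy, fun h => hy1 (Subtype.ext h)⟩
  have hval : ∀ y : (stabilizer G c.α), y ∈ (Q₀ : Subgroup (stabilizer G c.α)) → y ≠ 1 → θ₁.1 y + θ₂.1 y = -1 := fun y hy hy1 => by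
    rw [hadd, c.nfix_Q (hQmem y hy hy1).1 (hQmem y hy hy1).2]
    norm_num
  have hdegsum : Char.degree θ₁ + Char.degree θ₂ + 1 = 2 * q := by
    have h := hadd 1
    rw [Char.apply_one_eq_degree, Char.apply_one_eq_degree, OneMemClass.coe_one, nfix_one, c.hΩ,
      show (p : ℂ) = ((2 * q + 1 : ℕ) : ℂ) from congrArg Nat.cast c.hpq] at h
    have : ((Char.degree θ₁ + Char.degree θ₂ + 1 : ℕ) : ℂ) = ((2 * q : ℕ) : ℂ) := by
      push_cast at h ⊢; linear_combination h
    exact_mod_cast this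
  have hnotY : θ₁ ∉ S.Y ∧ θ₂ ∉ S.Y := by
    have hF : IsCharacter (stabilizer G c.α) (θ₁.1 + θ₂.1) :=
      Char.IsCharacter.add (Char.irr_isCharacter _) (Char.irr_isCharacter _)
    have key : ∀ θ, (θ = θ₁ ∨ θ = θ₂) → θ ∉ S.Y := by
      intro θ hθ hY
      obtain ⟨hc2, -⟩ := S.big ⟨θ, hY⟩
      obtain ⟨φ, hφ, hφne⟩ := Finset.exists_mem_ne (by omega : 1 < S.Y.card) θ
      have h := S.inner_eq c.two_le_f (Char.IsCharacter.isClassFunction hF) (c := -1) hval hY hφ
      rw [Char.classInner_add_left, Char.classInner_add_left, Char.classInner_irr, Char.classInner_irr,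
        Char.classInner_irr, Char.classInner_irr] at h
      have hd12 := S.deg_eq θ hY φ hφ
      rcases hθ with rfl | rfl
      · by_cases h2 : φ = θ₂
        · subst h2; omega
        · simp [hθne.symm, Ne.symm h2, Ne.symm hφne] at h
      · by_cases h2 : φ = θ₁
        · subst h2; omega
        · simp [hθne, Ne.symm h2, Ne.symm hφne] at h
    exact ⟨key θ₁ (Or.inl rfl), key θ₂ (Or.inr rfl)⟩
  obtain ⟨y₀, hy₀, hy₀1⟩ := S.nontriv
  have hz : S.z θ₁ + S.z θ₂ = -1 := by
    have h := hval y₀ hy₀ hy₀1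
    rw [S.val θ₁ hnotY.1 y₀ hy₀ hy₀1, S.val θ₂ hnotY.2 y₀ hy₀ hy₀1] at h
    exact_mod_cast h
  -- choose the labels
  obtain ⟨r, s, θ, θ', hne', hsum', hprod', hθne', hθ1', hθ2', hθr, hθs, hzr, hnotr, hnots⟩ :
      ∃ (r s : ℂ) (θ θ' : IrrCharacter (stabilizer G c.α)), r ≠ s ∧ r + s = n ∧ r * s = (C.mu : ℂ) - C.k ∧ θ ≠ θ' ∧
        θ ≠ Char.trivialChar _ ∧ θ' ≠ Char.trivialChar _ ∧ θ.1 = trM (loc (G := G) c.α (C.KP r s)) ∧
        θ'.1 = trM (loc (G := G) c.α (C.KP s r)) ∧ (S.z θ = 0 ∧ S.z θ' = -1) ∧ θ ∉ S.Y ∧ θ' ∉ S.Y := by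
    rcases S.hz θ₁ with e | e | e
    · exact ⟨r₁, r₂, θ₁, θ₂, hne, hsum, hprod, hθne, hθ1, hθ2, hθ₁, hθ₂, ⟨e, by omega⟩, hnotY⟩
    · rcases S.hz θ₂ with e' | e' | e' <;> omega
    · exact ⟨r₂, r₁, θ₂, θ₁, hne.symm, by rw [add_comm]; exact hsum, by rw [mul_comm]; exact hprod,
        hθne.symm, hθ2, hθ1, hθ₂, hθ₁, ⟨by omega, e⟩, hnotY.2, hnotY.1⟩
  have hadd' : ∀ h : (stabilizer G c.α), θ.1 h + θ'.1 h = (nfix Ω (h : G) : ℂ) - 2 := fun h => by
    rw [hθr, hθs]; exact C.trM_add_swap c hne' h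
  have hdeg : Char.degree θ + Char.degree θ' + 1 = 2 * q := by
    have h := hadd' 1
    rw [Char.apply_one_eq_degree, Char.apply_one_eq_degree, OneMemClass.coe_one, nfix_one, c.hΩ,
      show (p : ℂ) = ((2 * q + 1 : ℕ) : ℂ) from congrArg Nat.cast c.hpq] at h
    have : ((Char.degree θ + Char.degree θ' + 1 : ℕ) : ℂ) = ((2 * q : ℕ) : ℂ) := by
      push_cast at h ⊢; linear_combination h
    exact_mod_cast this
  have hdq : Char.degree θ = q := by
    have h := hzr.1 ▸ S.deg θ hnotr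
    rw [Int.modEq_zero_iff_dvd, Int.natCast_dvd_natCast] at h
    obtain ⟨i, hi⟩ := h
    have h2 := Char.degree_pos θ
    have h4 := Char.degree_pos θ'
    have hi2 : q * i < q * 2 := by omega
    have hi3 : i < 2 := Nat.lt_of_mul_lt_mul_left hi2
    have hi1 : i = 1 := by
      rcases Nat.eq_zero_or_pos i with h0 | h0
      · rw [h0, Nat.mul_zero] at hi; omega
      · omega
    rw [hi, hi1, Nat.mul_one]
  have hdq' : Char.degree θ' = q - 1 := by omega
  -- the linear relation of the roots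
  have htr : (q : ℂ) * r + ((q : ℂ) - 1) * s + C.k = 0 := by
    have h := Char.apply_one_eq_degree θ
    rw [hθr, trM_apply_one, C.trace_KP c, hdq, inv_mul_eq_iff_eq_mul₀ (sub_ne_zero.2 hne')] at h
    linear_combination -h
  set n' : ℤ := (C.lam : ℤ) - C.mu with hn'
  have hnn : n = ((n' : ℤ) : ℂ) := by simp [n, n']
  set sZ : ℤ := q * n' + C.k
  have hsZ : s = (sZ : ℂ) := by
    simp only [sZ]; push_cast; linear_combination (-1 : ℂ) * htr + (q : ℂ) * hsum' + (q : ℂ) * hnn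
  set rZ : ℤ := n' - sZ
  have hrZ : r = (rZ : ℂ) := by
    simp only [rZ]; push_cast; linear_combination hsum' + hnn - hsZ
  have hprodZ : rZ * sZ = (C.mu : ℤ) - C.k := by
    have : ((rZ * sZ : ℤ) : ℂ) = (((C.mu : ℤ) - C.k : ℤ) : ℂ) := by push_cast; rw [← hrZ, ← hsZ, hprod']
    exact_mod_cast this
  have hrow : (C.k : ℤ) ^ 2 = ((C.k : ℤ) - C.mu) + n' * C.k + 2 * q * C.mu := by
    have h := C.row_identity c
    have h' : (((C.k : ℤ) ^ 2 : ℤ) : ℂ) = ((((C.k : ℤ) - C.mu) + n' * C.k + 2 * q * C.mu : ℤ) : ℂ) := by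
      simp only [n']; push_cast; exact h
    exact_mod_cast h'
  have hsum2 : rZ + sZ = n' := by simp [rZ]
  have htrZ : (q : ℤ) * rZ + ((q : ℤ) - 1) * sZ + C.k = 0 := by simp only [rZ, sZ]; ring
  have hsq : (C.k : ℤ) ^ 2 + q * rZ ^ 2 + ((q : ℤ) - 1) * sZ ^ 2 = 2 * q * C.k := by
    linear_combination hrow + (rZ + sZ) * htrZ + (1 - 2 * (q : ℤ)) * hprodZ - (C.k : ℤ) * hsum2
  have hk3' : (3 : ℤ) ≤ C.k := by exact_mod_cast hk3
  have hkq' : (C.k : ℤ) + 1 ≤ q := by exact_mod_cast hkq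
  have hq11' : (11 : ℤ) ≤ q := by exact_mod_cast hq11
  have hlt : sZ ^ 2 < (C.k : ℤ) ^ 2 := by
    by_contra h
    have h1 := mul_nonneg (show (0 : ℤ) ≤ q by omega) (sq_nonneg rZ)
    have h2 := mul_le_mul_of_nonneg_left (not_lt.1 h) (show (0 : ℤ) ≤ (q : ℤ) - 1 by omega)
    have h3 : 0 < (q : ℤ) * C.k * ((C.k : ℤ) - 2) := mul_pos (mul_pos (by omega) (by omega)) (by omega)
    nlinarith
  have hb : -(C.k : ℤ) < sZ ∧ sZ < C.k := by
    constructor <;> nlinarith
  have hn1 : n' = -1 := by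
    have h1 : n' < 0 := by simp only [sZ] at hb; nlinarith
    have h2 : -2 < n' := by simp only [sZ] at hb; nlinarith
    omega
  have hk2 : (C.k : ℤ) = q + sZ := by simp only [sZ, hn1]; ring
  have hr0 : 0 ≤ rZ := by simp only [rZ, hn1]; omega
  obtain ⟨e, he⟩ := Int.eq_ofNat_of_zero_le hr0
  have hsE : sZ = -1 - (e : ℤ) := by simp only [rZ, hn1] at he; omega
  rw [he, hsE] at hsq hprodZ
  rw [hsE] at hk2
  have hqe : (q : ℤ) = 2 * (e : ℤ) ^ 2 + 2 * e + 1 := by
    rw [hk2] at hsq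
    have h1 : (q : ℤ) * ((q : ℤ) - (2 * (e : ℤ) ^ 2 + 2 * e + 1)) = 0 := by linear_combination -hsq
    rcases mul_eq_zero.1 h1 with h2 | h2 <;> omega
  have he2 : 2 ≤ e := by
    by_contra h
    interval_cases e <;> omega
  have hqN : q = 2 * e ^ 2 + 2 * e + 1 := by exact_mod_cast hqe
  have hkN : C.k = e * (2 * e + 1) := by
    have : (C.k : ℤ) = ((e * (2 * e + 1) : ℕ) : ℤ) := by push_cast; linear_combination hk2 + hqe
    exact_mod_cast this
  have hmuN : C.mu = e ^ 2 := by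
    have : (C.mu : ℤ) = ((e ^ 2 : ℕ) : ℤ) := by push_cast; linear_combination -hprodZ + hk2 + hqe
    exact_mod_cast this
  have hlamN : C.lam + 1 = e ^ 2 := by
    have h1 : (C.lam : ℤ) + 1 = C.mu := by simp only [n'] at hn1; omega
    have : C.lam + 1 = C.mu := by exact_mod_cast h1
    omega
  have hre : r = (e : ℂ) := by rw [hrZ, he, Int.cast_natCast]
  have hse : s = -1 - (e : ℂ) := by rw [hsZ, hsE]; push_cast; ring
  exact ⟨{ e := e, two_le := he2, hq := hqN, hk := hkN, hlam := hlamN, hmu := hmuN, θ := θ, θ' := θ'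
           ne := hθne', ne1 := hθ1', ne1' := hθ2', hθ := by rw [hθr, hre, hse]
           hθ' := by rw [hθs, hre, hse], deg := hdq, deg' := hdq', add := hadd'
           val' := fun h y hy hy1 he' => by
             rw [S.val θ' hnots h (by rw [hQ₀]; show (h : G) ∈ (c.Q : Subgroup G); rw [he']; exact hy)
               (fun h1 => hy1 (by rw [← he', h1]; rfl)), hzr.2]
             norm_num }⟩

end Cfsg.Agent.PrimeTwoQ
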