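import Cfsg.Agent.Lib.PrimeTwoQ.Common
import Cfsg.Agent.Lib.PrimeTwoQ.Tools
import Cfsg.Agent.Lib.DegreePSubTwo.AltSquare
import Cfsg.Agent.Lib.ColumnFour.SymSquare
import Mathlib.GroupTheory.GroupAction.MultipleTransitivity

/-!
# The characters on unordered pairs for a triply transitive group of degree `2 q + 1`

`X = π₂ - 1 - χ` and `Y = A - χ`, with `π² - π = 1 + 2 χ + X + Y`; their constituents have degree
at least `2 q + 1`.
-/

set_option autoImplicit false
set_option linter.unusedSectionVars false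
set_option linter.style.haveILetI false

namespace Cfsg.Agent.PrimeTwoQ

open Cfsg Cfsg.Agent MulAction Finset
open scoped Classical ComplexConjugate

universe u v

variable {G : Type u} [Group G] [Fintype G] {Ω : Type v} [Fintype Ω] [MulAction G Ω]
  {p q : ℕ} [hp : Fact p.Prime] [hq : Fact q.Prime]

variable (G Ω) in
/-- The fixed points of the square. -/
noncomputable def sqp : G → ℂ := fun g => (nfix Ω (g ^ 2) : ℂ)

variable (G Ω) in
/-- The character on unordered pairs, less `1 + χ`. -/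
noncomputable def XX : G → ℂ := fun g => (perm G Ω g ^ 2 - 4 * perm G Ω g + sqp G Ω g) / 2

variable (G Ω) in
/-- The alternating square, less `χ`. -/
noncomputable def YY : G → ℂ := fun g => (perm G Ω g ^ 2 - sqp G Ω g) / 2 - perm G Ω g + 1

theorem nfix_ofStabilizer (a : Ω) (h : stabilizer G a) :
    nfix Ω (h : G) = nfix (SubMulAction.ofStabilizer G a) h + 1 := by
  have h1 : (univ.filter fun x : Ω => (h : G) • x = x) =
      insert a ((univ.filter fun x : SubMulAction.ofStabilizer G a => h • x = x).image Subtype.val) := by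
    ext x
    simp only [mem_filter, mem_univ, true_and, mem_insert, mem_image]
    constructor
    · intro hx
      by_cases hxa : x = a
      · exact Or.inl hxa
      · exact Or.inr ⟨⟨x, hxa⟩, Subtype.ext hx, rfl⟩
    · rintro (rfl | ⟨y, hy, rfl⟩)
      · exact h.2
      · exact congrArg Subtype.val hy
  rw [nfix, nfix, h1, card_insert_of_notMem, card_image_of_injective _ Subtype.val_injective]
  · congr 2; ext; simp
  intro hmem
  obtain ⟨y, -, hy⟩ := mem_image.1 hmem
  exact y.2 hy

theorem isClassFunction_perm : IsClassFunction G (perm G Ω) := isClassFunction_nfix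

namespace Ctx

variable (c : Ctx G Ω p q) (h3 : IsMultiplyPretransitive G Ω 3)
include c h3

theorem sum_perm_three :
    ∑ g : G, (nfix Ω g : ℂ) * ((nfix Ω g : ℂ) - 1) * ((nfix Ω g : ℂ) - 2) = (Nat.card G : ℂ) := by
  have h := sum_descFactorial_eq (H := G) (S := Ω) (k := 3)
    (by rw [c.hΩ, c.hpq]; have := c.eleven; omega) h3
  rw [← h, Nat.cast_sum]
  refine Finset.sum_congr rfl fun g _ => ?_
  rcases nfix Ω g with _ | _ | n
  · simp
  · simp [Nat.descFactorial_succ]
  · simp [Nat.descFactorial_succ]; ring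

theorem sum_perm_sqp : ∑ g : G, (nfix Ω (g ^ 2) : ℂ) * (nfix Ω g : ℂ) = 3 * (Nat.card G : ℂ) := by
  haveI := c.pretransitive
  haveI := h3
  set H := stabilizer G c.α
  have h2H : IsMultiplyPretransitive H (SubMulAction.ofStabilizer G c.α) 2 :=
    SubMulAction.ofStabilizer.isMultiplyPretransitive.1 h3
  have hcard : 2 ≤ Fintype.card (SubMulAction.ofStabilizer G c.α) := by
    have h := nfix_ofStabilizer c.α (1 : H)
    rw [OneMemClass.coe_one, nfix_one, nfix_one, c.hΩ] at h
    have := c.hpq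
    have := c.eleven
    omega
  rw [sum_mul_nfix (H := G) c.α (F := fun g => (nfix Ω (g ^ 2) : ℂ))
    (fun g t => by
      simp only [conj_pow]
      exact isClassFunction_nfix (H := G) (S := Ω) (g ^ 2) t)]
  have h1 : ∀ h : H, (nfix Ω ((h : G) ^ 2) : ℂ) = (nfix (SubMulAction.ofStabilizer G c.α) (h ^ 2) : ℂ) + 1 :=
    fun h => by rw [← SubgroupClass.coe_pow, nfix_ofStabilizer]; push_cast; rfl
  rw [Finset.sum_congr rfl fun h _ => h1 h, sum_add_distrib, sum_nfix_sq h2H hcard, sum_const,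
    card_univ, nsmul_eq_mul, mul_one, ← Nat.card_eq_fintype_card (α := H)]
  have hG := H.card_mul_index
  rw [index_stabilizer_of_transitive, Nat.card_eq_fintype_card (α := Ω)] at hG
  rw [← hG]
  push_cast
  ring

theorem sum_sq : ∑ g : G, (nfix Ω g : ℂ) ^ 2 = 2 * (Nat.card G : ℂ) := by
  have h := c.sum_perm_two
  simp only [mul_sub, mul_one, sum_sub_distrib, c.sum_perm] at h
  simp only [sq]
  linear_combination h

theorem sum_cube : ∑ g : G, (nfix Ω g : ℂ) ^ 3 = 5 * (Nat.card G : ℂ) := by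
  have h := c.sum_perm_three h3
  rw [Finset.sum_congr rfl fun g _ => show (nfix Ω g : ℂ) * ((nfix Ω g : ℂ) - 1) * ((nfix Ω g : ℂ) - 2) =
    (nfix Ω g : ℂ) ^ 3 - 3 * (nfix Ω g : ℂ) ^ 2 + 2 * (nfix Ω g : ℂ) by ring,
    sum_add_distrib, sum_sub_distrib, ← mul_sum, ← mul_sum, c.sum_sq h3, c.sum_perm] at h
  linear_combination h

theorem sum_sqp : ∑ g : G, (nfix Ω (g ^ 2) : ℂ) = 2 * (Nat.card G : ℂ) :=
  sum_nfix_sq c.two (by rw [c.hΩ]; exact hp.out.two_le)

omit h3 in
theorem real_perm (g : G) : conj (perm G Ω g) = perm G Ω g := Complex.conj_natCast _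

theorem inner_XX : classInner (XX G Ω) (fun _ => (1 : ℂ)) = 0 ∧ classInner (XX G Ω) (perm G Ω) = 0 := by
  constructor
  · rw [classInner_one_right]
    have : ∑ g, XX G Ω g = 0 := by
      simp only [XX, perm, sqp]
      rw [← sum_div, sum_add_distrib, sum_sub_distrib, ← mul_sum, c.sum_sq h3, c.sum_perm, c.sum_sqp h3]
      ring
    rw [this, mul_zero]
  · rw [classInner_of_real c.real_perm]
    have : ∑ g, XX G Ω g * perm G Ω g = 0 := by
      simp only [XX, perm, sqp]
      rw [Finset.sum_congr rfl fun g _ => show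
        ((nfix Ω g : ℂ) ^ 2 - 4 * (nfix Ω g : ℂ) + (nfix Ω (g ^ 2) : ℂ)) / 2 * (nfix Ω g : ℂ) =
        ((nfix Ω g : ℂ) ^ 3 - 4 * (nfix Ω g : ℂ) ^ 2 + (nfix Ω (g ^ 2) : ℂ) * (nfix Ω g : ℂ)) / 2 by ring,
        ← sum_div, sum_add_distrib, sum_sub_distrib, ← mul_sum, c.sum_sq h3, c.sum_cube h3,
        c.sum_perm_sqp h3]
      ring
    rw [this, mul_zero]

theorem inner_YY : classInner (YY G Ω) (fun _ => (1 : ℂ)) = 0 ∧ classInner (YY G Ω) (perm G Ω) = 0 := by
  constructor
  · rw [classInner_one_right]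
    have : ∑ g, YY G Ω g = 0 := by
      simp only [YY, perm, sqp]
      rw [sum_add_distrib, sum_sub_distrib, ← sum_div, sum_sub_distrib, c.sum_sq h3, c.sum_perm,
        c.sum_sqp h3, sum_const, card_univ, nsmul_eq_mul, ← Nat.card_eq_fintype_card]
      ring
    rw [this, mul_zero]
  · rw [classInner_of_real c.real_perm]
    have : ∑ g, YY G Ω g * perm G Ω g = 0 := by
      simp only [YY, perm, sqp]
      rw [Finset.sum_congr rfl fun g _ => show
        (((nfix Ω g : ℂ) ^ 2 - (nfix Ω (g ^ 2) : ℂ)) / 2 - (nfix Ω g : ℂ) + 1) * (nfix Ω g : ℂ) =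
        ((nfix Ω g : ℂ) ^ 3 - (nfix Ω (g ^ 2) : ℂ) * (nfix Ω g : ℂ)) / 2 - (nfix Ω g : ℂ) ^ 2 +
          (nfix Ω g : ℂ) by ring, sum_add_distrib, sum_sub_distrib, ← sum_div, sum_sub_distrib,
        c.sum_sq h3, c.sum_cube h3, c.sum_perm_sqp h3, c.sum_perm]
      ring
    rw [this, mul_zero]

theorem inner_chi {F : G → ℂ} (h1 : classInner F (fun _ => (1 : ℂ)) = 0)
    (h2 : classInner F (perm G Ω) = 0) : classInner F c.chi.1 = 0 := by
  rw [show c.chi.1 = perm G Ω - fun _ => (1 : ℂ) from rfl, Char.classInner_sub_right, h1, h2, sub_zero]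

theorem isCharacter_XX : IsCharacter G (XX G Ω) := by
  have hsym := ColumnFour.isCharacter_symSq (isCharacter_nfix (H := G) (S := Ω))
  have e : XX G Ω + (((2 : ℕ) : ℂ) • (Char.trivialChar G).1 + ((2 : ℕ) : ℂ) • c.chi.1) =
      ColumnFour.symSq (fun g : G => (nfix Ω g : ℂ)) := by
    funext g
    simp [XX, perm, sqp, ColumnFour.symSq, c.chi_apply]
    ring
  have hX := c.inner_XX h3
  have hXc := c.inner_chi h3 hX.1 hX.2
  have h1 : classInner (ColumnFour.symSq (fun g : G => (nfix Ω g : ℂ))) (Char.trivialChar G).1 =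
      ((2 : ℕ) : ℂ) := by
    rw [← e, Char.classInner_add_left, Char.classInner_add_left, Char.classInner_smul_left,
      Char.classInner_smul_left, Char.classInner_irr, Char.classInner_irr, if_pos rfl, if_neg c.chi_ne,
      show classInner (XX G Ω) (Char.trivialChar G).1 = 0 from hX.1]
    simp
  have h2 := isCharacter_sub_irr hsym (Char.trivialChar G) h1 le_rfl
  have h4 := isCharacter_sub_irr h2 c.chi (a := 2) (n := 2) (by
    rw [Char.classInner_sub_left, Char.classInner_smul_left, ← e, Char.classInner_add_left,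
      Char.classInner_add_left, Char.classInner_smul_left, Char.classInner_smul_left,
      Char.classInner_irr, Char.classInner_irr, if_pos rfl, if_neg (Ne.symm c.chi_ne), hXc]
    simp) le_rfl
  rwa [← e, show XX G Ω + (((2 : ℕ) : ℂ) • (Char.trivialChar G).1 + ((2 : ℕ) : ℂ) • c.chi.1) -
    ((2 : ℕ) : ℂ) • (Char.trivialChar G).1 - ((2 : ℕ) : ℂ) • c.chi.1 = XX G Ω by abel] at h4

theorem isCharacter_YY : IsCharacter G (YY G Ω) := by
  have halt := DegreePSubTwo.isCharacter_altSq (isCharacter_nfix (H := G) (S := Ω))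
  have e : YY G Ω + ((1 : ℕ) : ℂ) • c.chi.1 = DegreePSubTwo.altSq (fun g : G => (nfix Ω g : ℂ)) := by
    funext g
    simp [YY, perm, sqp, DegreePSubTwo.altSq, c.chi_apply]
  have hY := c.inner_YY h3
  have h4 := isCharacter_sub_irr halt c.chi (a := 1) (n := 1) (by
    rw [← e, Char.classInner_add_left, Char.classInner_smul_left, Char.classInner_irr, if_pos rfl,
      c.inner_chi h3 hY.1 hY.2]
    simp) le_rfl
  rwa [← e, add_sub_cancel_right] at h4

omit h3 in
theorem perm_sub_eq : perm G Ω * perm G Ω - perm G Ω =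
    (Char.trivialChar G).1 + (2 : ℂ) • c.chi.1 + XX G Ω + YY G Ω := by
  funext g
  simp [XX, YY, c.chi_apply, perm]
  ring

/-- `χ` on the stabiliser, less `1`. -/
theorem isIrr_theta : IsIrrCharacter (stabilizer G c.α) (fun h => perm G Ω (h : G) - 2) := by
  set H := stabilizer G c.α
  have hres : IsCharacter H (fun h : H => perm G Ω (h : G)) :=
    Char.IsCharacter.restrict (isCharacter_nfix (H := G) (S := Ω)) H
  have hcl := isClassFunction_perm (G := G) (Ω := Ω)
  have h1 : classInner (fun h : H => perm G Ω (h : G)) (fun _ => (1 : ℂ)) = 2 := by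
    rw [← c.classInner_mul_perm (B := fun _ => 1) hcl (fun _ _ => rfl), classInner_one_right,
      Finset.sum_congr rfl fun g _ => show (perm G Ω * perm G Ω) g = (nfix Ω g : ℂ) ^ 2 by
        simp [perm, sq], c.sum_sq h3]
    field_simp [Char.card_ne_zero (G := G)]
  have h2 : classInner (fun h : H => perm G Ω (h : G)) (fun h : H => perm G Ω (h : G)) = 5 := by
    rw [← c.classInner_mul_perm hcl hcl, classInner_of_real c.real_perm,
      Finset.sum_congr rfl fun g _ => show (perm G Ω * perm G Ω) g * perm G Ω g = (nfix Ω g : ℂ) ^ 3 by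
        simp [perm]; ring, c.sum_cube h3]
    field_simp [Char.card_ne_zero (G := G)]
  refine Char.isIrrCharacter_iff.2 ⟨?_, ?_⟩
  · have h := isCharacter_sub_irr hres (Char.trivialChar H) (a := 2) (n := 2)
      (by rw [show classInner (fun h : H => perm G Ω (h : G)) (Char.trivialChar H).1 = 2 from h1]; simp) le_rfl
    convert h using 1
    funext x
    simp
  · rw [show (fun h : H => perm G Ω (h : G) - 2) =
      (fun h : H => perm G Ω (h : G)) - (2 : ℂ) • (fun _ : H => (1 : ℂ)) by ext x; simp,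
      Char.classInner_sub_left, Char.classInner_sub_right, Char.classInner_sub_right,
      Char.classInner_smul_left, Char.classInner_smul_right, Char.classInner_smul_left,
      Char.classInner_smul_right, h2, h1, Char.classInner_irr_self Char.isIrrCharacter_one,
      ← Char.conj_classInner (fun h : H => perm G Ω (h : G)), h1]
    simp [map_ofNat]
    norm_num

/-- `χ` on the stabiliser, less `1`. -/
noncomputable def theta : IrrCharacter (stabilizer G c.α) := ⟨_, c.isIrr_theta h3⟩

omit h3 in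
theorem perm_one : perm G Ω (1 : G) = (p : ℂ) := by rw [perm_apply, nfix_one, c.hΩ]

theorem theta_one : (c.theta h3).1 1 = ((2 * q - 1 : ℕ) : ℂ) := by
  show perm G Ω ((1 : stabilizer G c.α) : G) - 2 = _
  rw [OneMemClass.coe_one, c.perm_one, show (p : ℂ) = ((2 * q + 1 : ℕ) : ℂ) from congrArg Nat.cast c.hpq,
    Nat.cast_sub (by have := c.eleven; omega)]
  push_cast
  ring

theorem theta_orth : classInner (c.theta h3).1 (fun _ => (1 : ℂ)) = 0 := by
  have hne : c.theta h3 ≠ Char.trivialChar _ := fun h => by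
    have h1 := c.theta_one h3
    rw [h, Char.trivialChar_apply] at h1
    have h2 : 1 = 2 * q - 1 := by exact_mod_cast h1
    have := c.eleven
    omega
  exact Char.classInner_eq_zero_of_ne hne

theorem theta_sigma {y : G} (hy : y ∈ (c.Q : Subgroup G)) (hy1 : y ≠ 1)
    (h : stabilizer G c.α) (he : (h : G) = y) : (c.theta h3).1 h = -1 := by
  show perm G Ω (h : G) - 2 = -1
  rw [he, perm_apply, c.nfix_Q hy hy1]
  norm_num

/-- A constituent of `X` or `Y` contains `θ` on the stabiliser. -/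
theorem inner_theta_pos {F : G → ℂ} (hF : IsCharacter G F)
    (hFR : ∀ ψ : IrrCharacter G, ∀ n : ℕ, classInner F ψ.1 = n →
      ∃ m : ℕ, classInner (XX G Ω + YY G Ω) ψ.1 = m ∧ n ≤ m)
    (h1 : classInner F (fun _ => (1 : ℂ)) = 0) (h2 : classInner F (perm G Ω) = 0)
    {ψ : IrrCharacter G} {n : ℕ} (hn : classInner F ψ.1 = n) (hn0 : n ≠ 0) :
    ψ ≠ Char.trivialChar G ∧ ψ ≠ c.chi ∧
      ∃ m : ℕ, n ≤ m ∧ classInner (fun h : stabilizer G c.α => ψ.1 h) (c.theta h3).1 = m := by
  have hne1 : ψ ≠ Char.trivialChar G := fun h => by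
    rw [h, show (Char.trivialChar G).1 = fun _ => (1 : ℂ) from rfl, h1] at hn
    exact hn0 (by exact_mod_cast hn.symm)
  have hne2 : ψ ≠ c.chi := fun h => by
    rw [h, c.inner_chi h3 h1 h2] at hn
    exact hn0 (by exact_mod_cast hn.symm)
  obtain ⟨m, hm, hnm⟩ := hFR ψ n hn
  refine ⟨hne1, hne2, m, hnm, ?_⟩
  set H := stabilizer G c.α
  have hcl := isClassFunction_perm (G := G) (Ω := Ω)
  have hψ := Char.IsCharacter.isClassFunction (Char.irr_isCharacter ψ)
  have h5 := congrArg (fun F => classInner F ψ.1) c.perm_sub_eq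
  simp only [Char.classInner_sub_left, Char.classInner_add_left, Char.classInner_smul_left,
    Char.classInner_irr, if_neg (Ne.symm hne1), if_neg (Ne.symm hne2)] at h5
  rw [c.classInner_mul_perm hcl hψ, c.classInner_perm_left hψ,
    show classInner (fun _ : H => (1 : ℂ)) (fun h : H => ψ.1 h) = 0 by
      rw [← Char.conj_classInner, c.restrict_trivial hne1 hne2, map_zero], sub_zero, mul_zero,
    zero_add, zero_add, ← Char.classInner_add_left, hm] at h5
  rw [← Char.conj_classInner, show (c.theta h3).1 =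
      (fun h : H => perm G Ω (h : G)) - (2 : ℂ) • (fun _ : H => (1 : ℂ)) by
      ext x; simp [theta],
    Char.classInner_sub_left, Char.classInner_smul_left, h5,
    ← Char.conj_classInner (fun h : H => ψ.1 h), c.restrict_trivial hne1 hne2]
  simp

theorem le_degree {ψ : IrrCharacter G}
    (h : classInner (XX G Ω) ψ.1 ≠ 0 ∨ classInner (YY G Ω) ψ.1 ≠ 0) : 2 * q + 1 ≤ Char.degree ψ := by
  obtain ⟨a, ha⟩ := Char.IsCharacter.exists_nat_classInner (c.isCharacter_XX h3) (Char.irr_isCharacter ψ)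
  obtain ⟨b, hb⟩ := Char.IsCharacter.exists_nat_classInner (c.isCharacter_YY h3) (Char.irr_isCharacter ψ)
  have hsum : classInner (XX G Ω + YY G Ω) ψ.1 = ((a + b : ℕ) : ℂ) := by
    rw [Char.classInner_add_left, ha, hb, Nat.cast_add]
  have hab : a + b ≠ 0 := fun h0 => by
    have ha0 : a = 0 := by omega
    have hb0 : b = 0 := by omega
    rw [ha, hb, ha0, hb0] at h
    simp at h
  obtain ⟨hne1, hne2, m, hm, hinner⟩ := c.inner_theta_pos h3
    (Char.IsCharacter.add (c.isCharacter_XX h3) (c.isCharacter_YY h3))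
    (fun φ k hk => ⟨k, hk, le_rfl⟩)
    (by rw [Char.classInner_add_left, (c.inner_XX h3).1, (c.inner_YY h3).1, add_zero])
    (by rw [Char.classInner_add_left, (c.inner_XX h3).2, (c.inner_YY h3).2, add_zero]) hsum hab
  refine c.degree_gt hne1 hne2 (c.theta_one h3) (Char.irr_isCharacter _) (c.theta_orth h3) ?_
  have := isCharacter_sub_irr (Char.IsCharacter.restrict (Char.irr_isCharacter ψ) (stabilizer G c.α))
    (c.theta h3) (a := 1) hinner (by omega)
  rwa [Nat.cast_one, one_smul] at this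

theorem XX_one : XX G Ω 1 = ((p * (q - 1) : ℕ) : ℂ) := by
  simp only [XX, sqp, one_pow, c.perm_one, perm_apply, nfix_one, c.hΩ]
  rw [Nat.cast_mul, Nat.cast_sub (show 1 ≤ q by have := c.eleven; omega)]
  rw [show (p : ℂ) = ((2 * q + 1 : ℕ) : ℂ) from congrArg Nat.cast c.hpq]
  push_cast
  ring

theorem YY_one : YY G Ω 1 = ((p * (q - 1) + 1 : ℕ) : ℂ) := by
  simp only [YY, sqp, one_pow, c.perm_one, nfix_one, c.hΩ]
  rw [Nat.cast_add, Nat.cast_mul, Nat.cast_sub (show 1 ≤ q by have := c.eleven; omega)]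
  rw [show (p : ℂ) = ((2 * q + 1 : ℕ) : ℂ) from congrArg Nat.cast c.hpq]
  push_cast
  ring

theorem XX_P {y : G} (hy : y ∈ (c.P : Subgroup G)) (hy1 : y ≠ 1) : XX G Ω y = ((0 : ℤ) : ℂ) := by
  simp [XX, perm, sqp, c.fixP y hy hy1, c.nfix_sq_P hy hy1]

theorem YY_P {y : G} (hy : y ∈ (c.P : Subgroup G)) (hy1 : y ≠ 1) : YY G Ω y = ((1 : ℤ) : ℂ) := by
  simp [YY, perm, sqp, c.fixP y hy hy1, c.nfix_sq_P hy hy1]

theorem XX_Q {y : G} (hy : y ∈ (c.Q : Subgroup G)) (hy1 : y ≠ 1) : XX G Ω y = ((-1 : ℤ) : ℂ) := by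
  simp [XX, perm, sqp, c.nfix_Q hy hy1, c.nfix_sq_Q hy hy1]
  norm_num

theorem YY_Q {y : G} (hy : y ∈ (c.Q : Subgroup G)) (hy1 : y ≠ 1) : YY G Ω y = ((0 : ℤ) : ℂ) := by
  simp [YY, perm, sqp, c.nfix_Q hy hy1, c.nfix_sq_Q hy hy1]

end Ctx

end Cfsg.Agent.PrimeTwoQ
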