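import Cfsg.Agent.Lib.PrimeTwoQ.ThreeBasic

/-!
# No irreducible character of degree `p` in `π² - π` with value `1` on `Q - 1`
-/

set_option autoImplicit false
set_option linter.unusedSectionVars false
set_option linter.style.haveILetI false

namespace Cfsg.Agent.PrimeTwoQ

open Cfsg Cfsg.Agent MulAction Finset
open scoped Classical ComplexConjugate

universe u v

variable {G : Type u} [Group G] [Fintype G] {Ω : Type v} [Fintype Ω] [MulAction G Ω]
  {p q : ℕ} [hp : Fact p.Prime] [hq : Fact q.Prime]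

/-- The elements of a stabiliser of two points. -/
theorem exists_fix_three (h3 : IsMultiplyPretransitive G Ω 3) {a b x y : Ω}
    (hab : a ≠ b) (hax : x ≠ a) (hbx : x ≠ b) (hay : y ≠ a) (hby : y ≠ b) :
    ∃ g : G, g • a = a ∧ g • b = b ∧ g • x = y := by
  haveI := h3
  haveI : IsMultiplyPretransitive G Ω 2 := isMultiplyPretransitive_of_le' (m := 2) (n := 3) (by norm_num)
    (by
      rw [ENat.card_eq_coe_natCard, Nat.card_eq_fintype_card, Nat.cast_le]
      exact le_of_eq_of_le (show 3 = ({a, b, x} : Finset Ω).card by simp [hab, hax.symm, hbx.symm])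
        (card_le_univ _))
  haveI : IsPretransitive G Ω := isPretransitive_of_is_two_pretransitive
  have h2 : IsMultiplyPretransitive (stabilizer G a) (SubMulAction.ofStabilizer G a) 2 :=
    SubMulAction.ofStabilizer.isMultiplyPretransitive.1 h3
  have hne1 : (⟨b, hab.symm⟩ : SubMulAction.ofStabilizer G a) ≠ ⟨x, hax⟩ :=
    fun h => hbx (congrArg Subtype.val h).symm
  have hne2 : (⟨b, hab.symm⟩ : SubMulAction.ofStabilizer G a) ≠ ⟨y, hay⟩ :=
    fun h => hby (congrArg Subtype.val h).symm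
  obtain ⟨g, hg, hg'⟩ := (is_two_pretransitive_iff.1 h2) hne1 hne2
  exact ⟨g, g.2, congrArg Subtype.val hg, congrArg Subtype.val hg'⟩

namespace Ctx

variable (c : Ctx G Ω p q) (h3 : IsMultiplyPretransitive G Ω 3)
include c h3

/-- A linear character of the stabiliser occurring in `π² - π` and trivial on `Q` is trivial. -/
theorem linear_trivial (lam : stabilizer G c.α →* ℂ)
    (hQ : ∀ h : stabilizer G c.α, (h : G) ∈ (c.Q : Subgroup G) → lam h = 1)
    (hpow : ∀ h : stabilizer G c.α, lam h ^ c.f = 1)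
    (hne : classInner (fun h : stabilizer G c.α => perm G Ω (h : G) * perm G Ω (h : G) - perm G Ω (h : G))
      (fun h => lam h) ≠ 0) (h : stabilizer G c.α) : lam h = 1 := by
  have hq11 := c.eleven
  have hpq := c.hpq
  -- a pair on whose stabiliser the character is trivial
  obtain ⟨x, y, hxy, hL⟩ : ∃ x y : Ω, x ≠ y ∧
      ∀ g : (stabilizer G c.α), (g : G) • x = x → (g : G) • y = y → lam g = 1 := by
    by_contra hno
    push Not at hno
    refine hne ?_
    rw [classInner]
    convert mul_zero _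
    have h1 : ∀ g : (stabilizer G c.α), (perm G Ω (g : G) * perm G Ω (g : G) - perm G Ω (g : G)) * conj (lam g) =
        ∑ w ∈ (univ : Finset Ω).offDiag,
          if (g : G) • w.1 = w.1 ∧ (g : G) • w.2 = w.2 then conj (lam g) else 0 := by
      intro g
      rw [← sum_filter, sum_const, nsmul_eq_mul]
      congr 1
      rw [show (univ : Finset Ω).offDiag.filter (fun w => (g : G) • w.1 = w.1 ∧ (g : G) • w.2 = w.2) =
        (univ.filter fun x : Ω => (g : G) • x = x).offDiag by ext w; simp; tauto, offDiag_card,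
        Nat.cast_sub (Nat.le_mul_self _)]
      simp [perm, nfix]
    rw [Finset.sum_congr rfl fun g _ => h1 g, sum_comm]
    refine Finset.sum_eq_zero fun w hw => ?_
    obtain ⟨g₀, hg₀1, hg₀2, hg₀⟩ := hno w.1 w.2 (mem_offDiag.1 hw).2.2
    rw [← sum_filter]
    set s := univ.filter fun g : (stabilizer G c.α) => (g : G) • w.1 = w.1 ∧ (g : G) • w.2 = w.2
    have key : ∑ g ∈ s, conj (lam g) = conj (lam g₀) * ∑ g ∈ s, conj (lam g) := by
      rw [mul_sum]
      refine (sum_equiv (Equiv.mulLeft g₀) (fun g => ?_) fun g _ => ?_).symm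
      · simp only [s, mem_filter, mem_univ, true_and, Equiv.coe_mulLeft, Subgroup.coe_mul, mul_smul]
        constructor
        · rintro ⟨h1, h2⟩; exact ⟨by rw [h1, hg₀1], by rw [h2, hg₀2]⟩
        · rintro ⟨h1, h2⟩
          exact ⟨MulAction.injective (g₀ : G) (h1.trans hg₀1.symm),
            MulAction.injective (g₀ : G) (h2.trans hg₀2.symm)⟩
      · simp
    by_contra hsum
    exact hg₀ (by
      have h2 : conj (lam g₀) = 1 := (mul_eq_right₀ hsum).1 key.symm
      simpa using congrArg conj h2)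
  -- a point on whose stabiliser it is trivial
  obtain ⟨z, hz, hstab⟩ : ∃ z : Ω, z ≠ c.α ∧ ∀ g : (stabilizer G c.α), (g : G) • z = z → lam g = 1 := by
    by_cases hx : x = c.α
    · exact ⟨y, fun e => hxy (hx.trans e.symm), fun g hg => hL g (by rw [hx]; exact g.2) hg⟩
    by_cases hy : y = c.α
    · exact ⟨x, hx, fun g hg => hL g hg (by rw [hy]; exact g.2)⟩
    refine ⟨x, hx, fun g hg => ?_⟩
    let S : Finset Ω := univ.filter fun w => w ≠ c.α ∧ w ≠ x
    have hSmem : ∀ w, w ∈ S ↔ w ≠ c.α ∧ w ≠ x := fun w => by simp [S]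
    have hS : S.card = 2 * q - 1 := by
      rw [show S = (univ.erase c.α).erase x by ext w; simp [S, and_comm],
        card_erase_of_mem (by simp [hx]), card_erase_of_mem (mem_univ _), card_univ, c.hΩ]
      omega
    have hex : ∀ w ∈ S, ∃ k : (stabilizer G c.α), (k : G) • x = x ∧ (k : G) • y = w := fun w hw => by
      obtain ⟨k, hk1, hk2, hk3⟩ := exists_fix_three h3 (Ne.symm hx) hy (Ne.symm hxy)
        ((hSmem w).1 hw).1 ((hSmem w).1 hw).2
      exact ⟨⟨k, hk1⟩, hk2, hk3⟩
    choose k hk1 hk2 using hex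
    let Φ : Ω → ℂ := fun w => if hw : w ∈ S then lam (k w hw) else 1
    have hΦ : ∀ (g : (stabilizer G c.α)), (g : G) • x = x → ∀ w ∈ S, (g : G) • w ∈ S ∧ Φ ((g : G) • w) = lam g * Φ w := by
      intro g hg w hw
      have hgw : (g : G) • w ∈ S := by
        rw [hSmem] at hw ⊢
        exact ⟨fun e => hw.1 (MulAction.injective (g : G) (e.trans g.2.symm)),
          fun e => hw.2 (MulAction.injective (g : G) (e.trans hg.symm))⟩
      refine ⟨hgw, ?_⟩
      simp only [Φ, dif_pos hw, dif_pos hgw]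
      have h1 : lam ((k _ hgw)⁻¹ * (g * k w hw)) = 1 := by
        refine hL _ ?_ ?_
        · simp only [Subgroup.coe_mul, Subgroup.coe_inv, mul_smul]
          rw [hk1, hg, inv_smul_eq_iff, hk1]
        · simp only [Subgroup.coe_mul, Subgroup.coe_inv, mul_smul]
          rw [hk2, inv_smul_eq_iff, hk2]
      calc lam (k _ hgw) = lam (k _ hgw) * lam ((k _ hgw)⁻¹ * (g * k w hw)) := by rw [h1, mul_one]
        _ = lam (g * k w hw) := by rw [← map_mul, mul_inv_cancel_left]
        _ = _ := map_mul _ _ _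
    have hne0 : ∀ g : (stabilizer G c.α), lam g ≠ 0 := fun g h0 => by
      have := hpow g
      rw [h0, zero_pow (by have := c.two_le_f; omega)] at this
      exact zero_ne_one this
    have hprod : ∏ w ∈ S, Φ w = lam g ^ (2 * q - 1) * ∏ w ∈ S, Φ w := by
      rw [← hS, ← prod_const, ← prod_mul_distrib]
      refine (prod_bij (fun w _ => (g : G) • w) (fun w hw => (hΦ g hg w hw).1)
        (fun a _ b _ h => MulAction.injective (g : G) h) (fun w hw => ?_)
        (fun w hw => ((hΦ g hg w hw).2).symm)).symm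
      have hg' : ((g⁻¹ : (stabilizer G c.α)) : G) • x = x := by
        rw [Subgroup.coe_inv, inv_smul_eq_iff, hg]
      exact ⟨_, (hΦ g⁻¹ hg' w hw).1, by simp⟩
    have hΦ0 : ∏ w ∈ S, Φ w ≠ 0 := prod_ne_zero_iff.2 fun w hw => by simp [Φ, hw, hne0]
    have h1 : lam g ^ (2 * q - 1) = 1 := (mul_eq_right₀ hΦ0).1 hprod.symm
    have h2 : lam g ^ (q - 1) = 1 := by rw [← c.hf, pow_mul, hpow, one_pow]
    rw [show 2 * q - 1 = (q - 1) * 2 + 1 by omega, pow_succ, pow_mul, h2, one_pow, one_mul] at h1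
    exact h1
  -- all points
  have hall : ∀ w : Ω, w ≠ c.α → ∀ g : (stabilizer G c.α), (g : G) • w = w → lam g = 1 := by
    intro w hw g hg
    obtain ⟨t, ht, ht'⟩ := (is_two_pretransitive_iff.1 c.two) (Ne.symm hw : c.α ≠ w)
      (Ne.symm hz : c.α ≠ z)
    let t' : (stabilizer G c.α) := ⟨t, ht⟩
    have h1 : lam (t' * g * t'⁻¹) = 1 := hstab _ (by
      simp only [Subgroup.coe_mul, Subgroup.coe_inv, mul_smul, t']
      rw [show t⁻¹ • z = w by rw [inv_smul_eq_iff, ht'], hg, ht'])
    rwa [map_mul, map_mul, mul_right_comm, ← map_mul lam t', mul_inv_cancel, map_one, one_mul] at h1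
  obtain ⟨σ, hσ, hσ1⟩ := c.shapeQ.nontriv
  have hσH : σ ∈ (stabilizer G c.α) := c.NQ_le (Subgroup.le_normalizer hσ)
  let σ' : (stabilizer G c.α) := ⟨σ, hσH⟩
  have hσz : σ • z ≠ z := fun e => hz ((c.fixQ σ hσ hσ1 z).1 e)
  have hσα : σ • z ≠ c.α := fun e => hz (MulAction.injective σ (e.trans (mem_stabilizer_iff.1 hσH).symm))
  obtain ⟨k, hk, hkz⟩ : ∃ k : (stabilizer G c.α), lam k = 1 ∧ (k : G) • z = (h : G) • z := by
    by_cases he : (h : G) • z = σ • z
    · exact ⟨σ', hQ σ' hσ, he.symm⟩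
    · have hhα : (h : G) • z ≠ c.α := fun e =>
        hz (MulAction.injective (h : G) (e.trans h.2.symm))
      obtain ⟨t, ht1, ht2, ht3⟩ := exists_fix_three h3 (Ne.symm hσα) hz (Ne.symm hσz) hhα he
      exact ⟨⟨t, ht1⟩, hall (σ • z) hσα _ ht2, ht3⟩
  have h1 : lam (k⁻¹ * h) = 1 := hall z hz _ (by
    simp only [Subgroup.coe_mul, Subgroup.coe_inv, mul_smul]
    rw [inv_smul_eq_iff, hkz])
  calc lam h = lam (k * (k⁻¹ * h)) := by rw [mul_inv_cancel_left]
    _ = 1 := by rw [map_mul, hk, h1, one_mul]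

/-- There is no constituent of degree `p` with value `1` on `Q - 1`. -/
theorem no_degree_p {φ : IrrCharacter G} (hd : Char.degree φ = p)
    (hval : ∀ y ∈ (c.Q : Subgroup G), y ≠ 1 → φ.1 y = 1)
    (hsub : IsCharacter G (perm G Ω * perm G Ω - perm G Ω - φ.1))
    (h1 : φ ≠ Char.trivialChar G) (h2 : φ ≠ c.chi) {m : ℕ} (hm0 : m ≠ 0)
    (hm : classInner (fun h : stabilizer G c.α => φ.1 h) (c.theta h3).1 = m) : False := by
  set H := stabilizer G c.α with hH
  have hq11 := c.eleven
  obtain ⟨σ, hσ, hσ1⟩ := c.shapeQ.nontriv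
  have hσH : σ ∈ H := c.NQ_le (Subgroup.le_normalizer hσ)
  let σ' : H := ⟨σ, hσH⟩
  have hR0 := isCharacter_sub_irr (Char.IsCharacter.restrict (Char.irr_isCharacter φ) H) (c.theta h3)
    (a := 1) hm (by omega)
  rw [Nat.cast_one, one_smul] at hR0
  set R : H → ℂ := (fun h : H => φ.1 (h : G)) - (c.theta h3).1 with hR
  have hR1 : R 1 = ((2 : ℕ) : ℂ) := by
    rw [hR, Pi.sub_apply, c.theta_one h3, OneMemClass.coe_one, Char.apply_one_eq_degree, hd,
      show (p : ℂ) = ((2 * q + 1 : ℕ) : ℂ) from congrArg Nat.cast c.hpq, Nat.cast_sub (by omega)]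
    push_cast
    ring
  have hRσ : R σ' = R 1 := by
    rw [hR1, hR, Pi.sub_apply, hval σ hσ hσ1, c.theta_sigma h3 hσ hσ1 σ' rfl]
    norm_num
  obtain ⟨M, hM, hMi⟩ := Char.IsCharacter.exists_decomp hR0
  obtain ⟨μ, hμ⟩ := exists_ne_zero_of_decomp hM hR1 two_ne_zero
  have hμ1 : μ ≠ Char.trivialChar H := fun e => by
    have h := hMi (Char.trivialChar H)
    rw [show classInner R (Char.trivialChar H).1 = 0 by
      rw [hR, Char.classInner_sub_left,
        show classInner (fun h : H => φ.1 (h : G)) (Char.trivialChar H).1 = 0 from c.restrict_trivial h1 h2,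
        show classInner (c.theta h3).1 (Char.trivialChar H).1 = 0 from c.theta_orth h3, sub_zero]] at h
    exact hμ (e ▸ (by exact_mod_cast h.symm))
  have hker := apply_eq_of_kernel hM hRσ hμ
  obtain ⟨n, ρ, hρ, hρe⟩ := μ.2
  rw [← hρe] at hker
  have hσK : σ' ∈ ρ.ker := by
    rw [← CharInt.charKernel_eq_ker ρ (Char.isCharacter_character ρ)]
    exact hker
  obtain ⟨Q₀, hQ₀, hscQ₀, hNQ₀⟩ := c.exists_sylow_stab
  have hQK : (Q₀ : Subgroup H) ≤ ρ.ker := by
    have hσQ : σ' ∈ (Q₀ : Subgroup H) := by rw [hQ₀]; exact hσ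
    have hord : orderOf σ' = q := by
      have hd' : orderOf σ' ∣ q := by
        have := Subgroup.orderOf_dvd_natCard _ hσQ
        rwa [show Nat.card (Q₀ : Subgroup H) = q from hscQ₀.card] at this
      exact ((Nat.dvd_prime hq.out).1 hd').resolve_left fun e =>
        hσ1 (congrArg Subtype.val (orderOf_eq_one_iff.1 e))
    rw [← Subgroup.eq_of_le_of_card_ge (Subgroup.zpowers_le.2 hσQ)
      (by rw [Nat.card_zpowers, hord]; exact hscQ₀.card.le)]
    exact Subgroup.zpowers_le.2 hσK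
  haveI : (ρ.ker).Normal := MonoidHom.normal_ker ρ
  set N₀ := Subgroup.normalizer ((Q₀ : Subgroup H) : Set H) with hN₀
  have hfrat : N₀ ⊔ ρ.ker = ⊤ := Q₀.normalizer_sup_eq_top' hQK
  have hcen : ∀ a ∈ N₀, ∀ b ∈ N₀, ρ a * ρ b = ρ b * ρ a := by
    intro a ha b hb
    haveI : IsCyclic (Q₀ : Subgroup H) := isCyclic_of_prime_card hscQ₀.card
    set ψ := Subgroup.normalizerMonoidHom (Q₀ : Subgroup H)
    have hcomm : ψ ((⟨a, ha⟩ : N₀) * ⟨b, hb⟩) = ψ ((⟨b, hb⟩ : N₀) * ⟨a, ha⟩) := by
      rw [map_mul, map_mul]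
      refine (IsCyclic.mulAutMulEquiv (Q₀ : Subgroup H)).injective ?_
      simp only [map_mul]
      exact mul_comm _ _
    have hmem := (MonoidHom.eq_iff ψ).1 hcomm
    rw [Subgroup.normalizerMonoidHom_ker, hscQ₀.cent, Subgroup.mem_subgroupOf] at hmem
    have h1 := MonoidHom.mem_ker.1 (hQK hmem)
    simp only [Subgroup.coe_mul, Subgroup.coe_inv, map_mul] at h1
    calc ρ a * ρ b = ρ b * ρ a * (ρ (b * a)⁻¹ * (ρ a * ρ b)) := by
          rw [← map_mul ρ b a, ← mul_assoc, ← map_mul ρ (b * a), mul_inv_cancel, map_one, one_mul]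
      _ = ρ b * ρ a := by rw [h1, mul_one]
  have hdec : ∀ g : H, ∃ a ∈ N₀, ρ g = ρ a := fun g => by
    obtain ⟨a, ha, k, hk, rfl⟩ := (Subgroup.mem_sup_of_normal_right (s := N₀) (t := ρ.ker)).1
      (show g ∈ N₀ ⊔ ρ.ker by rw [hfrat]; trivial)
    exact ⟨a, ha, by rw [map_mul, MonoidHom.mem_ker.1 hk, mul_one]⟩
  have hn : n = 1 := degree_eq_one_of_comm ρ hρ fun g g' => by
    obtain ⟨a, ha, e⟩ := hdec g
    obtain ⟨b, hb, e'⟩ := hdec g'
    rw [e, e', hcen a ha b hb]
  have hμd : μ.1 1 = 1 := by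
    rw [← hρe, ρ.char_one, Module.finrank_fin_fun, hn, Nat.cast_one]
  obtain ⟨lam, hlam⟩ := Char.IsCharacter.exists_monoidHom (Char.irr_isCharacter μ) hμd
  have hlamg : ∀ g : H, lam g = ρ.character g := fun g => by
    rw [hρe]
    first | exact congrFun hlam g | exact (congrFun hlam g).symm
  have hlamker : ∀ g : H, g ∈ ρ.ker → lam g = 1 := fun g hg => by
    rw [hlamg, Representation.character, MonoidHom.mem_ker.1 hg, ← map_one ρ]
    show ρ.character 1 = 1
    rw [ρ.char_one, Module.finrank_fin_fun, hn, Nat.cast_one]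
  have hQ1 : ∀ g : H, (g : G) ∈ (c.Q : Subgroup G) → lam g = 1 := fun g hg =>
    hlamker g (hQK (by rw [hQ₀]; exact hg))
  have hpow : ∀ g : H, lam g ^ c.f = 1 := fun g => by
    obtain ⟨a, ha, k, hk, rfl⟩ := (Subgroup.mem_sup_of_normal_right (s := N₀) (t := ρ.ker)).1
      (show g ∈ N₀ ⊔ ρ.ker by rw [hfrat]; trivial)
    have hidx : ((Q₀ : Subgroup H).subgroupOf N₀).index = c.f := by
      have h := ((Q₀ : Subgroup H).subgroupOf N₀).card_mul_index
      rw [Nat.card_congr (Subgroup.subgroupOfEquivOfLe (Subgroup.le_normalizer (H := (Q₀ : Subgroup H)))).toEquiv,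
        hNQ₀, show Nat.card (Q₀ : Subgroup H) = q from hscQ₀.card] at h
      exact Nat.eq_of_mul_eq_mul_left hq.out.pos h
    haveI : ((Q₀ : Subgroup H).subgroupOf N₀).Normal := Subgroup.normal_in_normalizer
    have h := Subgroup.pow_index_mem ((Q₀ : Subgroup H).subgroupOf N₀) ⟨a, ha⟩
    rw [hidx, Subgroup.mem_subgroupOf, SubgroupClass.coe_pow] at h
    rw [map_mul, hlamker k hk, mul_one, ← map_pow, hlamker _ (hQK h)]
  have hall := c.linear_trivial h3 lam hQ1 hpow (by
    obtain ⟨n', hn'⟩ := Char.IsCharacter.exists_nat_classInner (Char.IsCharacter.restrict hsub H)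
      (Char.irr_isCharacter μ)
    obtain ⟨n'', hn''⟩ := Char.IsCharacter.exists_nat_classInner (Char.irr_isCharacter (c.theta h3))
      (Char.irr_isCharacter μ)
    have e : (fun h : H => perm G Ω (h : G) * perm G Ω (h : G) - perm G Ω (h : G)) =
        (fun h : H => (perm G Ω * perm G Ω - perm G Ω - φ.1) (h : G)) + (R + (c.theta h3).1) := by
      funext h
      simp [hR]
    have hlam' : (fun h => lam h) = μ.1 := funext fun g => by rw [hlamg, hρe]
    rw [e, hlam', Char.classInner_add_left, Char.classInner_add_left, hMi, hn', hn'']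
    exact_mod_cast (by omega : n' + (M μ + n'') ≠ 0))
  exact hμ1 (Subtype.ext (funext fun g => by rw [← hρe, ← hlamg, hall, Char.trivialChar_apply]))

end Ctx

end Cfsg.Agent.PrimeTwoQ
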