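import Cfsg.Agent.Lib.PrimeTwoQ.ThreeY
import Cfsg.Agent.Lib.Char.PRegular

/-!
# Triply transitive implies quadruply transitive in degree `2 q + 1`
-/

set_option autoImplicit false
set_option linter.unusedSectionVars false
set_option linter.style.haveILetI false

namespace Cfsg.Agent.PrimeTwoQ

open Cfsg Cfsg.Agent MulAction Finset
open scoped Classical ComplexConjugate

universe u v

variable {G : Type u} [Group G] [Fintype G] {Ω : Type v} [Fintype Ω] [MulAction G Ω]
  {p q : ℕ} [hp : Fact p.Prime] [hq : Fact q.Prime]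

theorem nfix_le_sq (g : G) : nfix Ω g ≤ nfix Ω (g ^ 2) :=
  card_le_card fun x hx => by
    simp only [mem_filter, mem_univ, true_and] at hx ⊢
    rw [pow_two, mul_smul, hx, hx]

/-- The pointwise inequality of the moment argument. -/
theorem moment_bound {q r W pp : ℤ} (hq : 11 ≤ q) (hp : pp = 2 * q + 1) (hr : 0 ≤ r) (hW : 0 ≤ W)
    (hWle : W ≤ r ^ 2 - 4 * r + pp) :
    2 * (r * (r - 1) * W - r * (r - 1) * (r - 2) * (r - 3)) ≤ (q - 1) * r * W := by
  rcases lt_or_ge r 4 with h | h
  · interval_cases r <;> nlinarith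
  · have key : (2 * r - q - 1) * W ≤ 2 * (r - 1) * (r - 2) * (r - 3) := by
      have h23 : 0 ≤ (r - 1) * ((r - 2) * (r - 3)) :=
        mul_nonneg (by omega) (mul_nonneg (by omega) (by omega))
      rcases le_or_gt (2 * r - q - 1) 0 with hc | hc
      · have := mul_nonpos_of_nonpos_of_nonneg hc hW
        linarith
      · have h1 := mul_le_mul_of_nonneg_left hWle hc.le
        have h2 : 0 ≤ (q - 3) * r ^ 2 + (16 - 8 * q) * r + ((q + 1) * (2 * q + 1) - 12) := by
          have h3 : 0 ≤ (q - 3) * ((q + 1) * (2 * q + 1) - 12) - (4 * q - 8) ^ 2 := by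
            nlinarith [mul_le_mul_of_nonneg_right hq (mul_self_nonneg (q : ℤ))]
          have h4 : 0 ≤ (q - 3) * ((q - 3) * r ^ 2 + (16 - 8 * q) * r + ((q + 1) * (2 * q + 1) - 12)) := by
            nlinarith [sq_nonneg ((q - 3) * r - (4 * q - 8))]
          exact nonneg_of_mul_nonneg_right h4 (by omega)
        subst hp
        nlinarith
    have := mul_le_mul_of_nonneg_left key hr
    nlinarith

namespace Ctx

variable (c : Ctx G Ω p q) (h3 : IsMultiplyPretransitive G Ω 3)
include c h3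

omit h3 in
theorem real_sqp (g : G) : conj (sqp G Ω g) = sqp G Ω g := Complex.conj_natCast _

omit h3 in
theorem real_XX (g : G) : conj (XX G Ω g) = XX G Ω g := by
  simp [XX, map_div₀, c.real_perm, c.real_sqp, map_ofNat]

omit h3 in
theorem real_YY (g : G) : conj (YY G Ω g) = YY G Ω g := by
  simp [YY, map_div₀, c.real_perm, c.real_sqp, map_ofNat]

theorem inner_eq_zero : classInner (XX G Ω) (YY G Ω) = 0 := by
  obtain ⟨M, hM, hMi⟩ := Char.IsCharacter.exists_decomp (c.isCharacter_YY h3)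
  have hD := c.YY_one h3
  have hB : ∀ φ, M φ ≠ 0 → 2 * q + 1 ≤ Char.degree φ := fun φ h =>
    c.le_degree h3 (Or.inr (by rw [hMi]; exact Nat.cast_ne_zero.2 h))
  have hq1 : 1 ≤ p * (q - 1) := Nat.one_le_iff_ne_zero.2 (Nat.mul_ne_zero hp.out.ne_zero
    (by have := c.eleven; omega))
  have h0 : classInner (YY G Ω) (XX G Ω) = 0 := by
    rcases c.XX_cases h3 with ⟨ψ, hψ⟩ | ⟨hne, hdeg, hX⟩
    · rw [hψ, hMi]
      have hd : Char.degree ψ = p * (q - 1) := by
        have := c.XX_one h3
        rw [hψ, Char.apply_one_eq_degree] at this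
        exact_mod_cast this
      norm_cast
      by_contra h
      have := (eq_irr_of_exhaust hM hD hB h (by rw [hd]; have := c.eleven; omega)).2.1
      omega
    · rw [hX, Char.classInner_sum_right]
      refine Finset.sum_eq_zero fun θ hθ => ?_
      rw [hMi]
      norm_cast
      by_contra h
      obtain ⟨M₂, a, hM₂, hMi₂, ha, -, hdeg₂, -⟩ := c.shapeQ.split (m := c.f) c.two_le_f
        (c.isCharacter_YY h3) (fun y hy hy1 => c.YY_Q h3 hy hy1) hD
      obtain rfl : M₂ = M := funext fun ψ => by exact_mod_cast (hMi₂ ψ).symm.trans (hMi ψ)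
      rw [c.sum_Y_degree hθ, hdeg θ hθ, show c.N * (p * c.f) = p * (q - 1) by rw [← c.hf]; ring] at hdeg₂
      rw [ha θ hθ] at h
      have ha1 : p * (q - 1) ≤ a * (p * (q - 1)) := Nat.le_mul_of_pos_left _ (Nat.pos_of_ne_zero h)
      have hrest : ∑ φ ∈ univ \ c.shapeQ.Y, M₂ φ * Char.degree φ ≤ 1 := by omega
      have hall : ∀ φ ∈ univ \ c.shapeQ.Y, M₂ φ * Char.degree φ = 0 := fun φ hφ => by
        have h1 := (Finset.single_le_sum (f := fun φ => M₂ φ * Char.degree φ)
          (fun _ _ => Nat.zero_le _) hφ).trans hrest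
        by_contra h0
        have h2 : M₂ φ ≠ 0 := left_ne_zero_of_mul h0
        have h4 : Char.degree φ ≤ M₂ φ * Char.degree φ := Nat.le_mul_of_pos_left _ (Nat.pos_of_ne_zero h2)
        have := hB φ h2
        have := c.eleven
        omega
      rw [Finset.sum_eq_zero hall, zero_add] at hdeg₂
      rcases Nat.lt_or_ge a 2 with h5 | h5
      · rw [show a = 1 by omega, one_mul] at hdeg₂
        omega
      · have : 2 * (p * (q - 1)) ≤ a * (p * (q - 1)) := Nat.mul_le_mul_right _ h5
        have : 2 ≤ p * (q - 1) := le_trans (by have := c.eleven; omega : 2 ≤ q - 1) (Nat.le_mul_of_pos_left _ hp.out.pos)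
        omega
  rw [← Char.conj_classInner, h0, map_zero]

/-- The norms. -/
theorem inner_pairs : classInner (perm G Ω * perm G Ω - perm G Ω) (XX G Ω) = classInner (XX G Ω) (XX G Ω) ∧
    classInner (perm G Ω * perm G Ω - perm G Ω) (YY G Ω) = classInner (YY G Ω) (YY G Ω) ∧
    classInner (perm G Ω * perm G Ω - perm G Ω) (perm G Ω * perm G Ω - perm G Ω) =
      5 + classInner (XX G Ω) (XX G Ω) + classInner (YY G Ω) (YY G Ω) := by
  have hX := c.inner_XX h3
  have hY := c.inner_YY h3
  have hX1 : classInner (XX G Ω) (Char.trivialChar G).1 = 0 := hX.1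
  have hY1 : classInner (YY G Ω) (Char.trivialChar G).1 = 0 := hY.1
  have hX2 := c.inner_chi h3 hX.1 hX.2
  have hY2 := c.inner_chi h3 hY.1 hY.2
  have hXY := c.inner_eq_zero h3
  have hYX : classInner (YY G Ω) (XX G Ω) = 0 := by rw [← Char.conj_classInner, hXY, map_zero]
  have a1 : classInner (Char.trivialChar G).1 (XX G Ω) = 0 := by rw [← Char.conj_classInner, hX1, map_zero]
  have a2 : classInner (Char.trivialChar G).1 (YY G Ω) = 0 := by rw [← Char.conj_classInner, hY1, map_zero]
  have a3 : classInner c.chi.1 (XX G Ω) = 0 := by rw [← Char.conj_classInner, hX2, map_zero]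
  have a4 : classInner c.chi.1 (YY G Ω) = 0 := by rw [← Char.conj_classInner, hY2, map_zero]
  refine ⟨?_, ?_, ?_⟩
  · rw [c.perm_sub_eq, Char.classInner_add_left, Char.classInner_add_left, Char.classInner_add_left,
      Char.classInner_smul_left, a1, a3, hYX]
    ring
  · rw [c.perm_sub_eq, Char.classInner_add_left, Char.classInner_add_left, Char.classInner_add_left,
      Char.classInner_smul_left, a2, a4, hXY]
    ring
  · simp only [c.perm_sub_eq, Char.classInner_add_left, Char.classInner_add_right,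
      Char.classInner_smul_left, Char.classInner_smul_right, Char.classInner_irr, a1, a2, a3, a4,
      hX1, hX2, hY1, hY2, hXY, hYX, if_neg c.chi_ne, if_neg (Ne.symm c.chi_ne), if_true, map_ofNat]
    ring

/-- The sum of the falling fourth powers. -/
theorem sum_four {x y : ℕ} (hx : classInner (XX G Ω) (XX G Ω) = x)
    (hy : classInner (YY G Ω) (YY G Ω) = y) :
    ∑ g : G, (nfix Ω g : ℂ) * ((nfix Ω g : ℂ) - 1) * ((nfix Ω g : ℂ) - 2) * ((nfix Ω g : ℂ) - 3) =
      ((x : ℂ) + y - 1) * Nat.card G := by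
  have h := (c.inner_pairs h3).2.2
  rw [hx, hy, classInner, inv_mul_eq_iff_eq_mul₀ Char.card_ne_zero] at h
  simp only [Pi.sub_apply, Pi.mul_apply, map_sub, map_mul, perm_apply, Complex.conj_natCast] at h
  rw [Finset.sum_congr rfl fun g _ => show
    (nfix Ω g : ℂ) * ((nfix Ω g : ℂ) - 1) * ((nfix Ω g : ℂ) - 2) * ((nfix Ω g : ℂ) - 3) =
    ((nfix Ω g : ℂ) * (nfix Ω g : ℂ) - (nfix Ω g : ℂ)) * ((nfix Ω g : ℂ) * (nfix Ω g : ℂ) - (nfix Ω g : ℂ)) -
      4 * ((nfix Ω g : ℂ) * ((nfix Ω g : ℂ) - 1) * ((nfix Ω g : ℂ) - 2)) -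
      2 * ((nfix Ω g : ℂ) * ((nfix Ω g : ℂ) - 1)) by ring,
    sum_sub_distrib, sum_sub_distrib, ← mul_sum, ← mul_sum, h, c.sum_perm_three h3, c.sum_perm_two]
  ring

theorem norm_YY_le {x y : ℕ} (hx : classInner (XX G Ω) (XX G Ω) = x)
    (hy : classInner (YY G Ω) (YY G Ω) = y) : y ≤ x := by
  have h := c.inner_pairs h3
  have hone : classInner (perm G Ω * perm G Ω - perm G Ω) (fun _ => (1 : ℂ)) = 1 := by
    rw [c.perm_sub_eq, Char.classInner_add_left, Char.classInner_add_left, Char.classInner_add_left,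
      Char.classInner_smul_left, (c.inner_XX h3).1, (c.inner_YY h3).1,
      show classInner (Char.trivialChar G).1 (fun _ => (1 : ℂ)) = 1 from
        Char.classInner_irr_self Char.isIrrCharacter_one,
      show classInner c.chi.1 (fun _ => (1 : ℂ)) = 0 from Char.classInner_eq_zero_of_ne c.chi_ne]
    ring
  have hsum : ∑ g : G, ((nfix Ω g : ℂ) * (nfix Ω g : ℂ) - (nfix Ω g : ℂ)) *
      ((nfix Ω (g ^ 2) : ℂ) - (nfix Ω g : ℂ)) = ((x : ℂ) - y + 1) * Nat.card G := by
    have h1 : classInner (perm G Ω * perm G Ω - perm G Ω) (sqp G Ω - perm G Ω) = (x : ℂ) - y + 1 := by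
      rw [show sqp G Ω - perm G Ω = XX G Ω - YY G Ω + fun _ => (1 : ℂ) by
        funext g; simp [XX, YY]; ring,
        Char.classInner_add_right, Char.classInner_sub_right, h.1, h.2.1, hx, hy, hone]
    rw [classInner, inv_mul_eq_iff_eq_mul₀ Char.card_ne_zero] at h1
    simp only [Pi.sub_apply, Pi.mul_apply, map_sub, perm_apply, sqp, Complex.conj_natCast] at h1
    rw [h1, mul_comm]
  have hnonneg : ∀ g : G, 0 ≤ ((nfix Ω g : ℝ) * (nfix Ω g : ℝ) - (nfix Ω g : ℝ)) *
      ((nfix Ω (g ^ 2) : ℝ) - (nfix Ω g : ℝ)) := fun g => by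
    refine mul_nonneg ?_ (sub_nonneg.2 (Nat.cast_le.2 (nfix_le_sq g)))
    rcases Nat.eq_zero_or_pos (nfix Ω g) with h0 | h0
    · simp [h0]
    · have : (1 : ℝ) ≤ (nfix Ω g : ℝ) := by exact_mod_cast h0
      nlinarith
  obtain ⟨g₀, h3fix, hlt⟩ := c.exists_involution
  have hpos : 0 < ∑ g : G, ((nfix Ω g : ℝ) * (nfix Ω g : ℝ) - (nfix Ω g : ℝ)) *
      ((nfix Ω (g ^ 2) : ℝ) - (nfix Ω g : ℝ)) := by
    refine Finset.sum_pos' (fun g _ => hnonneg g) ⟨g₀, mem_univ _, mul_pos ?_ (sub_pos.2 (by exact_mod_cast hlt))⟩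
    have : (3 : ℝ) ≤ (nfix Ω g₀ : ℝ) := by exact_mod_cast h3fix
    nlinarith
  have hreal : ∑ g : G, ((nfix Ω g : ℝ) * (nfix Ω g : ℝ) - (nfix Ω g : ℝ)) *
      ((nfix Ω (g ^ 2) : ℝ) - (nfix Ω g : ℝ)) = ((x : ℝ) - y + 1) * Nat.card G := by
    apply Complex.ofReal_injective
    push_cast
    exact hsum
  rw [hreal] at hpos
  have h6 : (0 : ℝ) < (x : ℝ) - y + 1 :=
    (mul_pos_iff_of_pos_right (Nat.cast_pos.2 Nat.card_pos)).1 hpos
  have h7 : (y : ℝ) < ((x + 1 : ℕ) : ℝ) := by push_cast; linarith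
  have : y < x + 1 := by exact_mod_cast h7
  omega

/-- The family case contradicts the moment inequality. -/
theorem family_false (hne : c.shapeQ.Y.Nonempty) (hX : XX G Ω = ∑ θ ∈ c.shapeQ.Y, θ.1)
    (hy : classInner (YY G Ω) (YY G Ω) = ((1 : ℕ) : ℂ)) : False := by
  have hq11 := c.eleven
  have hcard := c.card_Y hne
  have hN2 : 2 ≤ c.N := hcard ▸ (c.shapeQ.big hne).1
  have hx : classInner (XX G Ω) (XX G Ω) = (c.N : ℂ) := by
    rw [hX, Char.classInner_sum_left, Finset.sum_congr rfl fun θ hθ => by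
      rw [Char.classInner_sum_right, Finset.sum_congr rfl fun φ _ => Char.classInner_irr θ φ,
        Finset.sum_ite_eq, if_pos hθ]]
    simp [hcard]
  set r : G → ℤ := fun g => (nfix Ω g : ℤ) with hr
  set W : G → ℤ := fun g => r g ^ 2 - 4 * r g + (nfix Ω (g ^ 2) : ℤ) with hW
  have hWX : ∀ g, (W g : ℂ) = 2 * XX G Ω g := fun g => by
    simp [W, r, XX, perm, sqp]; ring
  set S := univ.filter fun g : G => q ∣ orderOf g
  have hsing : ∀ g ∈ S, r g = 1 ∧ W g = -2 := by
    intro g hg
    obtain ⟨y, hy', hy1, hgy⟩ := c.shapeQ.sing g (mem_filter.1 hg).2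
    obtain ⟨t, ht⟩ := isConj_iff.1 hgy
    have h1 : nfix Ω g = 1 := by
      have := isClassFunction_nfix (H := G) (S := Ω) g t
      simp only at this
      rw [ht] at this
      rw [← c.nfix_Q hy' hy1]
      exact_mod_cast this.symm
    have h2 : nfix Ω (g ^ 2) = 1 := by
      have := isClassFunction_nfix (H := G) (S := Ω) (g ^ 2) t
      simp only at this
      rw [← conj_pow, ht] at this
      rw [← c.nfix_sq_Q hy' hy1]
      exact_mod_cast this.symm
    refine ⟨by simp [r, h1], ?_⟩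
    simp [W, r, h1, h2]
  have hreg : ∀ g ∉ S, 0 ≤ W g := by
    intro g hg
    have hg' : ¬ q ∣ orderOf g := fun h => hg (mem_filter.2 ⟨mem_univ _, h⟩)
    obtain ⟨θ, hθ⟩ := hne
    have h1 : XX G Ω g = (c.N : ℂ) * θ.1 g := by
      rw [hX, Finset.sum_apply, Finset.sum_congr rfl fun φ hφ => c.shapeQ.agree φ hφ θ hθ g hg',
        sum_const, hcard, nsmul_eq_mul]
    obtain ⟨z, hz⟩ := Char.exists_int_of_isIntegral_mul (c := (2 * c.N : ℤ)) (N := W g)
      (CharInt.isIntegral_char (Char.irr_isCharacter θ) g) (by omega)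
      (by rw [hWX, h1]; push_cast; ring)
    have h2 : (W g : ℂ) = ((2 * c.N * z : ℤ) : ℂ) := by rw [hWX, h1, hz]; push_cast; ring
    have h4 : W g = 2 * c.N * z := by exact_mod_cast h2
    have hge' : -2 ≤ W g := by
      have h5 : (nfix Ω g : ℤ) ≤ (nfix Ω (g ^ 2) : ℤ) := by exact_mod_cast nfix_le_sq g
      simp only [W, r]
      nlinarith [sq_nonneg ((nfix Ω g : ℤ) * 2 - 3)]
    have hN2Z : (2 : ℤ) ≤ c.N := by exact_mod_cast hN2
    rw [h4] at hge' ⊢
    have : 0 ≤ z := by nlinarith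
    positivity
  set W' : G → ℤ := fun g => if g ∈ S then 0 else W g with hW'
  have hpt : ∀ g : G, 2 * (r g * (r g - 1) * W g - r g * (r g - 1) * (r g - 2) * (r g - 3)) ≤
      ((q : ℤ) - 1) * ((r g - 1) * W g + W' g) := by
    intro g
    by_cases hg : g ∈ S
    · obtain ⟨h1, h2⟩ := hsing g hg
      simp [W', hg, h1, h2]
    · have hle : (nfix Ω (g ^ 2) : ℤ) ≤ (p : ℤ) := by
        have := nfix_le (S := Ω) (g ^ 2)
        rw [c.hΩ] at this
        exact_mod_cast this
      have h := moment_bound (q := (q : ℤ)) (r := r g) (W := W g) (pp := (p : ℤ)) (by exact_mod_cast hq11)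
        (by exact_mod_cast c.hpq) (Int.natCast_nonneg _) (hreg g hg) (by simp only [W]; linarith)
      simp only [W', if_neg hg]
      linarith
  have hsum := Finset.sum_le_sum (s := (univ : Finset G)) fun g _ => hpt g
  rw [← mul_sum, ← mul_sum, sum_sub_distrib, sum_add_distrib] at hsum
  -- the sums
  have e1 : ∑ g, r g * (r g - 1) * W g = 2 * c.N * (Nat.card G : ℤ) := by
    apply Int.cast_injective (α := ℂ)
    push_cast
    have h := (c.inner_pairs h3).1
    rw [hx, classInner, inv_mul_eq_iff_eq_mul₀ Char.card_ne_zero] at h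
    simp only [Pi.sub_apply, Pi.mul_apply, perm_apply, c.real_XX] at h
    rw [Finset.sum_congr rfl fun g _ => show (r g : ℂ) * ((r g : ℂ) - 1) * (W g : ℂ) =
      2 * (((nfix Ω g : ℂ) * (nfix Ω g : ℂ) - (nfix Ω g : ℂ)) * XX G Ω g) by
        rw [hWX]; simp [r]; ring, ← mul_sum, h]
    ring
  have e2 : ∑ g, r g * (r g - 1) * (r g - 2) * (r g - 3) = (c.N : ℤ) * Nat.card G := by
    apply Int.cast_injective (α := ℂ)
    push_cast
    have h := c.sum_four h3 hx hy
    simp only [r, Int.cast_natCast]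
    rw [h]
    push_cast; ring
  have e3 : ∑ g, (r g - 1) * W g = 0 := by
    apply Int.cast_injective (α := ℂ)
    push_cast
    have h1 := (c.inner_XX h3).1
    have h2 := (c.inner_XX h3).2
    rw [classInner_one_right, mul_eq_zero, or_iff_right (inv_ne_zero Char.card_ne_zero)] at h1
    rw [classInner_of_real c.real_perm, mul_eq_zero, or_iff_right (inv_ne_zero Char.card_ne_zero)] at h2
    rw [Finset.sum_congr rfl fun g _ => show ((r g : ℂ) - 1) * (W g : ℂ) =
      2 * (XX G Ω g * perm G Ω g - XX G Ω g) by rw [hWX]; simp [r, perm]; ring,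
      ← mul_sum, sum_sub_distrib, h1, h2]
    ring
  have e4 : ∑ g, W' g = 2 * (S.card : ℤ) := by
    have h1 : ∑ g, W g = 0 := by
      apply Int.cast_injective (α := ℂ)
      push_cast
      have h := (c.inner_XX h3).1
      rw [classInner_one_right, mul_eq_zero, or_iff_right (inv_ne_zero Char.card_ne_zero)] at h
      simp only [hWX]
      rw [← mul_sum, h, mul_zero]
    have h2 : ∑ g, W g = ∑ g, W' g + ∑ g ∈ S, W g := by
      rw [← Finset.sum_filter_add_sum_filter_not univ (· ∈ S) W, filter_mem_eq_inter, univ_inter,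
        add_comm]
      congr 1
      rw [sum_filter]
      exact Finset.sum_congr rfl fun g _ => by simp only [W']; by_cases hg : g ∈ S <;> simp [hg]
    rw [Finset.sum_congr rfl fun g hg => (hsing g hg).2, sum_const, nsmul_eq_mul] at h2
    linarith
  rw [e1, e2, e3, e4] at hsum
  have hS : (S.card : ℤ) * q = c.N * Nat.card G := by exact_mod_cast c.card_sing_q
  have hGpos : (0 : ℤ) < c.N * Nat.card G := by
    have : (0 : ℤ) < c.N := by omega
    have := Nat.card_pos (α := G)
    positivity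
  have hqpos : (0 : ℤ) ≤ q := Int.natCast_nonneg q
  nlinarith [mul_le_mul_of_nonneg_right hsum hqpos]

/-- Triply transitive implies quadruply transitive. -/
theorem four_of_three : IsMultiplyPretransitive G Ω 4 := by
  have hq11 := c.eleven
  obtain ⟨x, hx⟩ := Char.IsCharacter.exists_nat_classInner (c.isCharacter_XX h3) (c.isCharacter_XX h3)
  obtain ⟨y, hy⟩ := Char.IsCharacter.exists_nat_classInner (c.isCharacter_YY h3) (c.isCharacter_YY h3)
  have hle := c.norm_YY_le h3 hx hy
  rcases c.XX_cases h3 with ⟨ψ, hψ⟩ | ⟨hne, hdeg, hX⟩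
  · have hx1 : x = 1 := by
      have : (x : ℂ) = ((1 : ℕ) : ℂ) := by rw [← hx, hψ, Char.classInner_irr, if_pos rfl, Nat.cast_one]
      exact_mod_cast this
    have hy1 : y = 1 := by
      rcases Nat.eq_zero_or_pos y with h0 | h0
      · exfalso
        rw [h0, Nat.cast_zero] at hy
        have h1 := c.YY_one h3
        rw [Char.classInner_self_eq_zero hy, Pi.zero_apply] at h1
        have : p * (q - 1) + 1 = 0 := by exact_mod_cast h1.symm
        omega
      · omega
    have h := c.sum_four h3 hx hy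
    rw [hx1, hy1] at h
    refine isMultiplyPretransitive_of_sum ?_
    apply Nat.cast_injective (R := ℂ)
    rw [Nat.cast_sum]
    refine Eq.trans (Finset.sum_congr rfl fun g _ => ?_) (h.trans (by push_cast; ring))
    rcases nfix Ω g with _ | _ | _ | n
    · simp
    · simp [Nat.descFactorial_succ]
    · simp [Nat.descFactorial_succ]
    · simp [Nat.descFactorial_succ]; ring
  · exfalso
    obtain ⟨ψ, hψ⟩ := c.YY_irreducible_of_family h3 hne hdeg
    exact c.family_false h3 hne hX (by rw [hψ, Char.classInner_irr, if_pos rfl, Nat.cast_one])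

end Ctx

end Cfsg.Agent.PrimeTwoQ
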