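import Cfsg.Agent.Lib.PrimeTwoQ.ThreeClassify
import Cfsg.Agent.Lib.PrimeTwoQ.ThreeLinear

/-!
# If `X` is the exceptional family, then `Y` is irreducible
-/

set_option autoImplicit false
set_option linter.unusedSectionVars false
set_option linter.style.haveILetI false

namespace Cfsg.Agent.PrimeTwoQ

open Cfsg Cfsg.Agent MulAction Finset
open scoped Classical ComplexConjugate

universe u v

variable {G : Type u} [Group G] [Fintype G] {Ω : Type v} [Fintype Ω] [MulAction G Ω]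
  {p q : ℕ} [hp : Fact p.Prime] [hq : Fact q.Prime]

namespace Ctx

variable (c : Ctx G Ω p q) (h3 : IsMultiplyPretransitive G Ω 3)
include c h3

theorem YY_irreducible_of_family (hne : c.shapeQ.Y.Nonempty)
    (hfam : ∀ θ ∈ c.shapeQ.Y, Char.degree θ = p * c.f) : ∃ ψ : IrrCharacter G, YY G Ω = ψ.1 := by
  have hq11 := c.eleven
  have hpq := c.hpq
  have hpZ : (p : ℤ) = 2 * q + 1 := by exact_mod_cast hpq
  have hq1 : ((q - 1 : ℕ) : ℤ) = (q : ℤ) - 1 := by omega
  have hY := c.isCharacter_YY h3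
  have hD := c.YY_one h3
  obtain ⟨M, a, hM, hMi, ha, ha0, hdeg, hval⟩ := c.shapeQ.split (m := c.f) c.two_le_f hY
    (fun y hy hy1 => c.YY_Q h3 hy hy1) hD
  obtain ⟨M', a', -, hMi', ha', ha0', -, hval'⟩ := c.shapeP.split (m := q) c.two_le_q hY
    (fun y hy hy1 => c.YY_P h3 hy hy1) hD
  obtain rfl : M' = M := funext fun ψ => by exact_mod_cast (hMi' ψ).symm.trans (hMi ψ)
  have hB : ∀ φ, M' φ ≠ 0 → 2 * q + 1 ≤ Char.degree φ := fun φ h =>
    c.le_degree h3 (Or.inr (by rw [hMi]; exact Nat.cast_ne_zero.2 h))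
  -- the family does not occur
  obtain ⟨θ, hθ⟩ := id hne
  have hfamsum : ∑ φ ∈ c.shapeQ.Y, Char.degree φ = p * (q - 1) := by
    rw [c.sum_Y_degree hθ, hfam θ hθ, ← c.hf]; ring
  rw [hfamsum] at hdeg
  have ha00 : a = 0 := by
    by_contra hne0
    have hle : a * (p * (q - 1)) ≤ p * (q - 1) + 1 := by omega
    have hbig : 2 ≤ p * (q - 1) := by
      have : 2 * 1 ≤ p * (q - 1) := Nat.mul_le_mul (by omega) (by omega)
      omega
    have ha1 : a = 1 := by
      by_contra h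
      have : 2 * (p * (q - 1)) ≤ a * (p * (q - 1)) := Nat.mul_le_mul_right _ (by omega)
      omega
    rw [ha1, one_mul] at hdeg
    obtain ⟨φ, hφ, hφne⟩ := Finset.exists_ne_zero_of_sum_ne_zero (s := univ \ c.shapeQ.Y)
      (f := fun φ => M' φ * Char.degree φ) (by omega)
    have h1 : M' φ * Char.degree φ ≤ ∑ ψ ∈ univ \ c.shapeQ.Y, M' ψ * Char.degree ψ :=
      Finset.single_le_sum (f := fun φ => M' φ * Char.degree φ) (fun _ _ => Nat.zero_le _) hφ
    have h2 : M' φ ≠ 0 := left_ne_zero_of_mul hφne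
    have h4 : Char.degree φ ≤ M' φ * Char.degree φ := Nat.le_mul_of_pos_left _ (Nat.pos_of_ne_zero h2)
    have := hB φ h2
    omega
  simp only [ha00, zero_mul, Nat.cast_zero, sub_zero] at hval
  have hout : ∀ φ, M' φ ≠ 0 → φ ∉ c.shapeQ.Y := fun φ h hφ => h (by rw [ha φ hφ, ha00])
  by_cases hneg : ∃ ψ ∈ univ \ c.shapeQ.Y, M' ψ ≠ 0 ∧ c.shapeQ.z ψ = -1
  · exfalso
    obtain ⟨ψ, hψ, hMψ, hz⟩ := hneg
    have hdle : Char.degree ψ ≤ p * (q - 1) + 1 :=
      (Nat.le_mul_of_pos_left _ (Nat.pos_of_ne_zero hMψ)).trans (mul_degree_le hM hD ψ)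
    have hdq : (Char.degree ψ : ℤ) ≡ -1 [ZMOD q] := hz ▸ c.shapeQ.deg ψ (mem_sdiff.1 hψ).2
    have hdleZ : (Char.degree ψ : ℤ) ≤ (p : ℤ) * ((q : ℤ) - 1) + 1 := by
      rw [← hq1]; exact_mod_cast hdle
    have hdZ : (2 * q + 1 : ℤ) ≤ Char.degree ψ := by exact_mod_cast hB ψ hMψ
    by_cases hP : ψ ∈ c.shapeP.Y
    · have h2 : 2 * (Char.degree ψ : ℤ) ≤ (p : ℤ) * ((q : ℤ) - 1) + 1 := by
        rw [← hq1]; exact_mod_cast c.pair_le hM hD ha' hP hMψ
      obtain ⟨j, hj, hdvd⟩ := exists_coeff hpq (c.shapeP.Y_deg ψ hP) hdq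
      have hj1 : (q : ℤ) ∣ j + 1 := by
        have := dvd_sub hdvd (dvd_mul_left (q : ℤ) c.shapeP.ε)
        rwa [show j + c.shapeP.ε * q - -1 - c.shapeP.ε * q = j + 1 by ring] at this
      have hεb : c.shapeP.ε * (q : ℤ) ≤ q ∧ -(q : ℤ) ≤ c.shapeP.ε * q := by
        rcases c.shapeP.hε with e | e <;> rw [e] <;> omega
      have hjlo : 1 ≤ j := by nlinarith
      have hjhi : (q : ℤ) - 1 ≤ j := by
        have := Int.le_of_dvd (by omega) hj1
        omega
      nlinarith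
    · obtain ⟨j, hj, hdvd⟩ := exists_coeff hpq (c.shapeP.deg ψ hP) hdq
      have hzb : -1 ≤ c.shapeP.z ψ ∧ c.shapeP.z ψ ≤ 1 := by
        rcases c.shapeP.hz ψ with e | e | e <;> omega
      have hjlo : 1 ≤ j := by nlinarith
      have hjhi : j ≤ (q : ℤ) - 1 := by nlinarith
      obtain ⟨i, hi⟩ := hdvd
      have hi1 : i = 1 := by
        have h1 : 0 < i := by nlinarith
        have h2 : i < 2 := by nlinarith
        omega
      rw [hi1, mul_one] at hi
      rcases c.shapeP.hz ψ with e | e | e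
      · -- degree `p (q - 1)`
        have hd : Char.degree ψ = p * (q - 1) := by
          have : (Char.degree ψ : ℤ) = (p : ℤ) * ((q - 1 : ℕ) : ℤ) := by
            rw [hq1, hj, e, show j = (q : ℤ) - 1 by omega]; ring
          exact_mod_cast this
        have := (eq_irr_of_exhaust hM hD hB hMψ (by omega)).2.1
        omega
      · -- degree `p (q - 2) + 1`
        have hd : Char.degree ψ + p = p * (q - 1) + 1 := by
          have : (Char.degree ψ : ℤ) + p = (p : ℤ) * ((q - 1 : ℕ) : ℤ) + 1 := by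
            rw [hq1, hj, e, show j = (q : ℤ) - 2 by omega]; ring
          exact_mod_cast this
        have hx0 := isCharacter_sub_irr hY ψ (a := 1) (hMi ψ) (Nat.pos_of_ne_zero hMψ)
        rw [Nat.cast_one, one_smul] at hx0
        set ξ := YY G Ω - ψ.1 with hξ
        have hξ1 : ξ 1 = ((p : ℕ) : ℂ) := by
          rw [hξ, Pi.sub_apply, hD, Char.apply_one_eq_degree, ← hd, Nat.cast_add]; ring
        obtain ⟨K, hK, hKi⟩ := Char.IsCharacter.exists_decomp hx0
        have hKM : ∀ φ, K φ ≠ 0 → M' φ ≠ 0 := fun φ hKφ hMφ => by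
          have h := hKi φ
          rw [hξ, Char.classInner_sub_left, hMi, hMφ, Char.classInner_irr] at h
          split_ifs at h
          · have : ((K φ + 1 : ℕ) : ℂ) = 0 := by push_cast at h ⊢; linear_combination -h
            exact absurd this (Nat.cast_ne_zero.2 (by omega))
          · exact hKφ (by exact_mod_cast (by push_cast at h ⊢; linear_combination -h :
              ((K φ : ℕ) : ℂ) = 0))
        have hKB : ∀ φ, K φ ≠ 0 → 2 * q + 1 ≤ Char.degree φ := fun φ h => hB φ (hKM φ h)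
        obtain ⟨φ, hφ⟩ := exists_ne_zero_of_decomp hK hξ1 hp.out.ne_zero
        obtain ⟨hξφ, hdφ, -⟩ := eq_irr_of_exhaust hK hξ1 hKB hφ (by have := hKB φ hφ; omega)
        have hval1 : ∀ y ∈ (c.Q : Subgroup G), y ≠ 1 → φ.1 y = 1 := fun y hy hy1 => by
          rw [← hξφ, hξ, Pi.sub_apply, c.YY_Q h3 hy hy1, c.shapeQ.val ψ (mem_sdiff.1 hψ).2 y hy hy1, hz]
          push_cast; ring
        have hYi := c.inner_YY h3
        have hψφ : classInner (YY G Ω) φ.1 = (M' φ : ℂ) := hMi φ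
        obtain ⟨hne1, hne2, m, hm, hinner⟩ := c.inner_theta_pos h3 hY (fun ψ' n hn => by
          obtain ⟨k, hk⟩ := Char.IsCharacter.exists_nat_classInner (c.isCharacter_XX h3) (Char.irr_isCharacter ψ')
          exact ⟨k + n, by rw [Char.classInner_add_left, hk, hn, Nat.cast_add], by omega⟩)
          hYi.1 hYi.2 hψφ (hKM φ hφ)
        refine c.no_degree_p h3 hdφ.symm hval1 ?_ hne1 hne2 (m := m)
          (by have := hKM φ hφ; omega) hinner
        have e' : perm G Ω * perm G Ω - perm G Ω - φ.1 =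
            (Char.trivialChar G).1 + ((2 : ℕ) : ℂ) • c.chi.1 + XX G Ω + ψ.1 := by
          rw [c.perm_sub_eq, ← hξφ, hξ, Nat.cast_ofNat]; abel
        rw [e']
        exact Char.IsCharacter.add (Char.IsCharacter.add (Char.IsCharacter.add (Char.irr_isCharacter _)
          (Char.IsCharacter.natCast_smul (Char.irr_isCharacter _) _)) (c.isCharacter_XX h3)) (Char.irr_isCharacter _)
      · omega
  -- all values on `Q - 1` vanish
  have hz0 : ∀ ψ ∈ univ \ c.shapeQ.Y, M' ψ ≠ 0 → c.shapeQ.z ψ = 0 := by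
    intro ψ hψ hMψ
    by_contra hne0
    have hnn : ∀ φ ∈ univ \ c.shapeQ.Y, 0 ≤ (M' φ : ℤ) * c.shapeQ.z φ := fun φ hφ => by
      rcases Nat.eq_zero_or_pos (M' φ) with h0 | h0
      · simp [h0]
      · refine mul_nonneg (Int.natCast_nonneg _) ?_
        rcases c.shapeQ.hz φ with e | e | e
        · omega
        · omega
        · exact absurd ⟨φ, hφ, h0.ne', e⟩ hneg
    exact hne0 ((mul_eq_zero.1 ((Finset.sum_eq_zero_iff_of_nonneg hnn).1 hval.symm ψ hψ)).resolve_left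
      (Int.natCast_ne_zero.2 hMψ))
  have hdvd : ∀ ψ, M' ψ ≠ 0 → (Char.degree ψ : ℤ) ≡ 0 [ZMOD q] := fun ψ h => by
    have hψ : ψ ∈ univ \ c.shapeQ.Y := mem_sdiff.2 ⟨mem_univ _, hout ψ h⟩
    exact hz0 ψ hψ h ▸ c.shapeQ.deg ψ (mem_sdiff.1 hψ).2
  by_cases hpos : ∃ ψ ∈ univ \ c.shapeP.Y, M' ψ ≠ 0 ∧ c.shapeP.z ψ = 1
  · obtain ⟨ψ, hψ, hMψ, hz⟩ := hpos
    refine ⟨ψ, ?_⟩
    obtain ⟨j, hj, hd⟩ := exists_coeff hpq (hz ▸ c.shapeP.deg ψ (mem_sdiff.1 hψ).2) (hdvd ψ hMψ)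
    rw [sub_zero] at hd
    have hdZ : (2 * q + 1 : ℤ) ≤ Char.degree ψ := by exact_mod_cast hB ψ hMψ
    have hjlo : 1 ≤ j := by nlinarith
    have hjhi : (q : ℤ) - 1 ≤ j := by
      have := Int.le_of_dvd (by omega) hd
      omega
    have hge : (p : ℤ) * ((q : ℤ) - 1) + 1 < Char.degree ψ + (2 * q + 1) := by
      rw [hj]; nlinarith
    refine (eq_irr_of_exhaust hM hD hB hMψ ?_).1
    rw [← hq1] at hge
    exact_mod_cast hge
  exfalso
  have hnp : ∑ ψ ∈ univ \ c.shapeP.Y, (M' ψ : ℤ) * c.shapeP.z ψ ≤ 0 :=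
    Finset.sum_nonpos fun ψ hψ => by
      rcases Nat.eq_zero_or_pos (M' ψ) with h0 | h0
      · simp [h0]
      · refine mul_nonpos_of_nonneg_of_nonpos (Int.natCast_nonneg _) ?_
        rcases c.shapeP.hz ψ with e | e | e
        · omega
        · exact absurd ⟨ψ, hψ, h0.ne', e⟩ hpos
        · omega
  have ha'ε : (a' : ℤ) * c.shapeP.ε < 0 := by linarith
  have ha'0 : a' ≠ 0 := fun h => by simp [h] at ha'ε
  have hε : c.shapeP.ε = -1 := c.shapeP.hε.resolve_left fun e => by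
    rw [e] at ha'ε; linarith [Int.natCast_nonneg a']
  obtain ⟨φ, hφ⟩ : c.shapeP.Y.Nonempty := nonempty_iff_ne_empty.2 fun h => ha'0 (ha0' h)
  have hMφ : M' φ ≠ 0 := by rw [ha' φ hφ]; exact ha'0
  have hdP := c.shapeP.Y_deg φ hφ
  rw [hε] at hdP
  obtain ⟨j, hj, hd⟩ := exists_coeff hpq hdP (hdvd φ hMφ)
  have hdZ : (2 * q + 1 : ℤ) ≤ Char.degree φ := by exact_mod_cast hB φ hMφ
  have hj1 : (q : ℤ) ∣ j := by
    have := dvd_add hd (dvd_refl (q : ℤ))
    rwa [show j + -1 * (q : ℤ) - 0 + q = j by ring] at this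
  have hjlo : 1 ≤ j := by nlinarith
  have hjhi : (q : ℤ) ≤ j := Int.le_of_dvd (by omega) hj1
  have h2 : 2 * (Char.degree φ : ℤ) ≤ (p : ℤ) * ((q : ℤ) - 1) + 1 := by
    rw [← hq1]; exact_mod_cast c.pair_le hM hD ha' hφ hMφ
  nlinarith

end Ctx

end Cfsg.Agent.PrimeTwoQ
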