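import Cfsg.Agent.Lib.PrimeTwoQ.Counting
import Cfsg.Agent.Lib.Char.ClassSum
import Cfsg.Agent.Lib.Char.FrobeniusSchur
import Mathlib.LinearAlgebra.Trace
import Mathlib.LinearAlgebra.PID

/-!
# Trace characters of the operators commuting with a permutation representation

* `trM M g = ∑ x, M x (g • x)`, the trace of `M` times the permutation matrix of `g`;
* for an invariant idempotent it is a character;
* if it misses an irreducible character `ψ`, the idempotent annihilates the average of `conj ψ`.
-/

set_option autoImplicit false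
set_option linter.unusedSectionVars false
set_option linter.style.haveILetI false

namespace Cfsg.Agent.PrimeTwoQ

open MulAction Finset Matrix
open scoped Classical ComplexConjugate

universe u v

variable {H : Type u} [Group H] [Fintype H] {S : Type v} [Fintype S] [MulAction H S]

/-- The permutation matrix. -/
noncomputable def pmat (S : Type v) [MulAction H S] (g : H) : Matrix S S ℂ :=
  fun i j => if i = g • j then 1 else 0

/-- The trace of a matrix times a permutation matrix. -/
def trM (M : Matrix S S ℂ) (g : H) : ℂ := ∑ x, M x (g • x)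

variable (H) in
/-- Invariance of a matrix. -/
def MInv (M : Matrix S S ℂ) : Prop := ∀ (g : H) (x y : S), M (g • x) (g • y) = M x y

theorem pmat_one : pmat S (1 : H) = 1 := by
  ext i j
  simp [pmat, Matrix.one_apply]

theorem pmat_mul (g h : H) : pmat S (g * h) = pmat S g * pmat S h := by
  ext i j
  simp only [pmat, Matrix.mul_apply, mul_smul]
  rw [Finset.sum_eq_single (h • j) (fun x _ hx => by simp [hx]) (by simp)]
  simp

theorem mul_pmat_apply (M : Matrix S S ℂ) (g : H) (i j : S) : (M * pmat S g) i j = M i (g • j) := by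
  simp [Matrix.mul_apply, pmat]

theorem trace_mul_pmat (M : Matrix S S ℂ) (g : H) : (M * pmat S g).trace = trM M g := by
  simp [Matrix.trace, trM, mul_pmat_apply]

theorem pmat_mul_apply (M : Matrix S S ℂ) (g : H) (i j : S) :
    (pmat S g * M) i j = M (g⁻¹ • i) j := by
  simp only [Matrix.mul_apply, pmat]
  rw [Finset.sum_eq_single (g⁻¹ • i) (fun x _ hx => ?_) (by simp)]
  · simp
  · rw [if_neg fun h => hx (by rw [h, inv_smul_smul]), zero_mul]

theorem MInv.comm {M : Matrix S S ℂ} (hM : MInv H M) (g : H) : pmat S g * M = M * pmat S g := by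
  ext i j
  rw [pmat_mul_apply, mul_pmat_apply]
  conv_rhs => rw [← smul_inv_smul g i]
  exact (hM g _ _).symm

theorem MInv.mul {M N : Matrix S S ℂ} (hM : MInv H M) (hN : MInv H N) : MInv H (M * N) := by
  intro g x y
  simp only [Matrix.mul_apply]
  rw [← Equiv.sum_comp (MulAction.toPerm g)]
  exact Finset.sum_congr rfl fun z _ => by simp [hM g, hN g]

theorem MInv.add {M N : Matrix S S ℂ} (hM : MInv H M) (hN : MInv H N) : MInv H (M + N) :=
  fun g x y => by simp [hM g, hN g]

theorem MInv.sub {M N : Matrix S S ℂ} (hM : MInv H M) (hN : MInv H N) : MInv H (M - N) :=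
  fun g x y => by simp [hM g, hN g]

theorem MInv.smul {M : Matrix S S ℂ} (hM : MInv H M) (c : ℂ) : MInv H (c • M) :=
  fun g x y => by simp [hM g]

theorem MInv.one : MInv H (1 : Matrix S S ℂ) := fun g x y => by simp [Matrix.one_apply]

theorem trM_add (M N : Matrix S S ℂ) (g : H) : trM (M + N) g = trM M g + trM N g := by
  simp [trM, Finset.sum_add_distrib]

theorem trM_sub (M N : Matrix S S ℂ) (g : H) : trM (M - N) g = trM M g - trM N g := by
  simp [trM, Finset.sum_sub_distrib]

theorem trM_smul (c : ℂ) (M : Matrix S S ℂ) (g : H) : trM (c • M) g = c * trM M g := by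
  simp [trM, Finset.mul_sum]

theorem trM_one (g : H) : trM (1 : Matrix S S ℂ) g = (nfix S g : ℂ) := by
  simp [trM, nfix, Matrix.one_apply, eq_comm]

theorem trM_apply_one (M : Matrix S S ℂ) : trM M (1 : H) = M.trace := by
  simp [trM, Matrix.trace]

theorem MInv.isClassFunction {M : Matrix S S ℂ} (hM : MInv H M) :
    IsClassFunction H (trM (H := H) M) := by
  intro g h
  rw [trM, trM, ← Equiv.sum_comp (MulAction.toPerm h) fun x => M x ((h * g * h⁻¹) • x)]
  refine Finset.sum_congr rfl fun x _ => ?_
  simp [mul_smul, hM h]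

/-- The permutation representation as matrices. -/
noncomputable def pmatRep (H : Type u) (S : Type v) [Group H] [Fintype H] [Fintype S] [MulAction H S] :
    Representation ℂ H (S → ℂ) where
  toFun g := Matrix.toLin' (pmat S g)
  map_one' := by rw [pmat_one, Matrix.toLin'_one]; rfl
  map_mul' g h := by rw [pmat_mul, Matrix.toLin'_mul]; rfl

/-- An invariant idempotent gives a character. -/
theorem MInv.isCharacter {E : Matrix S S ℂ} (hE : MInv H E) (hid : E * E = E) :
    IsCharacter H (trM (H := H) E) := by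
  let K : Subrepresentation (pmatRep H S) :=
    { toSubmodule := LinearMap.range (Matrix.toLin' E)
      apply_mem_toSubmodule := fun g w hw => by
        obtain ⟨v, rfl⟩ := hw
        refine ⟨Matrix.toLin' (pmat S g) v, ?_⟩
        show Matrix.toLin' E (Matrix.toLin' (pmat S g) v) = Matrix.toLin' (pmat S g) (Matrix.toLin' E v)
        rw [← LinearMap.comp_apply, ← Matrix.toLin'_mul, ← LinearMap.comp_apply, ← Matrix.toLin'_mul,
          hE.comm] }
  suffices h : K.toRepresentation.character = trM (H := H) E by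
    rw [← h]; exact Char.isCharacter_character _
  funext g
  have hfix : ∀ w ∈ K.toSubmodule, Matrix.toLin' E w = w := by
    rintro w ⟨v, rfl⟩
    rw [← LinearMap.comp_apply, ← Matrix.toLin'_mul, hid]
  have hmem : ∀ w, (pmatRep H S g ∘ₗ Matrix.toLin' E) w ∈ K.toSubmodule := fun w =>
    K.apply_mem_toSubmodule g ⟨w, rfl⟩
  have h1 : LinearMap.trace ℂ K.toSubmodule (K.toRepresentation g) =
      LinearMap.trace ℂ _ (pmatRep H S g ∘ₗ Matrix.toLin' E) := by
    rw [← LinearMap.trace_restrict_eq_of_forall_mem K.toSubmodule _ hmem]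
    congr 1
    refine LinearMap.ext fun w => Subtype.ext ?_
    show pmatRep H S g (w : S → ℂ) = pmatRep H S g (Matrix.toLin' E w)
    rw [hfix w w.2]
  refine h1.trans ?_
  rw [show pmatRep H S g ∘ₗ Matrix.toLin' E = Matrix.toLin' (pmat S g * E) from
    (Matrix.toLin'_mul _ _).symm, Matrix.trace_toLin'_eq, hE.comm, trace_mul_pmat]

variable (S) in
/-- The average of the conjugate of a function over the permutation matrices. -/
noncomputable def avg (ψ : H → ℂ) : Matrix S S ℂ := ∑ g : H, conj (ψ g) • pmat S g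

theorem trace_mul_avg (M : Matrix S S ℂ) (ψ : H → ℂ) :
    (M * avg S ψ).trace = ∑ g : H, trM M g * conj (ψ g) := by
  simp [avg, Matrix.mul_sum, Matrix.trace_sum, trace_mul_pmat, mul_comm]

theorem classInner_trM (M : Matrix S S ℂ) (ψ : H → ℂ) :
    classInner (trM (H := H) M) ψ = (Nat.card H : ℂ)⁻¹ * (M * avg S ψ).trace := by
  rw [trace_mul_avg, classInner]

theorem MInv.comm_avg {M : Matrix S S ℂ} (hM : MInv H M) (ψ : H → ℂ) :
    avg S ψ * M = M * avg S ψ := by
  simp [avg, Matrix.sum_mul, Matrix.mul_sum, hM.comm]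

/-- The convolution square of an irreducible character. -/
theorem sum_conj_mul_conj {ψ : H → ℂ} (hψ : IsIrrCharacter H ψ) (y : H) :
    ψ 1 * ∑ g : H, conj (ψ g) * conj (ψ (g⁻¹ * y)) = (Nat.card H : ℂ) * conj (ψ y) := by
  have h := congrArg conj (Char.sum_irr_mul_conj_conj hψ y)
  obtain ⟨d, hd⟩ := Char.IsCharacter.apply_one (Char.IsIrrCharacter.isCharacter hψ)
  simp only [map_mul, map_sum, Complex.conj_conj, hd, Complex.conj_natCast] at h ⊢
  rw [← h]
  congr 1
  refine Fintype.sum_equiv (Equiv.inv H) _ _ fun g => ?_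
  simp only [Equiv.inv_apply]
  rw [Char.IsCharacter.conj_apply (Char.IsIrrCharacter.isCharacter hψ)]

theorem avg_mul_avg {ψ : H → ℂ} (hψ : IsIrrCharacter H ψ) :
    (ψ 1) • (avg S ψ * avg S ψ) = (Nat.card H : ℂ) • avg S ψ := by
  rw [avg, Finset.sum_mul]
  simp only [Finset.mul_sum, smul_mul_smul_comm, ← pmat_mul]
  rw [Finset.sum_congr rfl fun g _ => Fintype.sum_equiv (Equiv.mulLeft g) _
    (fun y => (conj (ψ g) * conj (ψ (g⁻¹ * y))) • pmat S y) (fun h => by simp), Finset.sum_comm,
    Finset.smul_sum, Finset.smul_sum]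
  refine Finset.sum_congr rfl fun y _ => ?_
  rw [← Finset.sum_smul, smul_smul, smul_smul, sum_conj_mul_conj hψ]

/-- An invariant idempotent missing `ψ` annihilates its average. -/
theorem MInv.mul_avg_eq_zero {E : Matrix S S ℂ} (hE : MInv H E) (hid : E * E = E) {ψ : H → ℂ}
    (hψ : IsIrrCharacter H ψ) (h0 : classInner (trM (H := H) E) ψ = 0) : E * avg S ψ = 0 := by
  have hd := Char.IsIrrCharacter.apply_one_ne_zero hψ
  have hG : (Nat.card H : ℂ) ≠ 0 := Nat.cast_ne_zero.2 Nat.card_pos.ne'
  set c := ψ 1 / (Nat.card H : ℂ)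
  set P := c • (E * avg S ψ) with hP
  have hc : c ≠ 0 := div_ne_zero hd hG
  have hPP : P * P = P := by
    have hcomm : avg S ψ * E = E * avg S ψ := hE.comm_avg ψ
    rw [hP, smul_mul_smul_comm, mul_assoc, ← mul_assoc (avg S ψ) E, hcomm, mul_assoc,
      ← mul_assoc E E, hid, ← smul_smul, ← mul_smul_comm c E (avg S ψ * avg S ψ)]
    congr 2
    rw [show c = (Nat.card H : ℂ)⁻¹ * ψ 1 from by simp only [c]; field_simp,
      ← smul_smul, avg_mul_avg hψ, smul_smul, inv_mul_cancel₀ hG, one_smul]
  have h1 : P.trace = 0 := by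
    rw [classInner_trM, mul_eq_zero] at h0
    rw [hP, Matrix.trace_smul, h0.resolve_left (inv_ne_zero hG), smul_zero]
  have h2 := Char.idempotent_matrix_of_trace_zero hPP h1
  rwa [hP, smul_eq_zero, or_iff_right hc] at h2

end Cfsg.Agent.PrimeTwoQ
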